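import Mathlib
import Cfsg.Prelude.Def_LieExceptional

/-! The Suzuki group inside `SL₄`: field facts and the generating elements. (helper4) -/

set_option autoImplicit false

namespace CfsgLib.Suzuki

open Cfsg Matrix
open scoped Pointwise

/-- The standing hypothesis on the field. -/
structure Hyp (F : Type*) [Field F] [Fintype F] (m : ℕ) : Prop where
  one_le : 1 ≤ m
  card : Fintype.card F = 2 ^ (2 * m + 1)

variable {F : Type*} [Field F]

/-- `t ↦ t^(2^(m+1))`. -/
def sg (m : ℕ) (x : F) : F := x ^ 2 ^ (m + 1)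

/-- first coordinate of an affine ovoid point. -/
def fo (m : ℕ) (x y : F) : F := x * y + x ^ 2 * sg m x + sg m y

/-- coordinates of an affine ovoid point. -/
def vP (m : ℕ) (x y : F) : Fin 4 → F := ![fo m x y, y, x, 1]

theorem vP_ne (m : ℕ) (x y : F) : vP m x y ≠ 0 := fun h => by simpa [vP] using congrFun h 3

/-- coordinates of the point at infinity. -/
def vI : Fin 4 → F := ![1, 0, 0, 0]

theorem vI_ne : (vI : Fin 4 → F) ≠ 0 := fun h => by simpa [vI] using congrFun h 0

/-- affine ovoid points. -/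
def P (m : ℕ) (x y : F) : Projectivization F (Fin 4 → F) := Projectivization.mk F (vP m x y) (vP_ne m x y)

/-- the point at infinity. -/
def I (F : Type*) [Field F] : Projectivization F (Fin 4 → F) := Projectivization.mk F vI vI_ne

theorem pointInfinity_eq : suzukiPointInfinity F = I F := rfl

theorem sg_one (m : ℕ) : sg m (1 : F) = 1 := one_pow _
theorem sg_mul (m : ℕ) (x y : F) : sg m (x * y) = sg m x * sg m y := mul_pow _ _ _
theorem sg_zero (m : ℕ) : sg m (0 : F) = 0 := zero_pow (by positivity)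
theorem sg_inv (m : ℕ) (x : F) : sg m x⁻¹ = (sg m x)⁻¹ := inv_pow _ _

theorem pointZero_eq (m : ℕ) : suzukiPointZero F = P m 0 0 := by
  unfold suzukiPointZero P
  congr 1
  simp [vP, fo, sg_zero]

theorem mem_ovoid {m : ℕ} {p : Projectivization F (Fin 4 → F)} :
    p ∈ suzukiOvoid F m ↔ p = I F ∨ ∃ x y, p = P m x y := by
  have e : ∀ x y : F, x * y + x ^ (2 ^ (m + 1) + 2) + y ^ (2 ^ (m + 1)) = fo m x y := by
    intro x y; simp [fo, sg, pow_add]; ring
  constructor
  · rintro ⟨v, hv, rfl, rfl | ⟨x, y, rfl⟩⟩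
    · exact Or.inl rfl
    · exact Or.inr ⟨x, y, by unfold P; congr 1; rw [vP, e]⟩
  · rintro (rfl | ⟨x, y, rfl⟩)
    · exact ⟨_, vI_ne, rfl, Or.inl rfl⟩
    · exact ⟨_, vP_ne m x y, rfl, Or.inr ⟨x, y, by rw [vP, e]⟩⟩

theorem I_mem (m : ℕ) : I F ∈ suzukiOvoid F m := mem_ovoid.mpr (Or.inl rfl)
theorem P_mem (m : ℕ) (x y : F) : P m x y ∈ suzukiOvoid F m := mem_ovoid.mpr (Or.inr ⟨x, y, rfl⟩)

theorem P_ne_I (m : ℕ) (x y : F) : P m x y ≠ I F := fun h => by
  obtain ⟨u, hu⟩ := (Projectivization.mk_eq_mk_iff' F _ _ _ _).mp h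
  simpa [vP, vI] using congrFun hu 3

theorem P_inj {m : ℕ} {x y x' y' : F} (h : P m x y = P m x' y') : x = x' ∧ y = y' := by
  obtain ⟨u, hu⟩ := (Projectivization.mk_eq_mk_iff' F _ _ _ _).mp h
  have h3 := congrFun hu 3
  have h2 := congrFun hu 2
  have h1 := congrFun hu 1
  simp [vP] at h3 h2 h1
  subst h3
  simp only [one_mul] at h1 h2
  exact ⟨h2.symm, h1.symm⟩

variable [Fintype F] {m : ℕ}

namespace Hyp

variable (h : Hyp F m)
include h

theorem charP : CharP F 2 := charP_of_card_eq_prime_pow h.card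

theorem two : (2 : F) = 0 := by
  have := h.charP
  exact CharTwo.two_eq_zero

theorem three_le_q : 3 ≤ Fintype.card F := by
  rw [h.card]
  calc 3 ≤ 2 ^ 3 := by norm_num
    _ ≤ _ := Nat.pow_le_pow_right (by norm_num) (by have := h.one_le; omega)

theorem sg_add (x y : F) : sg m (x + y) = sg m x + sg m y := by
  have := h.charP
  exact add_pow_char_pow ..

theorem sg_sg (x : F) : sg m (sg m x) = x ^ 2 := by
  simp only [sg, ← pow_mul, ← pow_add]
  rw [show m + 1 + (m + 1) = (2 * m + 1) + 1 by ring, pow_succ, pow_mul, ← h.card, FiniteField.pow_card]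

theorem sg_inj {x y : F} (e : sg m x = sg m y) : x = y := by
  have := h.charP
  have e2 := congrArg (sg m) e
  rw [h.sg_sg, h.sg_sg] at e2
  exact CharTwo.sq_injective e2

theorem sg_fixed {x : F} (e : sg m x = x) : x = 0 ∨ x = 1 := by
  have e2 := congrArg (sg m) e
  rw [h.sg_sg, e] at e2
  rcases mul_eq_zero.mp (show x * (x - 1) = 0 by linear_combination e2) with h0 | h0
  · exact Or.inl h0
  · exact Or.inr (sub_eq_zero.mp h0)

theorem exists_gt : ∃ a : F, a ≠ 0 ∧ a ≠ 1 := by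
  classical
  by_contra hc
  push Not at hc
  have : Fintype.card F ≤ ({0, 1} : Finset F).card := Finset.card_le_card fun a _ => by
    rcases eq_or_ne a 0 with h0 | h0
    · simp [h0]
    · simp [hc a h0]
  have := h.three_le_q
  have h2 : ({0, 1} : Finset F).card ≤ 2 := Finset.card_le_two
  omega

/-- the norm-like form is anisotropic. -/
theorem fo_eq_zero {x y : F} (e : fo m x y = 0) : x = 0 ∧ y = 0 := by
  have h2 := h.two
  rcases eq_or_ne x 0 with rfl | hx
  · refine ⟨rfl, h.sg_inj ?_⟩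
    simpa [fo, sg_zero] using e
  · exfalso
    have hsx : sg m x ≠ 0 := pow_ne_zero _ hx
    set t := y / (x * sg m x) with ht
    have hy : y = t * (x * sg m x) := by rw [ht]; field_simp
    rw [fo, hy, sg_mul, sg_mul, h.sg_sg] at e
    have e' : t + 1 + sg m t = 0 := by
      have : x ^ 2 * sg m x * (t + 1 + sg m t) = 0 := by linear_combination e
      exact (mul_eq_zero.mp this).resolve_left (mul_ne_zero (pow_ne_zero _ hx) hsx)
    have e1 : sg m t = t + 1 := by linear_combination e' - (t + 1) * h2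
    have e2 := congrArg (sg m) e1
    rw [h.sg_sg, h.sg_add, sg_one, e1] at e2
    have e3 : t * (t - 1) = 0 := by linear_combination e2 + h2
    rcases mul_eq_zero.mp e3 with h0 | h0
    · rw [h0, sg_zero] at e1; exact one_ne_zero (by linear_combination -e1)
    · rw [sub_eq_zero.mp h0, sg_one] at e1; exact one_ne_zero (by linear_combination -e1)

end Hyp

/-- the matrix of the translation to `(a,b)`. -/
def tM (m : ℕ) (a b : F) : Matrix (Fin 4) (Fin 4) F :=
  !![1, a, b + a * sg m a, fo m a b; 0, 1, sg m a, b; 0, 0, 1, a; 0, 0, 0, 1]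

/-- translations. -/
def tS (m : ℕ) (a b : F) : SpecialLinearGroup (Fin 4) F :=
  ⟨tM m a b, by simp [tM, Matrix.det_succ_column_zero, Fin.sum_univ_succ]⟩

/-- `d^(2^m)`, a square root of `sg d`. -/
def rd (m : ℕ) (d : F) : F := d ^ 2 ^ m

omit [Fintype F] in
theorem rd_mul_self (m : ℕ) (d : F) : rd m d * rd m d = sg m d := by
  rw [rd, sg, ← pow_add]; congr 1; rw [pow_succ]; ring

omit [Fintype F] in
theorem rd_ne (m : ℕ) (d : Fˣ) : rd m (d : F) ≠ 0 := pow_ne_zero _ d.ne_zero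

/-- the matrix of a torus element. -/
def hM (m : ℕ) (d : F) : Matrix (Fin 4) (Fin 4) F :=
  Matrix.diagonal ![rd m d * d, rd m d, (rd m d)⁻¹, (rd m d * d)⁻¹]

omit [Fintype F] in
theorem hM_det (m : ℕ) (d : Fˣ) : (hM m (d : F)).det = 1 := by
  have hr := rd_ne m d
  have hd := d.ne_zero
  simp [hM, Matrix.det_diagonal, Fin.prod_univ_four]
  field_simp

omit [Fintype F] in
theorem hM_one (m : ℕ) : hM m (1 : F) = 1 := by
  ext i j; fin_cases i <;> fin_cases j <;> simp [hM, rd]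

omit [Fintype F] in
theorem hM_mul (m : ℕ) (d e : F) : hM m (d * e) = hM m d * hM m e := by
  rw [hM, hM, hM, Matrix.diagonal_mul_diagonal]
  congr 1
  funext i; fin_cases i <;> simp [rd, mul_pow] <;> ring

/-- the torus. -/
def hS (m : ℕ) : Fˣ →* SpecialLinearGroup (Fin 4) F where
  toFun d := ⟨hM m (d : F), hM_det m d⟩
  map_one' := Subtype.ext (hM_one m)
  map_mul' d e := Subtype.ext (hM_mul m (d : F) (e : F))

/-- the coordinate reversal. -/
def wS : SpecialLinearGroup (Fin 4) F :=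
  ⟨!![0, 0, 0, 1; 0, 0, 1, 0; 0, 1, 0, 0; 1, 0, 0, 0], by
    simp [Matrix.det_succ_row_zero, Fin.sum_univ_succ, Fin.succAbove]; norm_num⟩

omit [Fintype F] in
theorem smul_mk' (g : SpecialLinearGroup (Fin 4) F) (v : Fin 4 → F) (hv : v ≠ 0) (w : Fin 4 → F) (hw : w ≠ 0)
    (c : F) (e : (g : Matrix (Fin 4) (Fin 4) F) *ᵥ v = c • w) :
    g • Projectivization.mk F v hv = Projectivization.mk F w hw := by
  rw [Projectivization.smul_mk, Projectivization.mk_eq_mk_iff']
  exact ⟨c, e.symm⟩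

omit [Fintype F] in
theorem tS_I (a b : F) : tS m a b • I F = I F :=
  smul_mk' _ _ _ _ _ 1 (by
    funext i; fin_cases i <;> simp [tS, tM, vI, Matrix.mulVec, dotProduct, Fin.sum_univ_four])

theorem Hyp.fo_tr (h : Hyp F m) (a b x y : F) :
    fo m (x + a) (y + sg m a * x + b) = fo m x y + a * y + (b + a * sg m a) * x + fo m a b := by
  simp only [fo, h.sg_add, sg_mul, h.sg_sg]
  linear_combination (sg m a * x ^ 2 + a ^ 2 * sg m x + x * a * sg m x + x * a * sg m a) * h.two

theorem Hyp.tS_P (h : Hyp F m) (a b x y : F) : tS m a b • P m x y = P m (x + a) (y + sg m a * x + b) :=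
  smul_mk' _ _ _ _ _ 1 (by
    funext i; fin_cases i <;> simp [tS, tM, vP, Matrix.mulVec, dotProduct, Fin.sum_univ_four, h.fo_tr]
    all_goals ring)

omit [Fintype F] in
theorem hS_I (d : Fˣ) : hS m d • I F = I F :=
  smul_mk' _ _ _ _ _ (rd m (d : F) * d) (by
    funext i; show (hM m (d : F) *ᵥ vI) i = _; fin_cases i <;> simp [hM, vI, Matrix.mulVec_diagonal])

theorem Hyp.hS_P (h : Hyp F m) (d : Fˣ) (x y : F) :
    hS m d • P m x y = P m ((d : F) * x) ((d : F) * sg m (d : F) * y) :=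
  smul_mk' _ _ _ _ _ (rd m (d : F) * d)⁻¹ (by
    have hr := rd_ne m d
    have hd := d.ne_zero
    have hs : sg m (d : F) = rd m (d : F) * rd m (d : F) := (rd_mul_self m _).symm
    have hf : fo m ((d : F) * x) ((d : F) * sg m (d : F) * y) = (d : F) ^ 2 * sg m (d : F) * fo m x y := by
      simp only [fo, sg_mul, h.sg_sg]; ring
    rw [hs] at hf ⊢
    funext i; show (hM m (d : F) *ᵥ vP m x y) i = _; fin_cases i <;> simp [hM, vP, Matrix.mulVec_diagonal, hf] <;> field_simp)

omit [Fintype F] in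
theorem wS_I : (wS : SpecialLinearGroup (Fin 4) F) • I F = P m (0 : F) 0 :=
  smul_mk' _ _ _ _ _ 1 (by
    funext i; fin_cases i <;> simp [wS, vI, vP, fo, sg_zero, Matrix.mulVec, dotProduct, Fin.sum_univ_four])

omit [Fintype F] in
theorem wS_P0 : (wS : SpecialLinearGroup (Fin 4) F) • P m (0 : F) 0 = I F :=
  smul_mk' _ _ _ _ _ 1 (by
    funext i; fin_cases i <;> simp [wS, vI, vP, fo, sg_zero, Matrix.mulVec, dotProduct, Fin.sum_univ_four])

theorem Hyp.fo_w (h : Hyp F m) (x y : F) (hf : fo m x y ≠ 0) :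
    fo m (y / fo m x y) (x / fo m x y) = (fo m x y)⁻¹ := by
  have hsf : sg m (fo m x y) ≠ 0 := pow_ne_zero _ hf
  have key : x * y * sg m (fo m x y) + y ^ 2 * sg m y + sg m x * (fo m x y) ^ 2 =
      fo m x y * sg m (fo m x y) := by
    simp only [fo, h.sg_add, sg_mul, h.sg_sg, show sg m (x ^ 2) = (sg m x) ^ 2 by simp [sg, ← pow_mul, mul_comm]]
    linear_combination (x ^ 3 * (sg m x) ^ 2 * y + x * sg m x * y * sg m y) * h.two
  generalize hF : fo m x y = f at *
  rw [fo, div_eq_mul_inv, div_eq_mul_inv, sg_mul, sg_mul, sg_inv]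
  field_simp
  linear_combination key

theorem Hyp.wS_P (h : Hyp F m) {x y : F} (hxy : x ≠ 0 ∨ y ≠ 0) :
    (wS : SpecialLinearGroup (Fin 4) F) • P m x y = P m (y / fo m x y) (x / fo m x y) := by
  have hf : fo m x y ≠ 0 := fun e => by rcases h.fo_eq_zero e with ⟨rfl, rfl⟩; simp at hxy
  refine smul_mk' _ _ _ _ _ (fo m x y) ?_
  funext i; fin_cases i <;>
    simp [wS, vP, h.fo_w x y hf, Matrix.mulVec, dotProduct, Fin.sum_univ_four] <;> field_simp

theorem mem_Sz_of_maps {g : SpecialLinearGroup (Fin 4) F}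
    (hg : ∀ p ∈ suzukiOvoid F m, g • p ∈ suzukiOvoid F m) : g ∈ Cfsg.Sz F m := by
  have : Finite (Projectivization F (Fin 4 → F)) :=
    Finite.of_surjective (fun v : {v : Fin 4 → F // v ≠ 0} => Projectivization.mk F v.1 v.2)
      (fun p => ⟨⟨p.rep, p.rep_nonzero⟩, p.mk_rep⟩)
  rw [MulAction.mem_stabilizer_iff]
  refine Set.eq_of_subset_of_ncard_le ?_ ?_ (Set.toFinite _)
  · rintro _ ⟨p, hp, rfl⟩; exact hg p hp
  · rw [← Set.image_smul, Set.ncard_image_of_injective _ (MulAction.injective g)]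

theorem maps_of_mem {g : SpecialLinearGroup (Fin 4) F} (hg : g ∈ Cfsg.Sz F m) {p : Projectivization F (Fin 4 → F)}
    (hp : p ∈ suzukiOvoid F m) : g • p ∈ suzukiOvoid F m := by
  have := MulAction.mem_stabilizer_iff.mp hg
  rw [← this]
  exact Set.smul_mem_smul_set hp

theorem Hyp.tS_mem (h : Hyp F m) (a b : F) : tS m a b ∈ Cfsg.Sz F m :=
  mem_Sz_of_maps fun p hp => by
    rcases mem_ovoid.mp hp with rfl | ⟨x, y, rfl⟩
    · rw [tS_I]; exact I_mem m
    · rw [h.tS_P]; exact P_mem _ _ _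

theorem Hyp.hS_mem (h : Hyp F m) (d : Fˣ) : hS m d ∈ Cfsg.Sz F m :=
  mem_Sz_of_maps fun p hp => by
    rcases mem_ovoid.mp hp with rfl | ⟨x, y, rfl⟩
    · rw [hS_I]; exact I_mem m
    · rw [h.hS_P]; exact P_mem _ _ _

theorem Hyp.wS_mem (h : Hyp F m) : (wS : SpecialLinearGroup (Fin 4) F) ∈ Cfsg.Sz F m :=
  mem_Sz_of_maps fun p hp => by
    rcases mem_ovoid.mp hp with rfl | ⟨x, y, rfl⟩
    · rw [wS_I (m := m)]; exact P_mem _ _ _
    · by_cases hxy : x = 0 ∧ y = 0
      · obtain ⟨rfl, rfl⟩ := hxy; rw [wS_P0]; exact I_mem m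
      · rw [h.wS_P (not_and_or.mp hxy)]; exact P_mem _ _ _

end CfsgLib.Suzuki
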