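import Cfsg.Agent.Lib.Suzuki.MinDegree
import Cfsg.Prelude.Def_KGroupFacts
import Mathlib.FieldTheory.Finite.GaloisField
import Mathlib.FieldTheory.Galois.Basic

/-! The outer automorphisms of a Suzuki group are the field automorphisms (owner helper8). -/
set_option autoImplicit false
set_option linter.all false

namespace CfsgLib.Suzuki

open Cfsg (suzukiOvoid)
open Matrix (SpecialLinearGroup)
open scoped Matrix

variable {F : Type*} [Field F] [Fintype F] {m : ℕ}

theorem map_sg (τ : F ≃+* F) (x : F) : τ (sg m x) = sg m (τ x) := map_pow τ _ _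

theorem map_vI (τ : F ≃+* F) : (τ ∘ (vI : Fin 4 → F)) = vI := by
  funext i; fin_cases i <;> simp [vI]

theorem map_vP (τ : F ≃+* F) (x y : F) : τ ∘ vP m x y = vP m (τ x) (τ y) := by
  funext i; fin_cases i <;> simp [vP, fo, map_sg]

theorem map_mem (τ : F ≃+* F) {g : SpecialLinearGroup (Fin 4) F} (hg : g ∈ Cfsg.Sz F m) :
    SpecialLinearGroup.map (τ : F →+* F) g ∈ Cfsg.Sz F m := by
  refine mem_Sz_of_maps fun p hp => ?_
  have key : ∀ (v : Fin 4 → F) (hv : v ≠ 0) (hτv : τ ∘ v ≠ 0), Projectivization.mk F v hv ∈ suzukiOvoid F m →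
      SpecialLinearGroup.map (τ : F →+* F) g • Projectivization.mk F (τ ∘ v) hτv ∈ suzukiOvoid F m := by
    intro v hv hτv hmem
    have him := maps_of_mem hg hmem
    rw [Projectivization.smul_mk] at him
    have step : ∀ w : Fin 4 → F, ∀ c : F, c • w = (g : Matrix (Fin 4) (Fin 4) F) *ᵥ v →
        (SpecialLinearGroup.map (τ : F →+* F) g : Matrix (Fin 4) (Fin 4) F) *ᵥ (τ ∘ v) = τ c • (τ ∘ w) := by
      intro w c e
      funext i
      have := congrArg τ (congrFun e i)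
      simp only [Pi.smul_apply, smul_eq_mul, map_mul, Matrix.mulVec, dotProduct, map_sum] at this
      simp only [Matrix.mulVec, dotProduct, Pi.smul_apply, smul_eq_mul, Function.comp_apply]
      exact this.symm
    rcases mem_ovoid.mp him with e | ⟨x, y, e⟩
    · unfold I at e
      obtain ⟨c, hc⟩ := (Projectivization.mk_eq_mk_iff' _ _ _ _ _).1 e
      rw [smul_mk' _ _ hτv (τ ∘ vI) (by rw [map_vI]; exact vI_ne) (τ c) (step vI c hc)]
      simp only [map_vI]
      exact I_mem m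
    · unfold P at e
      obtain ⟨c, hc⟩ := (Projectivization.mk_eq_mk_iff' _ _ _ _ _).1 e
      rw [smul_mk' _ _ hτv (τ ∘ vP m x y) (by rw [map_vP]; exact vP_ne m _ _) (τ c) (step _ c hc)]
      simp only [map_vP]
      exact P_mem m _ _
  rcases mem_ovoid.mp hp with rfl | ⟨x, y, rfl⟩
  · have := key vI vI_ne (by rw [map_vI]; exact vI_ne) (I_mem m)
    simp only [map_vI] at this
    exact this
  · have := key (vP m (τ.symm x) (τ.symm y)) (vP_ne m _ _) (by rw [map_vP]; exact vP_ne m _ _) (P_mem m _ _)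
    simp only [map_vP, RingEquiv.apply_symm_apply] at this
    exact this

theorem map_map_symm (τ : F ≃+* F) (g : SpecialLinearGroup (Fin 4) F) :
    SpecialLinearGroup.map (τ.symm : F →+* F) (SpecialLinearGroup.map (τ : F →+* F) g) = g := by
  ext i j; simp

/-- the field automorphism of the Suzuki group -/
def fieldAut (m : ℕ) (τ : F ≃+* F) : MulAut (Cfsg.Sz F m) where
  toFun g := ⟨_, map_mem τ g.2⟩
  invFun g := ⟨_, map_mem τ.symm g.2⟩
  left_inv g := Subtype.ext (map_map_symm τ g.1)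
  right_inv g := Subtype.ext (map_map_symm τ.symm g.1)
  map_mul' x y := Subtype.ext (map_mul (SpecialLinearGroup.map (τ : F →+* F)) x.1 y.1)

namespace Hyp

variable (h : Hyp F m)
include h

theorem fieldAut_tG (τ : F ≃+* F) (a b : F) : fieldAut m τ (h.tG a b) = h.tG (τ a) (τ b) := by
  apply Subtype.ext; apply Subtype.ext
  ext i j
  show τ (tM m a b i j) = tM m (τ a) (τ b) i j
  fin_cases i <;> fin_cases j <;> simp [tM, fo, map_sg]

theorem fieldAut_hG (τ : F ≃+* F) (d : Fˣ) : fieldAut m τ (h.hG d) = h.hG (Units.map τ.toMonoidHom d) := by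
  apply Subtype.ext; apply Subtype.ext
  ext i j
  show τ (hM m (d : F) i j) = hM m (τ d) i j
  fin_cases i <;> fin_cases j <;> simp [hM, rd]

theorem fieldAut_wG (τ : F ≃+* F) : fieldAut m τ h.wG = h.wG := by
  apply Subtype.ext; apply Subtype.ext
  ext i j
  show τ ((wS : SpecialLinearGroup (Fin 4) F).1 i j) = (wS : SpecialLinearGroup (Fin 4) F).1 i j
  fin_cases i <;> fin_cases j <;> simp [coe_wS]

/-! ### points and stabilisers -/

theorem mem_Q_iff {g : Cfsg.Sz F m} : g ∈ h.Q ↔ ∃ a b, g = h.tG a b := Iff.rfl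

theorem tG_mem_Q (a b : F) : h.tG a b ∈ h.Q := ⟨a, b, rfl⟩

theorem smul_tG_I (a b : F) : (h.tG a b : SpecialLinearGroup (Fin 4) F) • I F = I F := tS_I a b

theorem fixed_point {p : Projectivization F (Fin 4 → F)} (hp : p ∈ suzukiOvoid F m)
    (e : (h.tG 0 1 : SpecialLinearGroup (Fin 4) F) • p = p) : p = I F := by
  rcases mem_ovoid.mp hp with rfl | ⟨x, y, rfl⟩
  · rfl
  · rw [coe_tG, h.tS_P] at e
    have := (P_inj e).2
    rw [sg_zero, zero_mul, add_zero] at this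
    exact absurd (add_eq_left.1 this) one_ne_zero

theorem fixes_I {g : Cfsg.Sz F m} (hg : ∀ x ∈ h.Q, g⁻¹ * x * g ∈ h.Q) :
    (g : SpecialLinearGroup (Fin 4) F) • I F = I F := by
  refine h.fixed_point (maps_of_mem g.2 (I_mem m)) ?_
  obtain ⟨a, b, e⟩ := hg _ (h.tG_mem_Q 0 1)
  have e' : h.tG 0 1 * g = g * h.tG a b := by rw [← e]; group
  rw [← mul_smul, ← Subgroup.coe_mul, e', Subgroup.coe_mul, mul_smul, h.smul_tG_I]

theorem stab_I {g : Cfsg.Sz F m} (hg : (g : SpecialLinearGroup (Fin 4) F) • I F = I F) :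
    ∃ a b d, g = h.tG a b * h.hG d := by
  obtain ⟨a, b, d, e⟩ := h.fixI g.2 hg
  exact ⟨a, b, d, Subtype.ext e⟩

theorem conj_Q {g : Cfsg.Sz F m} (hg : (g : SpecialLinearGroup (Fin 4) F) • I F = I F) {x : Cfsg.Sz F m}
    (hx : x ∈ h.Q) : g * x * g⁻¹ ∈ h.Q := by
  obtain ⟨a, b, d, rfl⟩ := h.stab_I hg
  obtain ⟨c, e, rfl⟩ := hx
  rw [show h.tG a b * h.hG d * h.tG c e * (h.tG a b * h.hG d)⁻¹ =
    h.tG a b * (h.hG d * h.tG c e * (h.hG d)⁻¹) * (h.tG a b)⁻¹ by group, h.hG_tG, mul_inv_cancel_right]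
  exact h.Q.mul_mem (h.Q.mul_mem (h.tG_mem_Q _ _) (h.tG_mem_Q _ _)) (h.Q.inv_mem (h.tG_mem_Q _ _))

theorem eq_hG {g : Cfsg.Sz F m} (h1 : (g : SpecialLinearGroup (Fin 4) F) • I F = I F)
    (h2 : (g : SpecialLinearGroup (Fin 4) F) • P m (0 : F) 0 = P m 0 0) : ∃ d, g = h.hG d := by
  obtain ⟨d, hd⟩ := h.fix_two g.2 h1 h2
  exact ⟨d, Subtype.ext hd⟩

theorem wG_I : (h.wG : SpecialLinearGroup (Fin 4) F) • I F = P m (0 : F) 0 := wS_I

theorem wG_P0 : (h.wG : SpecialLinearGroup (Fin 4) F) • P m (0 : F) 0 = I F := wS_P0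

theorem wG_inv : h.wG⁻¹ = h.wG := inv_eq_of_mul_eq_one_right h.wG_wG

theorem ext_gens {φ ψ : MulAut (Cfsg.Sz F m)} (ht : ∀ a b, φ (h.tG a b) = ψ (h.tG a b))
    (hh : ∀ d, φ (h.hG d) = ψ (h.hG d)) (hw : φ h.wG = ψ h.wG) : φ = ψ := by
  have hK := h.le_of_gens (K := φ.toMonoidHom.eqLocus ψ.toMonoidHom) ht hh hw
  refine MulEquiv.ext fun x => ?_
  exact (show x ∈ φ.toMonoidHom.eqLocus ψ.toMonoidHom from hK ▸ Subgroup.mem_top x)

/-- the multiplier of the torus on the centre -/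
def chi (d : Fˣ) : F := (d : F) * sg m (d : F)

omit [Fintype F] h in
theorem chi_ne (d : Fˣ) : chi (m := m) d ≠ 0 := mul_ne_zero d.ne_zero (pow_ne_zero _ d.ne_zero)

theorem chi_inj {d d' : Fˣ} (e : chi (m := m) d = chi (m := m) d') : d = d' :=
  (Units.ext (h.asg_inj d.ne_zero e)).symm

theorem chi_surj {x : F} (hx : x ≠ 0) : ∃ d : Fˣ, chi (m := m) d = x := by
  have hinj : Function.Injective fun d : Fˣ => Units.mk0 (chi (m := m) d) (chi_ne d) :=
    fun d d' e => h.chi_inj (congrArg Units.val e)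
  obtain ⟨d, hd⟩ := Finite.injective_iff_surjective.1 hinj (Units.mk0 x hx)
  exact ⟨d, congrArg Units.val hd⟩

theorem hG_tG' (d : Fˣ) (a b : F) :
    h.hG d * h.tG a b * (h.hG d)⁻¹ = h.tG ((d : F) * a) (chi (m := m) d * b) := by
  rw [h.hG_tG, mul_inv_cancel_right]; rfl

theorem tG_sq (a b : F) : h.tG a b * h.tG a b = h.tG 0 (sg m a * a) := by
  rw [h.tG_mul, h.add_self, h.add_self, zero_add]

/-! ### the relation fixing the Weyl element -/

theorem rel_one : h.wG * h.tG 0 1 * h.wG * h.tG 0 1 * h.wG = h.tG 0 1 * h.wG * h.tG 0 1 * h.wG * h.tG 0 1 := by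
  apply Subtype.ext; apply Subtype.ext
  simp only [Subgroup.coe_mul, coe_mul', coe_tG, coe_wG, coe_tS]
  have h2 := h.two
  ext i j
  fin_cases i <;> fin_cases j <;>
    simp [coe_wS, tM, fo, sg_zero, sg_one, Matrix.mul_apply, Fin.sum_univ_four, Matrix.vecMul, dotProduct]
  all_goals linear_combination (norm := ring_nf) 0
  all_goals (simp [h2, show (4 : F) = 0 by linear_combination 2 * h2, show (3 : F) = 1 by linear_combination h2, show (6 : F) = 0 by linear_combination 3 * h2, show (8 : F) = 0 by linear_combination 4 * h2])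

theorem rel_eq_one {b : F} (hb : b ≠ 0)
    (e : h.wG * h.tG 0 b * h.wG * h.tG 0 b * h.wG = h.tG 0 b * h.wG * h.tG 0 b * h.wG * h.tG 0 b) : b = 1 := by
  have hs : sg m b ≠ 0 := pow_ne_zero _ hb
  have hI := congrArg (fun g : Cfsg.Sz F m => (g : SpecialLinearGroup (Fin 4) F) • I F) e
  simp only [Subgroup.coe_mul, mul_smul, coe_tG, coe_wG] at hI
  have hf : fo m (0 : F) b = sg m b := by simp [fo, sg_zero]
  simp only [tS_I, wS_I (m := m), h.tS_P, sg_zero, zero_mul, mul_zero, add_zero, zero_add] at hI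
  rw [h.wS_P (x := 0) (y := b) (Or.inr hb), hf, zero_div] at hI
  simp only [h.tS_P, sg_zero, zero_mul, mul_zero, add_zero, zero_add] at hI
  rw [h.wS_P (x := b / sg m b) (y := b) (Or.inr hb)] at hI
  obtain ⟨e1, e2⟩ := P_inj hI
  set f := fo m (b / sg m b) b
  set x := b / sg m b with hx
  have hx0 : x ≠ 0 := div_ne_zero hb hs
  have hf0 : f ≠ 0 := fun hz => hx0 (by rw [hz, div_zero] at e1; exact e1.symm)
  have e1' : b = x * f := (div_eq_iff hf0).1 e1
  have e2' : x = b * f := (div_eq_iff hf0).1 e2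
  have hxb : x = b := h.sq_inj (by linear_combination x * e2' - b * e1')
  rw [hx, div_eq_iff hs] at hxb
  have : sg m b = 1 := mul_left_cancel₀ hb (by rw [mul_one]; exact hxb.symm)
  exact h.sg_inj (this.trans (sg_one m).symm)

/-! ### normal form of an automorphism -/

theorem exists_normal (φ : MulAut (Cfsg.Sz F m)) : ∃ g : Cfsg.Sz F m,
    (∀ x ∈ h.Q, g * φ x * g⁻¹ ∈ h.Q) ∧ ∀ x ∈ h.Q, g * φ (h.wG * x * h.wG) * g⁻¹ ∈ h.Q.map (MulAut.conj h.wG).toMonoidHom := by
  classical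
  haveI : Fact (Nat.Prime 2) := ⟨Nat.prime_two⟩
  have hindex : ¬ 2 ∣ (h.Q.map φ.toMonoidHom).index := by
    show ¬ 2 ∣ (h.Q.map (φ : Cfsg.Sz F m →* Cfsg.Sz F m)).index
    rw [Subgroup.index_map_equiv]; exact h.odd_index
  let PS : Sylow 2 (Cfsg.Sz F m) := (h.isPGroup_Q.map φ.toMonoidHom).toSylow hindex
  have hP : (PS : Subgroup (Cfsg.Sz F m)) = h.Q.map φ.toMonoidHom := IsPGroup.toSylow_coe _ _
  obtain ⟨g, hg⟩ := h.sylow_two_conj PS
  rw [hP] at hg
  have h1 : ∀ x ∈ h.Q, g⁻¹ * φ x * g ∈ h.Q := by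
    intro x hx
    obtain ⟨y, hy, e⟩ := hg.le ⟨x, hx, rfl⟩
    have : g⁻¹ * φ x * g = y := by
      rw [show φ x = g * y * g⁻¹ from e.symm]; group
    rw [this]; exact hy
  -- the opposite Sylow subgroup
  set k := g⁻¹ * φ h.wG * g with hk
  have h2 : ∀ x ∈ h.Q, g⁻¹ * φ (h.wG * x * h.wG) * g = k * (g⁻¹ * φ x * g) * k⁻¹ := by
    intro x _
    rw [hk, map_mul, map_mul, mul_inv_rev, mul_inv_rev, inv_inv, ← map_inv, h.wG_inv]
    group
  have hk1 : (k : SpecialLinearGroup (Fin 4) F) • I F ≠ I F := by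
    intro e
    have hsame : ∀ x ∈ h.Q, h.wG * x * h.wG ∈ h.Q := by
      intro x hx
      have : g⁻¹ * φ (h.wG * x * h.wG) * g ∈ h.Q := by rw [h2 x hx]; exact h.conj_Q e (h1 x hx)
      obtain ⟨y, hy, ey⟩ := hg.ge ⟨_, this, rfl⟩
      have e0 : φ y = φ (h.wG * x * h.wG) := by
        refine ey.trans ?_
        show g * (g⁻¹ * φ (h.wG * x * h.wG) * g) * g⁻¹ = _
        group
      rwa [← φ.injective e0]
    have := h.fixes_I (g := h.wG) fun x hx => by rw [h.wG_inv]; exact hsame x hx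
    rw [h.wG_I] at this
    exact P_ne_I m _ _ this
  rcases mem_ovoid.mp (maps_of_mem k.2 (I_mem m)) with e | ⟨x0, y0, e⟩
  · exact absurd e hk1
  set t := (h.tG x0 y0)⁻¹ with ht
  have htI : (t : SpecialLinearGroup (Fin 4) F) • I F = I F := by
    rw [ht, Subgroup.coe_inv, inv_smul_eq_iff, h.smul_tG_I]
  have hwk : ((h.wG * (t * k) : Cfsg.Sz F m) : SpecialLinearGroup (Fin 4) F) • I F = I F := by
    rw [Subgroup.coe_mul, Subgroup.coe_mul, mul_smul, mul_smul, e, ht, Subgroup.coe_inv]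
    have : (h.tG x0 y0 : SpecialLinearGroup (Fin 4) F)⁻¹ • P m x0 y0 = P m (0 : F) 0 := by
      rw [inv_smul_eq_iff, coe_tG, h.tS_P]; simp
    rw [this, h.wG_P0]
  refine ⟨t * g⁻¹, fun x hx => ?_, fun x hx => ?_⟩
  · rw [show t * g⁻¹ * φ x * (t * g⁻¹)⁻¹ = t * (g⁻¹ * φ x * g) * t⁻¹ by group]
    exact h.conj_Q htI (h1 x hx)
  · refine ⟨(h.wG * (t * k)) * (g⁻¹ * φ x * g) * (h.wG * (t * k))⁻¹, h.conj_Q hwk (h1 x hx), ?_⟩
    show h.wG * _ * h.wG⁻¹ = _
    rw [show t * g⁻¹ * φ (h.wG * x * h.wG) * (t * g⁻¹)⁻¹ = t * (g⁻¹ * φ (h.wG * x * h.wG) * g) * t⁻¹ by group,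
      h2 x hx, h.wG_inv]
    calc h.wG * (h.wG * (t * k) * (g⁻¹ * φ x * g) * (h.wG * (t * k))⁻¹) * h.wG
        = (h.wG * h.wG) * (t * k) * (g⁻¹ * φ x * g) * (t * k)⁻¹ * (h.wG⁻¹ * h.wG) := by group
      _ = _ := by rw [h.wG_wG]; group

theorem exists_field (φ : MulAut (Cfsg.Sz F m)) :
    ∃ (τ : F ≃+* F) (g : Cfsg.Sz F m), φ = MulAut.conj g * fieldAut m τ := by
  classical
  obtain ⟨g0, hQ, hW⟩ := h.exists_normal φ
  set ψ0 := MulAut.conj g0 * φ with hψ0
  have hψ0e : ∀ x, ψ0 x = g0 * φ x * g0⁻¹ := fun x => rfl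
  -- images of the torus
  have fixI : ∀ (ψ : MulAut (Cfsg.Sz F m)), (∀ x, x ∈ h.Q ↔ ψ x ∈ h.Q) → ∀ k,
      (∀ x ∈ h.Q, k⁻¹ * x * k ∈ h.Q) → ((ψ k : Cfsg.Sz F m) : SpecialLinearGroup (Fin 4) F) • I F = I F := by
    intro ψ hψ k hk
    refine h.fixes_I fun x hx => ?_
    obtain ⟨y, rfl⟩ := ψ.surjective x
    rw [← map_inv, ← map_mul, ← map_mul]
    exact (hψ _).1 (hk y ((hψ y).2 hx))
  have hfin : ∀ (ψ : MulAut (Cfsg.Sz F m)) (S : Subgroup (Cfsg.Sz F m)), (∀ x ∈ S, ψ x ∈ S) → ∀ x, x ∈ S ↔ ψ x ∈ S := by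
    intro ψ S hS x
    refine ⟨hS x, fun hx => ?_⟩
    have heq : S.map ψ.toMonoidHom = S := Subgroup.eq_of_le_of_card_ge (by rintro _ ⟨y, hy, rfl⟩; exact hS y hy)
      (Nat.card_congr (S.equivMapOfInjective _ ψ.injective).toEquiv).le
    obtain ⟨y, hy, e⟩ := heq.ge hx
    exact ψ.injective e ▸ hy
  have hQ0 := hfin ψ0 h.Q hQ
  set R := h.Q.map (MulAut.conj h.wG).toMonoidHom with hR
  have hmemR : ∀ x, x ∈ R ↔ h.wG * x * h.wG ∈ h.Q := by
    intro x
    constructor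
    · rintro ⟨y, hy, rfl⟩
      show h.wG * (h.wG * y * h.wG⁻¹) * h.wG ∈ h.Q
      rw [show h.wG * (h.wG * y * h.wG⁻¹) * h.wG = (h.wG * h.wG) * y * (h.wG⁻¹ * h.wG) by group, h.wG_wG]
      simpa using hy
    · intro hx
      refine ⟨_, hx, ?_⟩
      show h.wG * (h.wG * x * h.wG) * h.wG⁻¹ = x
      rw [show h.wG * (h.wG * x * h.wG) * h.wG⁻¹ = (h.wG * h.wG) * x * (h.wG * h.wG⁻¹) by group, h.wG_wG]
      simp
  have hR0 := hfin ψ0 R fun x hx => by
    have hy := (hmemR x).1 hx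
    have := hW _ hy
    rwa [show h.wG * (h.wG * x * h.wG) * h.wG = (h.wG * h.wG) * x * (h.wG * h.wG) by group, h.wG_wG, one_mul,
      mul_one] at this
  -- torus
  have hT : ∀ d, ∃ d', ψ0 (h.hG d) = h.hG d' := by
    intro d
    have hdI : ((h.hG d : Cfsg.Sz F m) : SpecialLinearGroup (Fin 4) F) • I F = I F := hS_I d
    have hinvI : (((h.hG d)⁻¹ : Cfsg.Sz F m) : SpecialLinearGroup (Fin 4) F) • I F = I F := by
      rw [Subgroup.coe_inv, inv_smul_eq_iff, hdI]
    refine h.eq_hG (fixI ψ0 hQ0 _ fun x hx => ?_) ?_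
    · have := h.conj_Q hinvI hx
      rwa [inv_inv] at this
    · have key : ((h.wG * ψ0 (h.hG d) * h.wG : Cfsg.Sz F m) : SpecialLinearGroup (Fin 4) F) • I F = I F := by
        refine h.fixes_I fun x hx => ?_
        rw [mul_inv_rev, mul_inv_rev, h.wG_inv]
        have hxR : h.wG * x * h.wG ∈ R := (hmemR _).2 (by
          rw [show h.wG * (h.wG * x * h.wG) * h.wG = (h.wG * h.wG) * x * (h.wG * h.wG) by group, h.wG_wG]
          simpa using hx)
        obtain ⟨y, hy⟩ := ψ0.surjective (h.wG * x * h.wG)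
        rw [← hy] at hxR
        have hyR := (hR0 y).2 hxR
        have hconj : (h.hG d)⁻¹ * y * h.hG d ∈ R := by
          rw [hmemR] at hyR ⊢
          have e1 : h.wG * ((h.hG d)⁻¹ * y * h.hG d) * h.wG = h.hG d * (h.wG * y * h.wG) * (h.hG d)⁻¹ := by
            have a1 : h.hG d * h.wG = h.wG * (h.hG d)⁻¹ := by
              have a0 := h.wG_hG d⁻¹
              rw [inv_inv] at a0
              rw [← map_inv, ← a0, mul_assoc, h.wG_wG, mul_one]
            have a2 : h.hG d * h.wG * h.hG d = h.wG := by rw [a1, inv_mul_cancel_right]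
            calc h.wG * ((h.hG d)⁻¹ * y * h.hG d) * h.wG
                = (h.wG * (h.hG d)⁻¹) * y * (h.hG d * h.wG * h.hG d) * (h.hG d)⁻¹ := by group
              _ = _ := by rw [← a1, a2]; group
          rw [e1]; exact h.conj_Q hdI hyR
        have := (hmemR _).1 ((hR0 _).1 hconj)
        rw [map_mul, map_mul, map_inv, hy] at this
        convert this using 1
        group
      have := congrArg (fun p => (h.wG : SpecialLinearGroup (Fin 4) F) • p) key
      simp only [← mul_smul, ← Subgroup.coe_mul] at this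
      rw [show h.wG * (h.wG * ψ0 (h.hG d) * h.wG) = (h.wG * h.wG) * (ψ0 (h.hG d) * h.wG) by group, h.wG_wG,
        one_mul, Subgroup.coe_mul, mul_smul, h.wG_I] at this
      exact this
  choose gd hgd using hT
  -- the centre of Q
  have hZ : ∀ b, ∃ b', ψ0 (h.tG 0 b) = h.tG 0 b' := by
    intro b
    obtain ⟨a', b', e⟩ := (hQ0 _).1 (h.tG_mem_Q 0 b)
    have e2 : ψ0 (h.tG 0 b * h.tG 0 b) = h.tG 0 (sg m a' * a') := by rw [map_mul, e, h.tG_sq]
    rw [h.tG_sq, sg_zero, zero_mul, h.tG_zero, map_one, ← h.tG_zero] at e2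
    rcases mul_eq_zero.1 (h.tG_inj e2).2.symm with ha | ha
    · rw [h.sg_inj (ha.trans (sg_zero m).symm)] at e; exact ⟨b', e⟩
    · rw [ha] at e; exact ⟨b', e⟩
  choose f0 hf0 using hZ
  have hf01 : f0 1 ≠ 0 := by
    intro e
    have := hf0 1
    rw [e, h.tG_zero, ← map_one ψ0] at this
    have := ψ0.injective this
    rw [← h.tG_zero] at this
    exact one_ne_zero (h.tG_inj this).2
  obtain ⟨e0, he0⟩ := h.chi_surj (inv_ne_zero hf01)
  set ψ := MulAut.conj (h.hG e0) * ψ0 with hψ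
  have hψe : ∀ x, ψ x = h.hG e0 * ψ0 x * (h.hG e0)⁻¹ := fun x => rfl
  set f := fun b => chi (m := m) e0 * f0 b with hfdef
  have hf : ∀ b, ψ (h.tG 0 b) = h.tG 0 (f b) := by
    intro b; rw [hψe, hf0, h.hG_tG', mul_zero]
  have hg : ∀ d, ψ (h.hG d) = h.hG (gd d) := by
    intro d
    rw [hψe, hgd, ← map_mul, mul_comm, map_mul, mul_inv_cancel_right]
  have fadd : ∀ x y, f (x + y) = f x + f y := by
    intro x y
    have := hf (x + y)
    rw [show h.tG 0 (x + y) = h.tG 0 x * h.tG 0 y by rw [h.tG_mul]; simp [sg_zero], map_mul, hf, hf, h.tG_mul] at this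
    have := (h.tG_inj this).2
    rw [sg_zero, zero_mul, add_zero] at this
    exact this.symm
  have feq : ∀ d b, f (chi (m := m) d * b) = chi (m := m) (gd d) * f b := by
    intro d b
    have := hf (chi (m := m) d * b)
    rw [show h.tG 0 (chi (m := m) d * b) = h.hG d * h.tG 0 b * (h.hG d)⁻¹ by rw [h.hG_tG', mul_zero],
      map_mul, map_mul, map_inv, hg, hf, h.hG_tG', mul_zero] at this
    exact (h.tG_inj this).2.symm
  have f1 : f 1 = 1 := by rw [hfdef]; simp only [he0, inv_mul_cancel₀ hf01]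
  have fchi : ∀ d, f (chi (m := m) d) = chi (m := m) (gd d) := fun d => by
    have := feq d 1; rwa [mul_one, f1, mul_one] at this
  have f0' : f 0 = 0 := by simpa using fadd 0 0
  have fmul : ∀ x y, f (x * y) = f x * f y := by
    intro x y
    rcases eq_or_ne x 0 with rfl | hx
    · simp [f0']
    · obtain ⟨d, rfl⟩ := h.chi_surj hx
      rw [feq, fchi]
  have finj : Function.Injective f := by
    intro x y e
    have := (hf x).trans ((congrArg (h.tG 0) e).trans (hf y).symm)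
    exact (h.tG_inj (ψ.injective this)).2
  let τ : F ≃+* F := RingEquiv.ofBijective
    (RingHom.mk' ⟨⟨f, f1⟩, fmul⟩ fadd) ⟨finj, Finite.injective_iff_surjective.1 finj⟩
  have hτ : ∀ x, τ x = f x := fun x => rfl
  have hgd' : ∀ d, gd d = Units.map τ.toMonoidHom d := by
    intro d
    refine h.chi_inj ?_
    rw [← fchi]
    show f ((d : F) * sg m (d : F)) = τ d * sg m (τ d)
    rw [← hτ, map_mul, map_sg]
  -- the whole of Q
  have hQψ : ∀ x ∈ h.Q, ψ x ∈ h.Q := fun x hx => by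
    rw [hψe]; exact h.conj_Q (hS_I e0) ((hQ0 x).1 hx)
  have hA : ∀ a, ∃ b, ψ (h.tG a 0) = h.tG (τ a) b := by
    intro a
    obtain ⟨a', b', e⟩ := hQψ _ (h.tG_mem_Q a 0)
    refine ⟨b', ?_⟩
    rcases eq_or_ne a 0 with rfl | ha
    · rw [h.tG_zero, map_one, ← h.tG_zero] at e
      obtain ⟨rfl, rfl⟩ := h.tG_inj e
      rw [h.tG_zero, map_one, map_zero, h.tG_zero]
    have e2 := congrArg (fun z => z * z) e
    simp only [← map_mul, h.tG_sq, hf] at e2
    have e3 : f (sg m a * a) = sg m a' * a' := (h.tG_inj e2).2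
    rw [← hτ, map_mul, map_sg] at e3
    have ha' : τ a ≠ 0 := by simpa using ha
    rw [e, h.asg_inj ha' ((mul_comm _ _).trans (e3.trans (mul_comm _ _)))]
  choose β hβ using hA
  have hβadd : ∀ a c, β (a + c) = β a + β c := by
    intro a c
    have e : h.tG a 0 * h.tG c 0 = h.tG (a + c) 0 * h.tG 0 (sg m a * c) := by
      rw [h.tG_mul, h.tG_mul]; simp
    have e2 := congrArg ψ e
    rw [map_mul, map_mul, hβ, hβ, hβ, hf, h.tG_mul, h.tG_mul, ← hτ] at e2
    have e3 := (h.tG_inj e2).2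
    rw [map_mul, map_sg, mul_zero, add_zero] at e3
    linear_combination -e3
  have hβeq : ∀ (d : Fˣ) a, β ((d : F) * a) = τ (chi (m := m) d) * β a := by
    intro d a
    have e := congrArg ψ (h.hG_tG' d a 0)
    rw [map_mul, map_mul, map_inv, hg, hβ, h.hG_tG', mul_zero, hβ] at e
    rw [hτ, fchi]
    exact (h.tG_inj e).2.symm
  have hk : β 1 = 0 := by
    obtain ⟨a0, ha0, ha1⟩ := h.exists_gt
    have ha01 : a0 + 1 ≠ 0 := fun e => ha1 (by linear_combination e - h.two)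
    have e1 := hβeq (Units.mk0 a0 ha0) 1
    have e2 := hβeq (Units.mk0 (a0 + 1) ha01) 1
    simp only [Units.val_mk0, mul_one, chi] at e1 e2
    rw [hβadd, e1, h.sg_add, sg_one] at e2
    simp only [map_add, map_mul, map_one] at e2
    have e3 : (τ a0 + τ (sg m a0)) * β 1 = 0 := by linear_combination -e2
    refine (mul_eq_zero.1 e3).resolve_left fun e4 => ?_
    rw [← map_add, map_eq_zero_iff τ τ.injective] at e4
    rcases h.sg_fixed (show sg m a0 = a0 by linear_combination e4 - a0 * h.two) with e5 | e5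
    · exact ha0 e5
    · exact ha1 e5
  have hβ0 : ∀ a, β a = 0 := by
    intro a
    rcases eq_or_ne a 0 with rfl | ha
    · have := hβ 0
      rw [h.tG_zero, map_one, map_zero, ← h.tG_zero] at this
      exact (h.tG_inj this).2.symm
    · have := hβeq (Units.mk0 a ha) 1
      rw [Units.val_mk0, mul_one, hk, mul_zero] at this
      exact this
  have ht : ∀ a b, ψ (h.tG a b) = h.tG (τ a) (τ b) := by
    intro a b
    rw [show h.tG a b = h.tG a 0 * h.tG 0 b by rw [h.tG_mul]; simp, map_mul, hβ, hβ0, hf, h.tG_mul, ← hτ]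
    simp
  -- the Weyl element
  have hhI : ∀ d : Fˣ, ((h.hG d : Cfsg.Sz F m) : SpecialLinearGroup (Fin 4) F) • I F = I F := fun d => hS_I d
  have hψQ := hfin ψ h.Q hQψ
  have hψR := hfin ψ R fun x hx => by
    have hx' := (hmemR _).1 ((hR0 x).1 hx)
    rw [hmemR, hψe]
    have e1 : h.wG * (h.hG e0 * ψ0 x * (h.hG e0)⁻¹) * h.wG = h.hG e0⁻¹ * (h.wG * ψ0 x * h.wG) * (h.hG e0⁻¹)⁻¹ := by
      rw [← h.wG_hG e0, mul_inv_rev, mul_inv_rev, h.wG_inv]
      calc _ = h.wG * h.hG e0 * 1 * ψ0 x * 1 * (h.hG e0)⁻¹ * h.wG := by group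
        _ = h.wG * h.hG e0 * (h.wG * h.wG) * ψ0 x * (h.wG * h.wG) * (h.hG e0)⁻¹ * h.wG := by rw [h.wG_wG]
        _ = _ := by group
    rw [e1]; exact h.conj_Q (hhI _) hx'
  have hwI : ((h.wG * ψ h.wG : Cfsg.Sz F m) : SpecialLinearGroup (Fin 4) F) • I F = I F := by
    refine h.fixes_I fun x hx => ?_
    rw [mul_inv_rev, h.wG_inv]
    have hxR : h.wG * x * h.wG ∈ R := (hmemR _).2 (by
      rw [show h.wG * (h.wG * x * h.wG) * h.wG = (h.wG * h.wG) * x * (h.wG * h.wG) by group, h.wG_wG]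
      simpa using hx)
    obtain ⟨y, hy⟩ := ψ.surjective (h.wG * x * h.wG)
    rw [← hy] at hxR
    have hyQ : h.wG * y * h.wG ∈ h.Q := (hmemR y).1 ((hψR y).2 hxR)
    have := (hψQ _).1 hyQ
    rw [map_mul, map_mul, hy] at this
    rw [← map_inv, h.wG_inv]
    convert this using 1
    group
  have hwP : ((h.wG * ψ h.wG : Cfsg.Sz F m) : SpecialLinearGroup (Fin 4) F) • P m (0 : F) 0 = P m 0 0 := by
    have hψw : ψ h.wG * ψ h.wG = 1 := by rw [← map_mul, h.wG_wG, map_one]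
    have e1 : (ψ h.wG : SpecialLinearGroup (Fin 4) F) • I F = P m (0 : F) 0 := by
      have := congrArg (fun p => (h.wG : SpecialLinearGroup (Fin 4) F) • p) hwI
      simp only [← mul_smul, ← Subgroup.coe_mul, ← mul_assoc, h.wG_wG, one_mul, h.wG_I] at this
      exact this
    rw [Subgroup.coe_mul, mul_smul]
    conv_lhs => rw [← e1]
    rw [← mul_smul (ψ h.wG : SpecialLinearGroup (Fin 4) F), ← Subgroup.coe_mul, hψw, Subgroup.coe_one, one_smul,
      h.wG_I]
  obtain ⟨e, he⟩ := h.eq_hG hwI hwP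
  have hwe : ψ h.wG = h.wG * h.hG e := by rw [← he, ← mul_assoc, h.wG_wG, one_mul]
  obtain ⟨s, hs⟩ := h.isSquare e
  have hcw : h.hG s⁻¹ * h.wG * h.hG s = ψ h.wG := by
    rw [hwe, ← hs, map_mul, ← h.wG_hG s, ← mul_assoc]
    congr 1
    rw [mul_assoc _ h.wG h.wG, h.wG_wG, mul_one]
  have hrel := congrArg ψ h.rel_one
  simp only [map_mul, ht, map_one, map_zero, ← hcw] at hrel
  have hs1 : chi (m := m) s = 1 := by
    refine h.rel_eq_one (chi_ne s) ?_
    have e1 : h.hG s * h.tG 0 1 * (h.hG s)⁻¹ = h.tG 0 (chi (m := m) s) := by rw [h.hG_tG']; simp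
    have := congrArg (fun z => h.hG s * z * (h.hG s)⁻¹) hrel
    simp only [map_inv, ← e1] at this ⊢
    calc h.wG * (h.hG s * h.tG 0 1 * (h.hG s)⁻¹) * h.wG * (h.hG s * h.tG 0 1 * (h.hG s)⁻¹) * h.wG
        = h.hG s * ((h.hG s)⁻¹ * h.wG * h.hG s * h.tG 0 1 * ((h.hG s)⁻¹ * h.wG * h.hG s) * h.tG 0 1 *
          ((h.hG s)⁻¹ * h.wG * h.hG s)) * (h.hG s)⁻¹ := by group
      _ = _ := this
      _ = _ := by group
  have hs' : s = 1 := h.chi_inj (hs1.trans (by simp [chi, sg_one]))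
  have hw : ψ h.wG = h.wG := by rw [← hcw, hs']; simp
  refine ⟨τ, (h.hG e0 * g0)⁻¹, ?_⟩
  have key : ψ = fieldAut m τ := h.ext_gens (fun a b => by rw [ht, h.fieldAut_tG])
    (fun d => by rw [hg, h.fieldAut_hG, hgd']) (by rw [hw, h.fieldAut_wG])
  rw [← key, hψ, hψ0, map_inv, map_mul]
  group

theorem fieldAut_inner {τ : F ≃+* F} {g : Cfsg.Sz F m} (e : fieldAut m τ = MulAut.conj g) : τ = RingEquiv.refl F := by
  have hx : ∀ x, fieldAut m τ x = g * x * g⁻¹ := fun x => by rw [e]; rfl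
  have hI : (g : SpecialLinearGroup (Fin 4) F) • I F = I F := h.fixes_I fun x hx' => by
    obtain ⟨a, b, rfl⟩ := hx'
    have e1 := hx (h.tG (τ.symm a) (τ.symm b))
    rw [h.fieldAut_tG, τ.apply_symm_apply, τ.apply_symm_apply] at e1
    rw [e1, show g⁻¹ * (g * h.tG (τ.symm a) (τ.symm b) * g⁻¹) * g = h.tG (τ.symm a) (τ.symm b) by group]
    exact h.tG_mem_Q _ _
  have hw := hx h.wG
  rw [h.fieldAut_wG] at hw
  have hgw : g * h.wG = h.wG * g := by
    conv_rhs => rw [hw]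
    group
  have hP : (g : SpecialLinearGroup (Fin 4) F) • P m (0 : F) 0 = P m 0 0 := by
    rw [← h.wG_I, ← mul_smul, ← Subgroup.coe_mul, hgw, Subgroup.coe_mul, mul_smul, hI]
  obtain ⟨d, rfl⟩ := h.eq_hG hI hP
  have h1 := hx (h.tG 0 1)
  rw [h.fieldAut_tG, map_zero, map_one, h.hG_tG'] at h1
  have hd : d = 1 := h.chi_inj (by
    have := (h.tG_inj h1).2
    rw [mul_one] at this
    rw [← this]; simp [chi, sg_one])
  refine RingEquiv.ext fun b => ?_
  have hb := hx (h.tG 0 b)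
  rw [h.fieldAut_tG, hd, map_one, one_mul, inv_one, mul_one] at hb
  exact (h.tG_inj hb).2

theorem fieldAut_mul (τ τ' : F ≃+* F) : fieldAut m (τ'.trans τ) = fieldAut m τ * fieldAut m τ' := by
  refine MulEquiv.ext fun x => Subtype.ext ?_
  show SpecialLinearGroup.map _ _ = SpecialLinearGroup.map _ (SpecialLinearGroup.map _ _)
  ext i j; simp

theorem card_ringAut : Nat.card (F ≃+* F) = 2 * m + 1 := by
  haveI := h.charP
  letI : Algebra (ZMod 2) F := ZMod.algebra F 2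
  let e : (F ≃+* F) ≃ (F ≃ₐ[ZMod 2] F) :=
    { toFun := fun f => AlgEquiv.ofRingEquiv (f := f) (fun x =>
        RingHom.congr_fun (Subsingleton.elim ((f : F →+* F).comp (algebraMap (ZMod 2) F)) (algebraMap (ZMod 2) F)) x)
      invFun := fun f => f.toRingEquiv
      left_inv := fun f => RingEquiv.ext fun x => rfl
      right_inv := fun f => AlgEquiv.ext fun x => rfl }
  haveI : Fact (Nat.Prime 2) := ⟨Nat.prime_two⟩
  rw [Nat.card_congr e, IsGalois.card_aut_eq_finrank]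
  have := Module.card_eq_pow_finrank (K := ZMod 2) (V := F)
  rw [h.card, ZMod.card] at this
  exact (Nat.pow_right_injective le_rfl this).symm

theorem card_out : Nat.card (Cfsg.Out (Cfsg.Sz F m)) = 2 * m + 1 := by
  rw [← h.card_ringAut]
  refine (Nat.card_eq_of_bijective (fun τ : F ≃+* F => (QuotientGroup.mk (fieldAut m τ) : Cfsg.Out (Cfsg.Sz F m))) ⟨?_, ?_⟩).symm
  · intro τ τ' e
    obtain ⟨g, hg⟩ := QuotientGroup.eq.1 e
    have hinv : (fieldAut m τ)⁻¹ = fieldAut m τ.symm := MulEquiv.ext fun x => rfl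
    have e2 : fieldAut m (τ'.trans τ.symm) = MulAut.conj g := by rw [h.fieldAut_mul, ← hinv, hg]
    have := h.fieldAut_inner e2
    refine RingEquiv.ext fun x => τ.symm.injective ?_
    rw [RingEquiv.symm_apply_apply]
    exact (RingEquiv.congr_fun this x).symm
  · intro x
    induction x using QuotientGroup.induction_on with
    | H φ =>
      obtain ⟨τ, g, rfl⟩ := h.exists_field φ
      refine ⟨τ, QuotientGroup.eq.2 ⟨(fieldAut m τ)⁻¹ g, MulEquiv.ext fun x => ?_⟩⟩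
      simp [MulAut.conj_apply, map_mul, map_inv]

end Hyp

end CfsgLib.Suzuki
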