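import Cfsg.Agent.Lib.Suzuki.Maximal
import Cfsg.Agent.Lib.Suzuki.OutAut
import Mathlib.FieldTheory.Finite.GaloisField

/-! The subfield subgroups of the Suzuki groups and their conjugacy (owner helper8). -/
set_option autoImplicit false
set_option linter.all false

namespace CfsgLib.Suzuki.Subfield

open Cfsg (suzukiOvoid)
open Matrix (SpecialLinearGroup)

variable {F : Type*} [Field F] [Fintype F] {m : ℕ} {K : Type*} [Field K] [Fintype K] {k : ℕ}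

theorem exists_hom (h : Hyp F m) (h' : Hyp K k) (hdiv : 2 * k + 1 ∣ 2 * m + 1) : Nonempty (K →+* F) := by
  haveI : Fact (Nat.Prime 2) := ⟨Nat.prime_two⟩
  haveI := h.charP
  haveI := h'.charP
  letI : Algebra (ZMod 2) F := ZMod.algebra F 2
  letI : Algebra (ZMod 2) K := ZMod.algebra K 2
  have key : ∀ (L : Type _) [Field L] [Fintype L] [Algebra (ZMod 2) L] (n : ℕ), Fintype.card L = 2 ^ n →
      Module.finrank (ZMod 2) L = n := fun L _ _ _ n hn => by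
    have := Module.card_eq_pow_finrank (K := ZMod 2) (V := L)
    rw [ZMod.card, hn] at this
    exact (Nat.pow_right_injective le_rfl this).symm
  obtain ⟨f⟩ := FiniteField.nonempty_algHom_of_finrank_dvd (F := ZMod 2) (K := K) (L := F) (by
    rw [key K _ h'.card]
    have := Module.card_eq_pow_finrank (K := ZMod 2) (V := F)
    rw [ZMod.card, h.card] at this
    rw [← Nat.pow_right_injective le_rfl this]
    exact hdiv)
  exact ⟨f.toRingHom⟩

theorem pow_shift (h' : Hyp K k) {j : ℕ} (x : K) (a : ℕ) :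
    x ^ 2 ^ (j * (2 * k + 1) + a) = x ^ 2 ^ a := by
  induction j with
  | zero => simp
  | succ j ih =>
    rw [show (j + 1) * (2 * k + 1) + a = (j * (2 * k + 1) + a) + (2 * k + 1) by ring, pow_add 2, pow_mul, ih]
    rw [← pow_mul, mul_comm, pow_mul, ← h'.card, FiniteField.pow_card]

theorem shift_eq (hdiv : 2 * k + 1 ∣ 2 * m + 1) : ∃ j, m = j * (2 * k + 1) + k := by
  obtain ⟨c, hc⟩ := hdiv
  have hodd : Odd ((2 * k + 1) * c) := hc ▸ odd_two_mul_add_one m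
  obtain ⟨j, rfl⟩ := (Nat.odd_mul.mp hodd).2
  exact ⟨j, by linarith⟩

theorem map_sg' (h' : Hyp K k) (hdiv : 2 * k + 1 ∣ 2 * m + 1) (ι : K →+* F) (x : K) :
    ι (sg k x) = sg m (ι x) := by
  obtain ⟨j, hj⟩ := shift_eq hdiv
  unfold sg
  rw [map_pow, hj, show j * (2 * k + 1) + k + 1 = j * (2 * k + 1) + (k + 1) by ring, ← map_pow, ← map_pow,
    pow_shift h']

theorem map_rd (h' : Hyp K k) (hdiv : 2 * k + 1 ∣ 2 * m + 1) (ι : K →+* F) (x : K) :
    ι (rd k x) = rd m (ι x) := by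
  obtain ⟨j, hj⟩ := shift_eq hdiv
  unfold rd
  rw [hj, ← map_pow, pow_shift h']

theorem map_gens (h : Hyp F m) (h' : Hyp K k) (hdiv : 2 * k + 1 ∣ 2 * m + 1) (ι : K →+* F) :
    ∃ ψ : Cfsg.Sz K k →* Cfsg.Sz F m, Function.Injective ψ ∧ (∀ a b, ψ (h'.tG a b) = h.tG (ι a) (ι b)) ∧
      (∀ d, ψ (h'.hG d) = h.hG (Units.map ι.toMonoidHom d)) ∧ ψ h'.wG = h.wG := by
  let f : SpecialLinearGroup (Fin 4) K →* SpecialLinearGroup (Fin 4) F := SpecialLinearGroup.map ι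
  have ht : ∀ a b, f (tS k a b) = tS m (ι a) (ι b) := fun a b => by
    apply Subtype.ext
    ext i j
    show ι (tM k a b i j) = tM m (ι a) (ι b) i j
    fin_cases i <;> fin_cases j <;> simp [tM, fo, map_sg' h' hdiv]
  have hh : ∀ d : Kˣ, f (hS k d) = hS m (Units.map ι.toMonoidHom d) := fun d => by
    apply Subtype.ext
    ext i j
    show ι (hM k (d : K) i j) = hM m (ι d) i j
    fin_cases i <;> fin_cases j <;> simp [hM, map_rd h' hdiv, map_inv₀]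
  have hw : f wS = wS := by
    apply Subtype.ext
    ext i j
    show ι ((wS : SpecialLinearGroup (Fin 4) K).1 i j) = (wS : SpecialLinearGroup (Fin 4) F).1 i j
    fin_cases i <;> fin_cases j <;> simp [coe_wS]
  let g : Cfsg.Sz K k →* SpecialLinearGroup (Fin 4) F := f.comp (Cfsg.Sz K k).subtype
  have hmem : ∀ x, g x ∈ Cfsg.Sz F m := by
    have := h'.le_of_gens (K := (Cfsg.Sz F m).comap g)
      (fun a b => by show f (tS k a b) ∈ Cfsg.Sz F m; rw [ht]; exact h.tS_mem _ _)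
      (fun d => by show f (hS k d) ∈ Cfsg.Sz F m; rw [hh]; exact h.hS_mem _)
      (by show f wS ∈ Cfsg.Sz F m; rw [hw]; exact h.wS_mem)
    exact fun x => (this ▸ Subgroup.mem_top x : x ∈ (Cfsg.Sz F m).comap g)
  refine ⟨g.codRestrict _ hmem, fun x y e => Subtype.ext (Subtype.ext ?_), fun a b => Subtype.ext (ht a b),
    fun d => Subtype.ext (hh d), Subtype.ext hw⟩
  ext i j
  exact ι.injective (congrArg (fun z : Cfsg.Sz F m => z.1.1 i j) e)

theorem roots_mem (h : Hyp F m) (ι : K →+* F) {u : Fˣ} (hu : u ^ (Fintype.card K - 1) = 1) :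
    ∃ d : Kˣ, Units.map ι.toMonoidHom d = u := by
  classical
  haveI : Fintype Fˣ := inferInstance
  have hn : 0 < Fintype.card K - 1 := by
    have := Fintype.one_lt_card (α := K); omega
  let S := (Finset.univ : Finset Fˣ).filter fun x => x ^ (Fintype.card K - 1) = 1
  have hS : S.card ≤ Fintype.card K - 1 := IsCyclic.card_pow_eq_one_le hn
  let T := (Finset.univ : Finset Kˣ).image (Units.map ι.toMonoidHom)
  have hT : T.card = Fintype.card K - 1 := by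
    rw [Finset.card_image_of_injective _ (Units.map_injective ι.injective), Finset.card_univ, Fintype.card_units]
  have hsub : T ⊆ S := by
    intro x hx
    obtain ⟨d, -, rfl⟩ := Finset.mem_image.mp hx
    refine Finset.mem_filter.mpr ⟨Finset.mem_univ _, ?_⟩
    rw [← map_pow, show d ^ (Fintype.card K - 1) = 1 by rw [← Fintype.card_units]; exact pow_card_eq_one, map_one]
  have hu' : u ∈ T := by
    rw [Finset.eq_of_subset_of_card_le hsub (by omega)]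
    exact Finset.mem_filter.mpr ⟨Finset.mem_univ _, hu⟩
  obtain ⟨d, -, hd⟩ := Finset.mem_image.mp hu'
  exact ⟨d, hd⟩

theorem exists_normal (h : Hyp F m) (h' : Hyp K k) (φ : Cfsg.Sz K k →* Cfsg.Sz F m) (hφ : Function.Injective φ) :
    ∃ g : Cfsg.Sz F m, (∀ a b, g * φ (h'.tG a b) * g⁻¹ ∈ h.Q) ∧ (∀ d, g * φ (h'.hG d) * g⁻¹ ∈ h.hG.range) ∧
      g * φ h'.wG * g⁻¹ = h.wG := by
  classical
  haveI : Fact (Nat.Prime 2) := ⟨Nat.prime_two⟩
  obtain ⟨S, hS⟩ := (h'.isPGroup_Q.map φ).exists_le_sylow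
  obtain ⟨g₁, hg₁⟩ := h.sylow_two_conj S
  let φ₁ : Cfsg.Sz K k →* Cfsg.Sz F m := (MulAut.conj g₁⁻¹).toMonoidHom.comp φ
  have hQ₁ : ∀ a b, φ₁ (h'.tG a b) ∈ h.Q := fun a b => by
    obtain ⟨y, hy, e⟩ := (hg₁ ▸ hS ⟨_, h'.tG_mem_Q a b, rfl⟩ : φ (h'.tG a b) ∈ h.Q.map (MulAut.conj g₁).toMonoidHom)
    show g₁⁻¹ * φ (h'.tG a b) * g₁⁻¹⁻¹ ∈ h.Q
    rw [← e]
    show g₁⁻¹ * (g₁ * y * g₁⁻¹) * g₁⁻¹⁻¹ ∈ h.Q
    rwa [show g₁⁻¹ * (g₁ * y * g₁⁻¹) * g₁⁻¹⁻¹ = y by group]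
  have hinj₁ : Function.Injective φ₁ := fun x y e => hφ ((MulAut.conj g₁⁻¹).injective e)
  have hfixI : ∀ d, φ₁ (h'.hG d) • oI F m = oI F m := by
    intro d
    obtain ⟨u, v, huv⟩ := hQ₁ 0 1
    have hne : h.tG u v ≠ 1 := fun e => by
      have := hinj₁ ((huv.trans e).trans (map_one φ₁).symm)
      exact one_ne_zero (h'.tG_inj (this.trans h'.tG_zero.symm)).2
    obtain ⟨d', rfl⟩ : ∃ d', d = d'⁻¹ := ⟨d⁻¹, (inv_inv d).symm⟩
    have hc := h'.hG_tG' d' 0 1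
    rw [mul_zero, mul_one] at hc
    have := congrArg φ₁ hc
    rw [map_mul, map_mul, map_inv, huv] at this
    obtain ⟨u', v', huv'⟩ := hQ₁ 0 (Hyp.chi (m := k) d')
    rw [huv'] at this
    have h1 : h.tG u v • φ₁ (h'.hG d'⁻¹) • oI F m = φ₁ (h'.hG d'⁻¹) • oI F m := by
      rw [map_inv, map_inv, ← mul_smul, show h.tG u v * (φ₁ (h'.hG d'))⁻¹ = (φ₁ (h'.hG d'))⁻¹ * h.tG u' v' by
        rw [← this]; group, mul_smul, h.tG_oI]
    exact h.tG_fix hne h1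
  obtain ⟨γ, hγ⟩ := IsCyclic.exists_generator (α := Kˣ)
  have hγ1 : γ ≠ 1 := fun e => by
    obtain ⟨a0, ha0, ha1⟩ := h'.exists_gt
    obtain ⟨n, hn⟩ := Subgroup.mem_zpowers_iff.mp (hγ (Units.mk0 a0 ha0))
    simp only [e, _root_.one_zpow] at hn
    exact ha1 (congrArg Units.val hn).symm
  obtain ⟨u, v, e, he⟩ := h.exists_th (hfixI γ)
  have he1 : e ≠ 1 := by
    rintro rfl
    rw [map_one, mul_one] at he
    obtain ⟨i, hi⟩ := h.isPGroup_Q ⟨_, h.tG_mem_Q u v⟩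
    have h2 : (φ₁ (h'.hG γ)) ^ 2 ^ i = 1 := by rw [he]; exact congrArg Subtype.val hi
    have h3 : γ ^ 2 ^ i = 1 := h'.hG_inj (hinj₁ (by rw [map_pow, map_pow, h2, map_one, map_one]))
    have hodd : Odd (Fintype.card Kˣ) := by
      rw [Fintype.card_units, h'.card]
      exact Nat.Even.sub_odd Nat.one_le_two_pow (by simp [Nat.even_pow]) odd_one
    refine hγ1 (orderOf_eq_one_iff.mp (Nat.eq_one_of_dvd_coprimes ?_ (orderOf_dvd_of_pow_eq_one h3) orderOf_dvd_card))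
    exact Nat.Coprime.pow_left _ (Nat.coprime_two_left.mpr hodd)
  obtain ⟨t, ht, het⟩ := h.conj_to_H he1 u v
  let φ₂ : Cfsg.Sz K k →* Cfsg.Sz F m := (MulAut.conj t⁻¹).toMonoidHom.comp φ₁
  have hinj₂ : Function.Injective φ₂ := fun x y e => hinj₁ ((MulAut.conj t⁻¹).injective e)
  have hQ₂ : ∀ a b, φ₂ (h'.tG a b) ∈ h.Q := fun a b =>
    h.stab_conj_Q (k := t⁻¹) (inv_smul_eq_iff.mpr ht.symm) (hQ₁ a b)
  have hH₂ : ∀ d, φ₂ (h'.hG d) ∈ h.hG.range := by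
    have hb : φ₂ (h'.hG γ) ∈ h.hG.range := ⟨e, by
      show h.hG e = t⁻¹ * φ₁ (h'.hG γ) * t⁻¹⁻¹
      rw [he, het]; group⟩
    intro d
    obtain ⟨n, rfl⟩ := Subgroup.mem_zpowers_iff.mp (hγ d)
    rw [map_zpow, map_zpow]
    exact zpow_mem hb n
  obtain ⟨e', he'⟩ := hH₂ γ
  have he'1 : e' ≠ 1 := fun e0 => hγ1 (h'.hG_inj (hinj₂ (by rw [← he', e0, map_one, map_one, map_one])))
  set w := φ₂ h'.wG with hwdef
  have hww : w * w = 1 := by rw [hwdef, ← map_mul, h'.wG_wG, map_one]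
  have hwh : w * h.hG e' * w = h.hG e'⁻¹ := by
    rw [he', hwdef, ← map_mul, ← map_mul, h'.wG_hG, map_inv, map_inv, ← he', map_inv]
  have hfixed : ∀ p, h.hG e' • p = p → w • p = oI F m ∨ w • p = o0 F m := fun p hp =>
    h.hG_fix (inv_ne_one.mpr he'1) (by rw [← hwh, mul_smul, mul_smul, ← mul_smul w w, hww, one_smul, hp])
  have hwI : w • oI F m = o0 F m := by
    refine (hfixed _ (h.hG_oI e')).resolve_left fun e0 => ?_
    have htop := h'.le_of_gens (K := (MulAction.stabilizer (Cfsg.Sz F m) (oI F m)).comap φ₂)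
      (fun a b => h.Q_le_stab (hQ₂ a b))
      (fun d => by
        obtain ⟨c, hc⟩ := hH₂ d
        show φ₂ (h'.hG d) • oI F m = oI F m
        rw [← hc, h.hG_oI])
      e0
    haveI := h.solvable_stab
    let φ₃ : Cfsg.Sz K k →* MulAction.stabilizer (Cfsg.Sz F m) (oI F m) :=
      φ₂.codRestrict _ fun x => (htop ▸ Subgroup.mem_top x : x ∈ (MulAction.stabilizer (Cfsg.Sz F m) (oI F m)).comap φ₂)
    haveI hsol : Group.IsSolvable (Cfsg.Sz K k) :=
      Group.isSolvable_of_isSolvable_injective (f := φ₃) fun x y exy => hinj₂ (congrArg Subtype.val exy)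
    haveI := h'.simple
    exact (Group.IsSolvable.commutator_lt_top_of_nontrivial (G := Cfsg.Sz K k)).ne h'.perfect
  have hw0 : w • o0 F m = oI F m := by rw [← hwI, ← mul_smul, hww, one_smul]
  obtain ⟨c, hc⟩ := h.eq_hG (g := w * h.wG)
    (congrArg Subtype.val (show (w * h.wG) • oI F m = oI F m by
      rw [mul_smul, show h.wG • oI F m = o0 F m from Subtype.ext (wS_I (m := m)), hw0]))
    (congrArg Subtype.val (show (w * h.wG) • o0 F m = o0 F m by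
      rw [mul_smul, show h.wG • o0 F m = oI F m from Subtype.ext wS_P0, hwI]))
  have hwc : w = h.hG c * h.wG := by rw [← hc, mul_assoc, h.wG_wG, mul_one]
  obtain ⟨f, hf⟩ := h.isSquare c⁻¹
  refine ⟨h.hG f * t⁻¹ * g₁⁻¹, fun a b => ?_, fun d => ?_, ?_⟩
  · rw [show h.hG f * t⁻¹ * g₁⁻¹ * φ (h'.tG a b) * (h.hG f * t⁻¹ * g₁⁻¹)⁻¹ =
      h.hG f * φ₂ (h'.tG a b) * (h.hG f)⁻¹ by simp [φ₂, φ₁, mul_assoc]]
    exact h.stab_conj_Q (h.hG_oI f) (hQ₂ a b)
  · rw [show h.hG f * t⁻¹ * g₁⁻¹ * φ (h'.hG d) * (h.hG f * t⁻¹ * g₁⁻¹)⁻¹ =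
      h.hG f * φ₂ (h'.hG d) * (h.hG f)⁻¹ by simp [φ₂, φ₁, mul_assoc]]
    exact mul_mem (mul_mem ⟨f, rfl⟩ (hH₂ d)) (inv_mem ⟨f, rfl⟩)
  · rw [show h.hG f * t⁻¹ * g₁⁻¹ * φ h'.wG * (h.hG f * t⁻¹ * g₁⁻¹)⁻¹ =
      h.hG f * w * (h.hG f)⁻¹ by simp [hwdef, φ₂, φ₁, mul_assoc], hwc]
    have e2 : h.wG * (h.hG f)⁻¹ = h.hG f * h.wG := by
      rw [← map_inv, ← h.wG_hG f]
      simp [← mul_assoc, h.wG_wG]
    rw [mul_assoc, mul_assoc (h.hG c), e2, ← mul_assoc, ← mul_assoc, ← map_mul, ← map_mul,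
      show f * c * f = 1 by rw [mul_comm f c, mul_assoc, hf, mul_inv_cancel], map_one, one_mul]

theorem range_le (h : Hyp F m) (h' : Hyp K k) (hdiv : 2 * k + 1 ∣ 2 * m + 1) (ι : K →+* F)
    (φ : Cfsg.Sz K k →* Cfsg.Sz F m) (hφ : Function.Injective φ) (hQ : ∀ a b, φ (h'.tG a b) ∈ h.Q)
    (hH : ∀ d, φ (h'.hG d) ∈ h.hG.range) (hw : φ h'.wG = h.wG)
    (ψ : Cfsg.Sz K k →* Cfsg.Sz F m) (hψt : ∀ a b, ψ (h'.tG a b) = h.tG (ι a) (ι b))
    (hψh : ∀ d, ψ (h'.hG d) = h.hG (Units.map ι.toMonoidHom d)) (hψw : ψ h'.wG = h.wG) :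
    φ.range ≤ ψ.range := by
  classical
  choose A B hAB using hQ
  choose μ hμ using hH
  set R := ι.fieldRange with hR
  have hRmem : ∀ x : K, ι x ∈ R := fun x => ⟨x, rfl⟩
  have hμR : ∀ d, (μ d : F) ∈ R := fun d => by
    obtain ⟨d', hd'⟩ := roots_mem h ι (u := μ d) (h.hG_inj (by
      rw [map_pow, hμ, ← map_pow, ← map_pow, show d ^ (Fintype.card K - 1) = 1 by
        rw [← Fintype.card_units]; exact pow_card_eq_one, map_one, map_one, map_one]))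
    exact ⟨d', congrArg Units.val hd'⟩
  have hsgR : ∀ y ∈ R, sg m y ∈ R := by
    rintro _ ⟨x, rfl⟩
    exact ⟨sg k x, map_sg' h' hdiv ι x⟩
  have hchi : ∀ d, Hyp.chi (m := m) (μ d) ∈ R := fun d => mul_mem (hμR d) (hsgR _ (hμR d))
  have hB0 : ∀ b, A 0 b = 0 := fun b => by
    have := congrArg φ (h'.tG_sq 0 b)
    rw [sg_zero, zero_mul, h'.tG_zero, map_one, map_mul, hAB, h.tG_sq, ← h.tG_zero] at this
    rcases mul_eq_zero.mp (h.tG_inj this).2 with e | e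
    · exact h.sg_inj (e.trans (sg_zero m).symm)
    · exact e
  have hconj : ∀ (d : Kˣ) (a b : K), A ((d : K) * a) (Hyp.chi (m := k) d * b) = (μ d : F) * A a b ∧
      B ((d : K) * a) (Hyp.chi (m := k) d * b) = Hyp.chi (m := m) (μ d) * B a b := fun d a b => by
    have := congrArg φ (h'.hG_tG' d a b)
    rw [map_mul, map_mul, map_inv, ← hμ, hAB, hAB, h.hG_tG'] at this
    exact ⟨(h.tG_inj this).1.symm, (h.tG_inj this).2.symm⟩
  have hrel := congrArg φ h'.rel_one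
  simp only [map_mul, hw, hAB, hB0] at hrel
  have hc0 : B 0 1 ≠ 0 := fun e => by
    have : φ (h'.tG 0 1) = 1 := by rw [hAB, hB0, e, h.tG_zero]
    exact one_ne_zero (h'.tG_inj ((hφ (this.trans (map_one φ).symm)).trans h'.tG_zero.symm)).2
  have hc : B 0 1 = 1 := h.rel_eq_one hc0 hrel
  have hBd : ∀ d, B 0 (Hyp.chi (m := k) d) = Hyp.chi (m := m) (μ d) := fun d => by
    have := (hconj d 0 1).2
    rwa [mul_zero, mul_one, hc, mul_one] at this
  have hBR : ∀ b, B 0 b ∈ R := fun b => by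
    rcases eq_or_ne b 0 with rfl | hb
    · have := hAB 0 0
      rw [h'.tG_zero, map_one, ← h.tG_zero] at this
      rw [← (h.tG_inj this).2]; exact zero_mem R
    · obtain ⟨d, rfl⟩ := h'.chi_surj hb
      rw [hBd]; exact hchi d
  have hA : ∀ (d : Kˣ) (b : K), A (d : K) b = (μ d : F) := fun d b => by
    have := congrArg φ (h'.tG_sq (d : K) b)
    rw [map_mul, hAB, hAB, h.tG_sq, mul_comm (sg k (d : K)), show (d : K) * sg k (d : K) = Hyp.chi (m := k) d from rfl,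
      hBd] at this
    exact (h.asg_inj (μ d).ne_zero (by rw [mul_comm (A d b)]; exact (h.tG_inj this).2.symm))
  obtain ⟨a0, ha0, ha1⟩ := h'.exists_gt
  set d0 := Units.mk0 a0 ha0
  have hd1 : (1 : K) + a0 ≠ 0 := fun e => ha1 (by linear_combination e - h'.two)
  set e0 := Units.mk0 (1 + a0) hd1
  have hμ1 : μ 1 = 1 := h.hG_inj (by rw [hμ, map_one, map_one, map_one])
  have hA1 : A 1 0 = 1 := by
    have := hA 1 0
    rwa [Units.val_one, hμ1, Units.val_one] at this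
  set β := B 1 0 with hβ
  have hBdd : ∀ d : Kˣ, B (d : K) 0 = Hyp.chi (m := m) (μ d) * β := fun d => by
    have := (hconj d 1 0).2
    rwa [mul_one, mul_zero] at this
  have hmul := congrArg φ (h'.tG_mul 1 0 (d0 : K) 0)
  rw [sg_one, one_mul, add_zero, zero_add,
    show h'.tG (1 + (d0 : K)) (d0 : K) = h'.tG (e0 : K) 0 * h'.tG 0 (d0 : K) by simp [h'.tG_mul, e0, d0],
    map_mul, map_mul, hAB, hAB, hAB, hAB, h.tG_mul, h.tG_mul, hA1, hA, hA, hB0, ← hβ, hBdd, hBdd, sg_one, one_mul,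
    mul_zero, add_zero, add_zero] at hmul
  obtain ⟨hx1, hx2⟩ := h.tG_inj hmul
  set x := (μ d0 : F) with hxdef
  set y := (μ e0 : F)
  have hxy : y = 1 + x := hx1.symm
  have hx0 : x ≠ 0 := (μ d0).ne_zero
  have hx_ne : x ≠ 1 := fun e => ha1 (congrArg Units.val (show d0 = 1 from h'.hG_inj (hφ (by
    rw [← hμ, ← hμ, hμ1, show μ d0 = 1 from Units.ext e]))))
  have hne : x + sg m x ≠ 0 := fun e => by
    rcases h.sg_fixed (x := x) (by linear_combination e - x * h.two) with e' | e'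
    · exact hx0 e'
    · exact hx_ne e'
  have hβR : β ∈ R := by
    have e : (x + sg m x) * β = B 0 (d0 : K) - x := by
      have hcy : Hyp.chi (m := m) (μ e0) = 1 + Hyp.chi (m := m) (μ d0) + x + sg m x := by
        show y * sg m y = 1 + x * sg m x + x + sg m x
        rw [hxy, h.sg_add, sg_one]; ring
      rw [hcy] at hx2
      linear_combination -hx2 + (x - B 0 (d0 : K)) * h.two
    rw [show β = (B 0 (d0 : K) - x) / (x + sg m x) by rw [← e, mul_div_cancel_left₀ _ hne]]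
    exact div_mem (sub_mem (hBR _) (hμR _)) (add_mem (hμR _) (hsgR _ (hμR _)))
  have htR : ∀ u v, u ∈ R → v ∈ R → h.tG u v ∈ ψ.range := by
    rintro _ _ ⟨p, rfl⟩ ⟨q, rfl⟩
    exact ⟨h'.tG p q, hψt p q⟩
  have hmain := h'.le_of_gens (K := ψ.range.comap φ)
    (fun a b => by
      show φ (h'.tG a b) ∈ ψ.range
      rcases eq_or_ne a 0 with rfl | ha
      · rw [hAB, hB0]; exact htR _ _ (zero_mem R) (hBR b)
      · set d := Units.mk0 a ha
        rw [show h'.tG a b = h'.tG (d : K) 0 * h'.tG 0 b by simp [h'.tG_mul, d], map_mul, hAB, hAB, hA, hBdd, hB0]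
        exact mul_mem (htR _ _ (hμR _) (mul_mem (hchi _) hβR)) (htR _ _ (zero_mem R) (hBR b)))
    (fun d => by
      show φ (h'.hG d) ∈ ψ.range
      obtain ⟨d', hd'⟩ := hμR d
      exact ⟨h'.hG (Units.mk0 d' (fun e => (μ d).ne_zero (by rw [← hd', e, map_zero]))), by
        rw [hψh, ← hμ]; congr 1; exact Units.ext hd'⟩)
    ⟨h'.wG, hψw.trans hw.symm⟩
  rintro _ ⟨z, rfl⟩
  exact (hmain ▸ Subgroup.mem_top z : z ∈ ψ.range.comap φ)

theorem main (h : Hyp F m) (h' : Hyp K k) (hdiv : 2 * k + 1 ∣ 2 * m + 1) :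
    (∃ S : Subgroup (Cfsg.Sz F m), Nonempty (S ≃* Cfsg.Sz K k)) ∧
    ∀ S₁ S₂ : Subgroup (Cfsg.Sz F m), Nonempty (S₁ ≃* Cfsg.Sz K k) → Nonempty (S₂ ≃* Cfsg.Sz K k) →
      ∃ g : Cfsg.Sz F m, S₂ = S₁.map (MulAut.conj g).toMonoidHom := by
  obtain ⟨ι⟩ := exists_hom h h' hdiv
  obtain ⟨ψ, hψ, hψt, hψh, hψw⟩ := map_gens h h' hdiv ι
  refine ⟨⟨ψ.range, ⟨(MonoidHom.ofInjective hψ).symm⟩⟩, ?_⟩
  have key : ∀ S : Subgroup (Cfsg.Sz F m), Nonempty (S ≃* Cfsg.Sz K k) →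
      ∃ g : Cfsg.Sz F m, S.map (MulAut.conj g).toMonoidHom = ψ.range := by
    rintro S ⟨e⟩
    let φ : Cfsg.Sz K k →* Cfsg.Sz F m := S.subtype.comp e.symm.toMonoidHom
    have hφ : Function.Injective φ := S.subtype_injective.comp e.symm.injective
    obtain ⟨g, hQ, hH, hw⟩ := exists_normal h h' φ hφ
    have hle := range_le h h' hdiv ι ((MulAut.conj g).toMonoidHom.comp φ) ((MulAut.conj g).injective.comp hφ)
      hQ hH hw ψ hψt hψh hψw
    refine ⟨g, Subgroup.eq_of_le_of_card_ge ?_ ?_⟩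
    · rintro _ ⟨s, hs, rfl⟩
      exact hle ⟨e ⟨s, hs⟩, by simp [φ]⟩
    · rw [Subgroup.card_map_of_injective (MulAut.conj g).injective, Nat.card_congr e.toEquiv,
        Nat.card_congr (MonoidHom.ofInjective hψ).toEquiv]
  intro S₁ S₂ h₁ h₂
  obtain ⟨g₁, e₁⟩ := key S₁ h₁
  obtain ⟨g₂, e₂⟩ := key S₂ h₂
  refine ⟨g₂⁻¹ * g₁, ?_⟩
  ext x
  constructor
  · intro hx
    obtain ⟨y, hy, e⟩ := (e₁.trans e₂.symm).ge ⟨x, hx, rfl⟩
    exact ⟨y, hy, by
      show g₂⁻¹ * g₁ * y * (g₂⁻¹ * g₁)⁻¹ = x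
      have e' : g₁ * y * g₁⁻¹ = g₂ * x * g₂⁻¹ := e
      rw [show g₂⁻¹ * g₁ * y * (g₂⁻¹ * g₁)⁻¹ = g₂⁻¹ * (g₁ * y * g₁⁻¹) * g₂ by group, e']; group⟩
  · rintro ⟨y, hy, rfl⟩
    obtain ⟨z, hz, e⟩ := (e₁.trans e₂.symm).le ⟨y, hy, rfl⟩
    have e' : g₂ * z * g₂⁻¹ = g₁ * y * g₁⁻¹ := e
    show g₂⁻¹ * g₁ * y * (g₂⁻¹ * g₁)⁻¹ ∈ S₂
    rw [show g₂⁻¹ * g₁ * y * (g₂⁻¹ * g₁)⁻¹ = g₂⁻¹ * (g₁ * y * g₁⁻¹) * g₂ by group, ← e',
      show g₂⁻¹ * (g₂ * z * g₂⁻¹) * g₂ = z by group]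
    exact hz

end CfsgLib.Suzuki.Subfield
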