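import Cfsg.Agent.Lib.Suzuki.Fixity
import Cfsg.Agent.Lib.Suzuki.Subfield
import Mathlib.GroupTheory.SpecificGroups.ZGroup
import Mathlib.GroupTheory.Transfer

/-! The subgroups of the Suzuki groups: every proper subgroup lies in a Borel subgroup, in the normaliser of
one of the three tori, or in a subfield subgroup (owner helper8). -/
set_option autoImplicit false
set_option linter.all false

namespace CfsgLib.Suzuki.Classify

open Cfsg (suzukiOvoid)
open Classical
open scoped Pointwise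

variable {F : Type*} [Field F] [Fintype F] {m : ℕ}

/-- the maximal subgroups to be covered -/
def Good (N : Subgroup (Cfsg.Sz F m)) : Prop :=
  (∃ p : suzukiOvoid F m, N = MulAction.stabilizer (Cfsg.Sz F m) p) ∨
  (∃ U : Subgroup (Cfsg.Sz F m), IsCyclic U ∧
    Nat.card U ∈ ({2 ^ (2 * m + 1) - 1, 2 ^ (2 * m + 1) + 2 ^ (m + 1) + 1, 2 ^ (2 * m + 1) - 2 ^ (m + 1) + 1} : Set ℕ) ∧
    N = Subgroup.normalizer (U : Set (Cfsg.Sz F m))) ∨
  (∃ k : ℕ, 1 ≤ k ∧ k < m ∧ 2 * k + 1 ∣ 2 * m + 1 ∧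
    Nonempty (N ≃* Cfsg.Sz (GaloisField 2 (2 * k + 1)) k))

/-- contained in one of them -/
def InGood (M : Subgroup (Cfsg.Sz F m)) : Prop := ∃ N, Good N ∧ M ≤ N

theorem good_conj {N : Subgroup (Cfsg.Sz F m)} (hN : Good N) (x : Cfsg.Sz F m) :
    Good (N.map (MulAut.conj x).toMonoidHom) := by
  rcases hN with ⟨p, rfl⟩ | ⟨U, hU, hc, rfl⟩ | ⟨k, hk, hkm, hd, ⟨e⟩⟩
  · refine Or.inl ⟨x • p, (Subgroup.ext fun g => ?_)⟩
    constructor
    · rintro ⟨y, hy, rfl⟩
      show (x * y * x⁻¹) • x • p = x • p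
      rw [mul_smul, inv_smul_smul, mul_smul, MulAction.mem_stabilizer_iff.mp hy]
    · intro hg
      refine ⟨x⁻¹ * g * x, ?_, by show x * (x⁻¹ * g * x) * x⁻¹ = g; group⟩
      show (x⁻¹ * g * x) • p = p
      rw [mul_smul, mul_smul, MulAction.mem_stabilizer_iff.mp hg, inv_smul_smul]
  · refine Or.inr (Or.inl ⟨U.map (MulAut.conj x).toMonoidHom,
      isCyclic_of_surjective _ (Subgroup.equivMapOfInjective U _ (MulAut.conj x).injective).surjective, ?_,
      Subgroup.map_equiv_normalizer_eq U (MulAut.conj x)⟩)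
    rwa [Subgroup.card_map_of_injective (MulAut.conj x).injective]
  · exact Or.inr (Or.inr ⟨k, hk, hkm, hd,
      ⟨(Subgroup.equivMapOfInjective N _ (MulAut.conj x).injective).symm.trans e⟩⟩)

theorem inGood_of_conj {M : Subgroup (Cfsg.Sz F m)} (x : Cfsg.Sz F m)
    (hM : InGood (M.map (MulAut.conj x).toMonoidHom)) : InGood M := by
  obtain ⟨N, hN, hle⟩ := hM
  refine ⟨N.map (MulAut.conj x⁻¹).toMonoidHom, good_conj hN x⁻¹, fun g hg => ⟨x * g * x⁻¹, hle ⟨g, hg, rfl⟩, ?_⟩⟩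
  show x⁻¹ * (x * g * x⁻¹) * x⁻¹⁻¹ = g
  group

/-- a cyclic subgroup normalised by `M` -/
theorem cyclic_normal (h : Hyp F m) {M : Subgroup (Cfsg.Sz F m)} {u : Cfsg.Sz F m} (hu : u ≠ 1)
    (hn : ∀ g ∈ M, g * u * g⁻¹ ∈ Subgroup.zpowers u) : InGood M := by
  have hv1 : ∀ g : Cfsg.Sz F m, g * u * g⁻¹ ≠ 1 := fun g e => hu (conj_eq_one_iff.mp e)
  have hnorm : (∀ v ∈ Subgroup.zpowers u, v ≠ 1 → Subgroup.centralizer {v} = Subgroup.centralizer {u}) →
      ∀ g ∈ M, g ∈ Subgroup.normalizer (Subgroup.centralizer {u} : Set (Cfsg.Sz F m)) := by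
    intro hc g hg
    have e := (centralizer_conj u g).symm.trans (hc _ (hn g hg) (hv1 g))
    rw [Subgroup.mem_normalizer_iff]
    intro x
    constructor
    · intro hx; rw [← e]; exact ⟨x, hx, rfl⟩
    · intro hx
      rw [← e] at hx
      obtain ⟨y, hy, e'⟩ := hx
      obtain rfl : y = x := (MulAut.conj g).injective e'
      exact hy
  by_cases hf : Fpf u
  · refine ⟨_, Or.inr (Or.inl ⟨Subgroup.centralizer {u}, h.cyclic_cent hu hf, ?_, rfl⟩), hnorm fun v hv hv1' => ?_⟩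
    · obtain ⟨g₁, g₂, -, -, c1, c2, -, -, hall⟩ := h.exists_tori
      obtain ⟨c, e | e⟩ := hall u hf
      · rw [e, CfsgLib.Fusion.card_cj, c1]; simp
      · rw [e, CfsgLib.Fusion.card_cj, c2]; simp
    · refine (h.cent_eq hf ?_ hv1').2
      refine (Subgroup.zpowers_le.mpr ?_) hv
      exact Subgroup.mem_centralizer_singleton_iff.mpr rfl
  · unfold Fpf at hf; push Not at hf
    obtain ⟨p, hp⟩ := hf
    obtain ⟨k, hk, ⟨a, b, hne, rfl⟩ | ⟨d, hd, rfl⟩⟩ := h.classify hu hp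
    · refine ⟨_, Or.inl ⟨k • oI F m, rfl⟩, fun g hg => ?_⟩
      have hle : Subgroup.zpowers (k * h.tG a b * k⁻¹) ≤ MulAction.stabilizer (Cfsg.Sz F m) (k • oI F m) :=
        Subgroup.zpowers_le.mpr (by rw [MulAction.mem_stabilizer_iff, hk]; exact hp)
      have h1 := MulAction.mem_stabilizer_iff.mp (hle (hn g hg))
      have h2 : h.tG a b • (k⁻¹ * g⁻¹ * k) • oI F m = (k⁻¹ * g⁻¹ * k) • oI F m := by
        simp only [mul_smul] at h1 ⊢
        rwa [smul_eq_iff_eq_inv_smul g, smul_eq_iff_eq_inv_smul k] at h1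
      have h3 := h.tG_fix hne h2
      rw [mul_smul, mul_smul, inv_smul_eq_iff, inv_smul_eq_iff] at h3
      exact MulAction.mem_stabilizer_iff.mpr h3.symm
    · have hc : Subgroup.centralizer {k * h.hG d * k⁻¹} = h.hG.range.map (MulAut.conj k).toMonoidHom := by
        rw [centralizer_conj, h.cent_hG hd]
      haveI : IsCyclic h.hG.range := isCyclic_of_surjective h.hG.rangeRestrict h.hG.rangeRestrict_surjective
      refine ⟨_, Or.inr (Or.inl ⟨Subgroup.centralizer {k * h.hG d * k⁻¹}, ?_, ?_, rfl⟩), hnorm fun v hv hv1' => ?_⟩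
      · rw [hc]; exact isCyclic_of_surjective _ (Subgroup.equivMapOfInjective _ _ (MulAut.conj k).injective).surjective
      · rw [hc, Subgroup.card_map_of_injective (MulAut.conj k).injective, Fixity.card_T h, h.card]; simp
      · obtain ⟨n, rfl⟩ := Subgroup.mem_zpowers_iff.mp hv
        rw [conj_zpow, ← map_zpow] at hv1' ⊢
        have hdn : d ^ n ≠ 1 := fun e => hv1' (by rw [e, map_one, mul_one, mul_inv_cancel])
        rw [hc, centralizer_conj, h.cent_hG hdn]

theorem odd_normal (h : Hyp F m) {M N : Subgroup (Cfsg.Sz F m)} (hN : ¬ 2 ∣ Nat.card N) (hne : N ≠ ⊥)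
    (hMN : ∀ g ∈ M, N.map (MulAut.conj g).toMonoidHom = N) : InGood M := by
  haveI hZ : IsZGroup N := by
    refine ⟨fun p hp S => ?_⟩
    haveI := Fact.mk hp
    rcases eq_or_ne p 2 with rfl | hp2
    · obtain ⟨i, hi⟩ := S.2.exists_card_eq
      have hd : Nat.card (S : Subgroup N) ∣ Nat.card N := Subgroup.card_subgroup_dvd_card _
      rcases i with _ | i
      · haveI : Subsingleton (S : Subgroup N) := (Nat.card_eq_one_iff_unique.mp (by simpa using hi)).1
        exact isCyclic_of_subsingleton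
      · exact absurd ((dvd_pow_self 2 (Nat.succ_ne_zero i)).trans (hi ▸ hd)) hN
    · obtain ⟨S', hS'⟩ := (S.2.map N.subtype).exists_le_sylow
      haveI := h.sylow_odd_cyclic hp2 S'
      exact isCyclic_of_injective
        ((Subgroup.inclusion hS').comp (Subgroup.equivMapOfInjective (S : Subgroup N) N.subtype N.subtype_injective).toMonoidHom)
        ((Subgroup.inclusion_injective hS').comp (MulEquiv.injective _))
  haveI : Nontrivial N := (Subgroup.nontrivial_iff_ne_bot N).mpr hne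
  obtain ⟨A, hA, hAne, hAM⟩ : ∃ A : Subgroup (Cfsg.Sz F m), IsCyclic A ∧ A ≠ ⊥ ∧
      ∀ g ∈ M, A.map (MulAut.conj g).toMonoidHom = A := by
    by_cases hc : commutator N = ⊥
    · refine ⟨N, ?_, hne, hMN⟩
      haveI : IsMulCommutative N := (commutator_eq_bot_iff N).mp hc
      haveI : Group.IsNilpotent N := by
        letI : CommGroup N := { (inferInstance : Group N) with mul_comm := fun a b => IsMulCommutative.is_comm.comm a b }
        exact CommGroup.isNilpotent
      infer_instance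
    · refine ⟨(commutator N).map N.subtype, ?_, ?_, fun g hg => ?_⟩
      · haveI := IsZGroup.isCyclic_commutator (G := N)
        exact isCyclic_of_surjective _ (Subgroup.equivMapOfInjective _ _ N.subtype_injective).surjective
      · exact fun e => hc ((Subgroup.map_eq_bot_iff_of_injective _ N.subtype_injective).mp e)
      · rw [Subgroup.map_subtype_commutator, Subgroup.map_commutator, hMN g hg]
  obtain ⟨⟨u, huA⟩, hgen⟩ := hA.exists_generator
  have hAu : A ≤ Subgroup.zpowers u := fun x hx => by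
    obtain ⟨n, hn⟩ := Subgroup.mem_zpowers_iff.mp (hgen ⟨x, hx⟩)
    exact Subgroup.mem_zpowers_iff.mpr ⟨n, congrArg Subtype.val hn⟩
  refine cyclic_normal h (u := u) (fun e => hAne (eq_bot_iff.mpr (hAu.trans (by rw [e, Subgroup.zpowers_one_eq_bot])))) ?_
  intro g hg
  exact hAu ((hAM g hg).le ⟨u, huA, rfl⟩)

theorem invol_unique (h : Hyp F m) {t : Cfsg.Sz F m} (ht : orderOf t = 2) {p r : suzukiOvoid F m}
    (hp : t • p = p) (hr : t • r = r) : p = r := by
  obtain ⟨x, b, hb, rfl⟩ := Fixity.invol_form h ht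
  have hne : h.tG 0 b ≠ 1 := fun e => hb (h.tG_inj (e.trans h.tG_zero.symm)).2
  have key : ∀ p : suzukiOvoid F m, (x * h.tG 0 b * x⁻¹) • p = p → x⁻¹ • p = oI F m := fun p hp => by
    rw [mul_smul, mul_smul, ← eq_inv_smul_iff] at hp
    exact h.tG_fix hne hp
  exact MulAction.injective x⁻¹ ((key p hp).trans (key r hr).symm)

theorem invol_fixed (h : Hyp F m) {t : Cfsg.Sz F m} (ht : orderOf t = 2) : ∃ p : suzukiOvoid F m, t • p = p := by
  obtain ⟨x, b, -, rfl⟩ := Fixity.invol_form h ht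
  exact ⟨x • oI F m, by rw [mul_smul, mul_smul, inv_smul_smul, h.tG_oI]⟩

/-- two involutions with different fixed points are conjugate in any subgroup containing both -/
theorem invol_conj (h : Hyp F m) {M : Subgroup (Cfsg.Sz F m)} {t t' : Cfsg.Sz F m} (ht : orderOf t = 2)
    (ht' : orderOf t' = 2) (hM : t ∈ M) (hM' : t' ∈ M) {p r : suzukiOvoid F m} (hp : t • p = p) (hr : t' • r = r)
    (hne : p ≠ r) : ∃ g ∈ M, t' = g * t * g⁻¹ := by
  have h2 : t * t = 1 := by rw [← pow_two, ← ht, pow_orderOf_eq_one]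
  have h2' : t' * t' = 1 := by rw [← pow_two, ← ht', pow_orderOf_eq_one]
  set d := t * t' with hd
  have hti : t⁻¹ = t := inv_eq_of_mul_eq_one_right h2
  have hti' : t'⁻¹ = t' := inv_eq_of_mul_eq_one_right h2'
  have hinv : t * d * t⁻¹ = d⁻¹ := by rw [hd, _root_.mul_inv_rev, hti, hti', ← mul_assoc, h2, one_mul]
  have hinv' : t' * d * t'⁻¹ = d⁻¹ := by rw [hd, _root_.mul_inv_rev, hti, hti', ← mul_assoc, mul_assoc _ t' t', h2', mul_one]
  have hpow : ∀ i : ℕ, t * d ^ i * t⁻¹ = (d ^ i)⁻¹ := fun i => by rw [← conj_pow, hinv, inv_pow]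
  have hpow' : ∀ i : ℕ, t' * d ^ i * t'⁻¹ = (d ^ i)⁻¹ := fun i => by rw [← conj_pow, hinv', inv_pow]
  rcases Nat.even_or_odd (orderOf d) with hev | ⟨j, hj⟩
  · exfalso
    set v := d ^ (orderOf d / 2)
    have hv : orderOf v = 2 := orderOf_pow_orderOf_div (orderOf_pos d).ne' hev.two_dvd
    have hvi : v⁻¹ = v := inv_eq_of_mul_eq_one_right (by rw [← pow_two, ← hv, pow_orderOf_eq_one])
    have hfix : ∀ {s : Cfsg.Sz F m} {a : suzukiOvoid F m}, orderOf s = 2 → s • a = a → s * v * s⁻¹ = v⁻¹ →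
        v • a = a := fun {s} {a} hs ha e => by
      rw [hvi] at e
      refine invol_unique h hs ?_ ha
      calc s • v • a = (s * v * s⁻¹) • s • a := by simp [mul_smul]
        _ = _ := by rw [e, ha]
    exact hne (invol_unique h hv (hfix ht hp (hpow _)) (hfix ht' hr (hpow' _)))
  · refine ⟨d ^ j, pow_mem (mul_mem hM hM') j, ?_⟩
    have e1 : d = (d ^ j * d ^ j)⁻¹ := eq_inv_of_mul_eq_one_left (by
      rw [← pow_add, ← pow_succ', show j + j + 1 = orderOf d by omega, pow_orderOf_eq_one])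
    have e2 : d ^ j * t = t * (d ^ j)⁻¹ := by
      rw [← hpow j, hti, ← mul_assoc, ← mul_assoc, h2, one_mul]
    calc t' = t * d := by rw [hd, ← mul_assoc, h2, one_mul]
      _ = t * (d ^ j * d ^ j)⁻¹ := by rw [← e1]
      _ = t * (d ^ j)⁻¹ * (d ^ j)⁻¹ := by rw [_root_.mul_inv_rev, mul_assoc]
      _ = _ := by rw [← e2]

theorem pow_two_sub_dvd {e n : ℕ} (hd : 2 ^ e - 1 ∣ 2 ^ n - 1) : e ∣ n := by
  rcases Nat.eq_zero_or_pos e with rfl | he
  · simp only [pow_zero, Nat.sub_self, zero_dvd_iff] at hd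
    rcases Nat.eq_zero_or_pos n with rfl | hn
    · exact dvd_rfl
    · have := Nat.one_lt_pow hn.ne' one_lt_two; omega
  have h1 := Nat.pow_sub_one_gcd_pow_sub_one 2 e n
  rw [Nat.gcd_eq_left hd] at h1
  have h2 : 2 ^ e = 2 ^ Nat.gcd e n := by
    have := Nat.one_le_two_pow (n := e); have := Nat.one_le_two_pow (n := Nat.gcd e n); omega
  rw [Nat.pow_right_injective le_rfl h2]
  exact Nat.gcd_dvd_right e n

theorem normal_complement (h : Hyp F m) {M : Subgroup (Cfsg.Sz F m)} (hev : 2 ∣ Nat.card M)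
    (hcyc : ∀ T : Subgroup (Cfsg.Sz F m), T ≤ M → (∀ x ∈ T, x • oI F m = oI F m) → IsCyclic T)
    (hconj : ∀ (T : Subgroup (Cfsg.Sz F m)), T ≤ M → IsPGroup 2 T →
      ∃ g ∈ M, ∀ x ∈ T, (g * x * g⁻¹) • oI F m = oI F m) : InGood M := by
  haveI : Fact (Nat.Prime 2) := ⟨Nat.prime_two⟩
  obtain ⟨S⟩ : Nonempty (Sylow 2 M) := inferInstance
  obtain ⟨g, hg, hfix⟩ := hconj ((S : Subgroup M).map M.subtype) (Subgroup.map_subtype_le _) (S.2.map _)
  set T := ((S : Subgroup M).map M.subtype).map (MulAut.conj g).toMonoidHom with hT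
  have hTM : T ≤ M := by
    rintro _ ⟨_, ⟨y, -, rfl⟩, rfl⟩
    exact mul_mem (mul_mem hg y.2) (inv_mem hg)
  haveI : IsCyclic T := hcyc T hTM (by rintro _ ⟨x, hx, rfl⟩; exact hfix x hx)
  have hS : IsCyclic S := by
    refine isCyclic_of_injective
      (((Subgroup.equivMapOfInjective _ M.subtype M.subtype_injective).trans
        (Subgroup.equivMapOfInjective _ (MulAut.conj g).toMonoidHom (MulAut.conj g).injective)).toMonoidHom) ?_
    exact MulEquiv.injective _
  have hmin : (Nat.card M).minFac = 2 := (Nat.minFac_eq_two_iff _).mpr hev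
  have hcompl := IsCyclic.isComplement' hmin hS
  have hcN := MonoidHom.not_dvd_card_ker_transferSylow S (hS.normalizer_le_centralizer hmin)
  set N := (MonoidHom.transferSylow S (hS.normalizer_le_centralizer hmin)).ker with hN
  by_cases hb : N = ⊥
  · refine inGood_of_conj g ⟨_, Or.inl ⟨oI F m, rfl⟩, ?_⟩
    rw [hb, Subgroup.isComplement'_bot_left] at hcompl
    rintro _ ⟨x, hx, rfl⟩
    exact hfix x ⟨⟨x, hx⟩, by rw [hcompl]; trivial, rfl⟩
  · have hNn : N.Normal := MonoidHom.normal_ker _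
    clear_value N
    refine odd_normal h (N := N.map M.subtype) ?_ ?_ fun y hy => ?_
    · rwa [Subgroup.card_map_of_injective M.subtype_injective]
    · exact fun e => hb ((Subgroup.map_eq_bot_iff_of_injective _ M.subtype_injective).mp e)
    · ext x
      constructor
      · rintro ⟨_, ⟨z, hz, rfl⟩, rfl⟩
        exact ⟨(⟨y, hy⟩ : M) * z * (⟨y, hy⟩ : M)⁻¹, hNn.conj_mem z hz (⟨y, hy⟩ : M), rfl⟩
      · rintro ⟨z, hz, rfl⟩
        refine ⟨_, ⟨(⟨y, hy⟩ : M)⁻¹ * z * (⟨y, hy⟩ : M)⁻¹⁻¹, hNn.conj_mem z hz (⟨y, hy⟩ : M)⁻¹, rfl⟩, ?_⟩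
        show y * (y⁻¹ * (z : Cfsg.Sz F m) * y⁻¹⁻¹) * y⁻¹ = z
        group

theorem two_group_fix (h : Hyp F m) {T : Subgroup (Cfsg.Sz F m)} (hT : IsPGroup 2 T) :
    ∃ p : suzukiOvoid F m, ∀ x ∈ T, x • p = p := by
  haveI : Fact (Nat.Prime 2) := ⟨Nat.prime_two⟩
  obtain ⟨S, hS⟩ := hT.exists_le_sylow
  obtain ⟨g, hg⟩ := h.sylow_two_conj S
  refine ⟨g • oI F m, fun x hx => ?_⟩
  obtain ⟨y, hy, rfl⟩ := (hg ▸ hS hx : x ∈ h.Q.map (MulAut.conj g).toMonoidHom)
  obtain ⟨a, b, rfl⟩ := hy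
  show (g * h.tG a b * g⁻¹) • g • oI F m = g • oI F m
  rw [mul_smul, mul_smul, inv_smul_smul, h.tG_oI]

/-! ### a subgroup containing the central involution and moving its fixed point -/

theorem orbit_invol (h : Hyp F m) {M : Subgroup (Cfsg.Sz F m)} (hz : h.tG 0 1 ∈ M)
    (hmove : ∃ g ∈ M, g • oI F m ≠ oI F m) :
    (∀ t ∈ M, orderOf t = 2 → ∃ g ∈ M, t = g * h.tG 0 1 * g⁻¹) ∧
    (∀ t ∈ M, orderOf t = 2 → ∀ r : suzukiOvoid F m, t • r = r → ∃ g ∈ M, g • oI F m = r) := by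
  have hne : h.tG 0 1 ≠ 1 := fun e => one_ne_zero (h.tG_inj (e.trans h.tG_zero.symm)).2
  have ho : orderOf (h.tG 0 1) = 2 := orderOf_eq_prime (by
    rw [pow_two, h.tG_sq, sg_zero, zero_mul, h.tG_zero]) hne
  obtain ⟨g₀, hg₀, hg₀I⟩ := hmove
  set t₀ := g₀ * h.tG 0 1 * g₀⁻¹ with ht₀
  have ht₀M : t₀ ∈ M := mul_mem (mul_mem hg₀ hz) (inv_mem hg₀)
  have ht₀o : orderOf t₀ = 2 := by rw [← ho]; exact (MulAut.conj g₀).orderOf_eq _
  have ht₀f : t₀ • g₀ • oI F m = g₀ • oI F m := by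
    rw [ht₀, mul_smul, mul_smul, inv_smul_smul, h.tG_oI]
  have all : ∀ t ∈ M, orderOf t = 2 → ∃ g ∈ M, t = g * h.tG 0 1 * g⁻¹ := by
    intro t ht hto
    obtain ⟨r, hr⟩ := invol_fixed h hto
    by_cases hrI : r = oI F m
    · subst hrI
      obtain ⟨g, hg, e⟩ := invol_conj h hto ht₀o ht ht₀M hr ht₀f (Ne.symm hg₀I)
      refine ⟨g⁻¹ * g₀, mul_mem (inv_mem hg) hg₀, ?_⟩
      calc t = g⁻¹ * (g * t * g⁻¹) * g := by group
        _ = g⁻¹ * (g₀ * h.tG 0 1 * g₀⁻¹) * g := by rw [← e, ht₀]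
        _ = _ := by group
    · exact invol_conj h ho hto hz ht (h.tG_oI 0 1) hr (Ne.symm hrI)
  refine ⟨all, fun t ht hto r hr => ?_⟩
  obtain ⟨g, hg, rfl⟩ := all t ht hto
  exact ⟨g, hg, (invol_unique h hto hr (by rw [mul_smul, mul_smul, inv_smul_smul, h.tG_oI])).symm⟩

theorem facts (h : Hyp F m) {M : Subgroup (Cfsg.Sz F m)} (hz : h.tG 0 1 ∈ M)
    (hmove : ∃ g ∈ M, g • oI F m ≠ oI F m) :
    ∃ L : Subfield F, (∀ b, b ∈ L ↔ h.tG 0 b ∈ M) ∧ (∀ a b, h.tG a b ∈ M → a ∈ L) ∧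
      (∀ a b (d : Fˣ), h.tG a b * h.hG d ∈ M → (d : F) ∈ L) ∧
      (∀ x ∈ L, x ≠ 0 → ∃ (d : Fˣ) (a b : F), h.tG a b * h.hG d ∈ M ∧ Hyp.chi (m := m) d = x) ∧
      ∀ r : suzukiOvoid F m, r ≠ oI F m → (∃ g ∈ M, g • oI F m = r) →
        (∃ t ∈ M, orderOf t = 2 ∧ t • oI F m = r) ∧
        ∀ (d : Fˣ), (∃ a b, h.tG a b * h.hG d ∈ M) →
          ∃ a b, h.tG a b * h.hG d ∈ M ∧ (h.tG a b * h.hG d) • r = r := by
  haveI : Fintype (Cfsg.Sz F m) := Fintype.ofFinite _
  haveI : Fintype (suzukiOvoid F m) := Fintype.ofFinite _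
  have h1 : h.tG 0 1 ≠ 1 := fun e => one_ne_zero (h.tG_inj (e.trans h.tG_zero.symm)).2
  have ho : ∀ b : F, b ≠ 0 → orderOf (h.tG 0 b) = 2 := fun b hb => orderOf_eq_prime (by
    rw [pow_two, h.tG_sq, sg_zero, zero_mul, h.tG_zero]) (fun e => hb (h.tG_inj (e.trans h.tG_zero.symm)).2)
  obtain ⟨hall, horb⟩ := orbit_invol h hz hmove
  let D : Set Fˣ := {d | ∃ a b, h.tG a b * h.hG d ∈ M}
  have hconjz : ∀ a b (d : Fˣ), (h.tG a b * h.hG d) * h.tG 0 1 * (h.tG a b * h.hG d)⁻¹ =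
      h.tG 0 (Hyp.chi (m := m) d) := fun a b d => by
    rw [show (h.tG a b * h.hG d) * h.tG 0 1 * (h.tG a b * h.hG d)⁻¹ =
      h.tG a b * (h.hG d * h.tG 0 1 * (h.hG d)⁻¹) * (h.tG a b)⁻¹ by group, h.hG_tG', mul_zero, mul_one,
      ← h.tG_Z_comm a _ b, mul_inv_cancel_right]
  have hDmul : ∀ {d d'}, d ∈ D → d' ∈ D → d * d' ∈ D := by
    rintro d d' ⟨a, b, hd⟩ ⟨a', b', hd'⟩
    have := mul_mem hd hd'
    rw [mul_assoc, ← mul_assoc (h.hG d), h.hG_tG, mul_assoc, ← map_mul, ← mul_assoc, h.tG_mul] at this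
    exact ⟨_, _, this⟩
  let K₀ : Set F := {b | h.tG 0 b ∈ M}
  have hK : ∀ b, b ∈ K₀ ↔ (b = 0 ∨ ∃ d ∈ D, Hyp.chi (m := m) d = b) := by
    intro b
    constructor
    · intro hb
      rcases eq_or_ne b 0 with e | hb0
      · exact Or.inl e
      right
      obtain ⟨g, hg, e⟩ := hall _ hb (ho b hb0)
      have hgI : g • oI F m = oI F m :=
        (invol_unique h (ho b hb0) (h.tG_oI 0 b) (by rw [e, mul_smul, mul_smul, inv_smul_smul, h.tG_oI])).symm
      obtain ⟨u, v, d, rfl⟩ := h.exists_th hgI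
      rw [hconjz] at e
      exact ⟨d, ⟨u, v, hg⟩, (h.tG_inj e).2.symm⟩
    · rintro (rfl | ⟨d, ⟨u, v, hg⟩, rfl⟩)
      · show h.tG 0 0 ∈ M
        rw [h.tG_zero]; exact one_mem M
      · show h.tG 0 _ ∈ M
        rw [← hconjz u v d]
        exact mul_mem (mul_mem hg hz) (inv_mem hg)
  have hKadd : ∀ {a b}, a ∈ K₀ → b ∈ K₀ → a + b ∈ K₀ := by
    intro a b ha hb
    have ha' : h.tG 0 a ∈ M := ha
    have hb' : h.tG 0 b ∈ M := hb
    have := mul_mem ha' hb'
    rwa [h.tG_mul, sg_zero, zero_mul, add_zero, add_zero] at this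
  have hKmul : ∀ {a b}, a ∈ K₀ → b ∈ K₀ → a * b ∈ K₀ := by
    intro a b ha hb
    rcases (hK a).mp ha with rfl | ⟨d, hd, rfl⟩
    · rw [zero_mul]; exact (hK 0).mpr (Or.inl rfl)
    rcases (hK b).mp hb with rfl | ⟨d', hd', rfl⟩
    · rw [mul_zero]; exact (hK 0).mpr (Or.inl rfl)
    exact (hK _).mpr (Or.inr ⟨d * d', hDmul hd hd', by simp only [Hyp.chi, Units.val_mul, sg_mul]; ring⟩)
  have hKinv : ∀ a ∈ K₀, a⁻¹ ∈ K₀ := by
    intro a ha
    rcases eq_or_ne a 0 with rfl | ha0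
    · rwa [inv_zero]
    have hpow : ∀ n, a ^ (n + 1) ∈ K₀ := fun n => by
      induction n with
      | zero => simpa using ha
      | succ n ih => rw [pow_succ]; exact hKmul ih ha
    have e : a⁻¹ = a ^ (Fintype.card F - 2) := by
      refine inv_eq_of_mul_eq_one_right ?_
      rw [← pow_succ', show Fintype.card F - 2 + 1 = Fintype.card F - 1 by have := h.three_le_q; omega,
        FiniteField.pow_card_sub_one_eq_one a ha0]
    rw [e, show Fintype.card F - 2 = Fintype.card F - 3 + 1 by have := h.three_le_q; omega]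
    exact hpow _
  let L : Subfield F :=
    { carrier := K₀
      mul_mem' := hKmul
      one_mem' := hz
      add_mem' := hKadd
      zero_mem' := (hK 0).mpr (Or.inl rfl)
      neg_mem' := fun {a} ha => by
        rw [show -a = a from neg_eq_of_add_eq_zero_left (h.add_self a)]; exact ha
      inv_mem' := hKinv }
  have hL : ∀ b, b ∈ L ↔ h.tG 0 b ∈ M := fun b => Iff.rfl
  -- the translations in `M`
  have hpow2 : ∀ x ∈ L, sg m x ∈ L := fun x hx => by
    show x ^ 2 ^ (m + 1) ∈ L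
    exact pow_mem hx _
  have hA : ∀ a b, h.tG a b ∈ M → a ∈ L := by
    intro a b hab
    rcases eq_or_ne a 0 with rfl | ha
    · exact zero_mem L
    have h2 := mul_mem hab hab
    rw [h.tG_sq] at h2
    set u := Units.mk0 a ha
    rcases (hK _).mp h2 with e | ⟨d, hd, e⟩
    · exact absurd e (mul_ne_zero (pow_ne_zero _ ha) ha)
    have hdu : a = (d : F) := (congrArg Units.val (h.chi_inj (d := d) (d' := u) (e.trans (mul_comm _ _)))).symm
    -- `chi u` lies in the subfield, hence so does `u`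
    haveI : Fintype L := Fintype.ofFinite _
    have hroot : (Hyp.chi (m := m) d) ^ (Fintype.card L - 1) = 1 := by
      have := FiniteField.pow_card_sub_one_eq_one (⟨_, h2⟩ : L) (fun e0 => mul_ne_zero (pow_ne_zero _ ha) ha
        (congrArg Subtype.val e0))
      have := congrArg Subtype.val this
      simp only [SubmonoidClass.coe_pow, OneMemClass.coe_one] at this
      rw [← this, e]
    have hd1 : d ^ (Fintype.card L - 1) = 1 := h.chi_inj (by
      have h0 : Hyp.chi (m := m) (1 : Fˣ) = 1 := by simp [Hyp.chi, sg_one]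
      have h3 : Hyp.chi (m := m) (d ^ (Fintype.card L - 1)) = Hyp.chi (m := m) d ^ (Fintype.card L - 1) := by
        simp only [Hyp.chi, Units.val_pow_eq_pow_val, mul_pow]
        unfold sg; rw [← pow_mul, ← pow_mul, mul_comm (Fintype.card L - 1)]
      rw [h0, h3, hroot])
    obtain ⟨d', hd'⟩ := Subfield.roots_mem h L.subtype (u := d) hd1
    have := congrArg Units.val hd'
    rw [hdu, ← this]
    exact (d' : L).2
  haveI : Fintype L := Fintype.ofFinite _
  have hDL : ∀ d ∈ D, d ^ (Fintype.card L - 1) = 1 := by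
    intro d hd
    refine h.chi_inj ?_
    have h0 : Hyp.chi (m := m) (1 : Fˣ) = 1 := by simp [Hyp.chi, sg_one]
    have h3 : Hyp.chi (m := m) (d ^ (Fintype.card L - 1)) = Hyp.chi (m := m) d ^ (Fintype.card L - 1) := by
      simp only [Hyp.chi, Units.val_pow_eq_pow_val, mul_pow]
      unfold sg; rw [← pow_mul, ← pow_mul, mul_comm (Fintype.card L - 1)]
    have := congrArg Subtype.val (FiniteField.pow_card_sub_one_eq_one
      (⟨_, (hK _).mpr (Or.inr ⟨d, hd, rfl⟩)⟩ : L) (fun e0 => Hyp.chi_ne d (congrArg Subtype.val e0)))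
    simp only [SubmonoidClass.coe_pow, OneMemClass.coe_one] at this
    rw [h0, h3, this]
  -- two-point stabilisers
  have hD_card : (Finset.univ.filter fun d => d ∈ D).card + 1 = Fintype.card L := by
    have e : (Finset.univ.filter fun x : L => x ≠ 0) = (Finset.univ.filter fun d => d ∈ D).attach.image
        (fun d => (⟨Hyp.chi (m := m) d.1, (hK _).mpr (Or.inr ⟨d.1, (Finset.mem_filter.mp d.2).2, rfl⟩)⟩ : L)) := by
      ext ⟨x, hx⟩
      simp only [Finset.mem_filter, Finset.mem_univ, true_and, Finset.mem_image, Finset.mem_attach, Subtype.exists,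
        ne_eq]
      constructor
      · intro hx0
        rcases (hK x).mp hx with e | ⟨d, hd, e⟩
        · exact absurd (Subtype.ext e) hx0
        · exact ⟨d, hd, Subtype.ext e⟩
      · rintro ⟨d, hd, e⟩ e0
        exact Hyp.chi_ne (m := m) d (congrArg Subtype.val (e.trans e0))
    have hc := congrArg Finset.card e
    rw [Finset.card_image_of_injective _ (fun d d' e => Subtype.ext (h.chi_inj (congrArg Subtype.val e))),
      Finset.card_attach, Finset.filter_ne', Finset.card_erase_of_mem (Finset.mem_univ _), Finset.card_univ] at hc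
    rw [← hc]
    have : 0 < Fintype.card L := Fintype.card_pos
    omega
  let I := Finset.univ.filter fun t : Cfsg.Sz F m => t ∈ M ∧ orderOf t = 2
  let O := Finset.univ.filter fun r : suzukiOvoid F m => r ≠ oI F m ∧ ∃ g ∈ M, g • oI F m = r
  let I' := I.filter fun t => t • oI F m ≠ oI F m
  have hI' : O.card * (Finset.univ.filter fun d => d ∈ D).card ≤ I'.card := by
    refine le_trans (le_of_eq (Finset.card_product _ _).symm) ?_
    have hg : ∀ r ∈ O, ∃ g ∈ M, g • oI F m = r := fun r hr => (Finset.mem_filter.mp hr).2.2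
    choose g hgM hgI using hg
    let f : suzukiOvoid F m × Fˣ → Cfsg.Sz F m := fun z =>
      if hz : z.1 ∈ O then g z.1 hz * h.tG 0 (Hyp.chi (m := m) z.2) * (g z.1 hz)⁻¹ else 1
    have hfix : ∀ r (hr : r ∈ O) b, (g r hr * h.tG 0 b * (g r hr)⁻¹) • r = r := fun r hr b => by
      conv_lhs => arg 2; rw [← hgI r hr]
      rw [mul_smul, mul_smul, inv_smul_smul, h.tG_oI, hgI r hr]
    refine Finset.card_le_card_of_injOn f ?_ ?_
    · rintro ⟨r, d⟩ hrd
      obtain ⟨hr, hd⟩ := Finset.mem_product.mp hrd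
      have hd' := (Finset.mem_filter.mp hd).2
      have hb : h.tG 0 (Hyp.chi (m := m) d) ∈ M := (hK _).mpr (Or.inr ⟨d, hd', rfl⟩)
      simp only [f, dif_pos hr, Finset.mem_coe]
      have ho' : orderOf (g r hr * h.tG 0 (Hyp.chi (m := m) d) * (g r hr)⁻¹) = 2 := by
        rw [← ho _ (Hyp.chi_ne (m := m) d)]; exact (MulAut.conj (g r hr)).orderOf_eq _
      refine Finset.mem_filter.mpr ⟨Finset.mem_filter.mpr ⟨Finset.mem_univ _,
        mul_mem (mul_mem (hgM r hr) hb) (inv_mem (hgM r hr)), ho'⟩, fun e => ?_⟩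
      exact (Finset.mem_filter.mp hr).2.1 (invol_unique h ho' (hfix r hr _) e)
    · rintro ⟨r, d⟩ hrd ⟨r', d'⟩ hrd' e
      obtain ⟨hr, hd⟩ := Finset.mem_product.mp hrd
      obtain ⟨hr', hd'⟩ := Finset.mem_product.mp hrd'
      simp only [f, dif_pos hr, dif_pos hr'] at e
      have ho' : orderOf (g r hr * h.tG 0 (Hyp.chi (m := m) d) * (g r hr)⁻¹) = 2 := by
        rw [← ho _ (Hyp.chi_ne (m := m) d)]; exact (MulAut.conj (g r hr)).orderOf_eq _
      obtain rfl : r = r' := invol_unique h ho' (hfix r hr _) (by rw [e]; exact hfix r' hr' _)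
      rw [h.chi_inj (h.tG_inj (mul_left_cancel (mul_right_cancel e))).2]
  have hsame : ∀ {a b a' b' : F} {d : Fˣ} {r : suzukiOvoid F m}, r ≠ oI F m →
      (h.tG a b * h.hG d) • r = r → (h.tG a' b' * h.hG d) • r = r → h.tG a b * h.hG d = h.tG a' b' * h.hG d := by
    intro a b a' b' d r hr e e'
    by_contra hne
    have hq : h.tG a b * h.hG d * (h.tG a' b' * h.hG d)⁻¹ = h.tG a b * (h.tG a' b')⁻¹ := by group
    rw [h.tG_inv, h.tG_mul] at hq
    have hne1 : h.tG a b * h.hG d * (h.tG a' b' * h.hG d)⁻¹ ≠ 1 := fun e0 => hne (mul_inv_eq_one.mp e0)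
    rw [hq] at hne1
    refine hr (h.tG_fix hne1 ?_)
    rw [← hq, mul_smul, inv_smul_eq_iff.mpr e'.symm, e]
  let Sd : suzukiOvoid F m → Finset Fˣ := fun r => Finset.univ.filter fun d =>
    d ∈ D ∧ ∃ a b, h.tG a b * h.hG d ∈ M ∧ (h.tG a b * h.hG d) • r = r
  have hle : ∀ r ∈ O, (I'.filter fun t => t • oI F m = r).card ≤ (Sd r).card := by
    intro r hr
    have hrI := (Finset.mem_filter.mp hr).2.1
    rcases (I'.filter fun t => t • oI F m = r).eq_empty_or_nonempty with e | ⟨t₀, ht₀⟩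
    · simp [e]
    have hy : ∀ t ∈ I'.filter (fun t => t • oI F m = r),
        ∃ a b d, d ∈ Sd r ∧ t₀ * t = h.tG a b * h.hG d ∧ (h.tG a b * h.hG d) • r = r := by
      obtain ⟨ht₀', ht₀r⟩ := Finset.mem_filter.mp ht₀
      obtain ⟨-, ht₀M, ht₀o⟩ := Finset.mem_filter.mp (Finset.mem_filter.mp ht₀').1
      have ht₀2 : t₀ * t₀ = 1 := by rw [← pow_two, ← ht₀o, pow_orderOf_eq_one]
      intro t ht
      obtain ⟨ht', htr⟩ := Finset.mem_filter.mp ht
      obtain ⟨-, htM, hto⟩ := Finset.mem_filter.mp (Finset.mem_filter.mp ht').1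
      have ht2 : t * t = 1 := by rw [← pow_two, ← hto, pow_orderOf_eq_one]
      have e1 : (t₀ * t) • oI F m = oI F m := by
        rw [mul_smul, htr, ← ht₀r, ← mul_smul, ht₀2, one_smul]
      have e2 : (t₀ * t) • r = r := by
        rw [mul_smul]; conv_lhs => rw [← htr, ← mul_smul t, ht2, one_smul]
        exact ht₀r
      obtain ⟨a, b, d, e⟩ := h.exists_th e1
      have hyM : h.tG a b * h.hG d ∈ M := e ▸ mul_mem ht₀M htM
      have hyr : (h.tG a b * h.hG d) • r = r := e ▸ e2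
      exact ⟨a, b, d, Finset.mem_filter.mpr ⟨Finset.mem_univ _, ⟨a, b, hyM⟩, a, b, hyM, hyr⟩, e, hyr⟩
    choose fa fb fd hfd hfe hfr using hy
    refine Finset.card_le_card_of_injOn
      (fun t => if ht : t ∈ I'.filter (fun t => t • oI F m = r) then fd t ht else 1)
      (fun t ht => by
        simp only [Finset.mem_coe] at ht ⊢
        rw [dif_pos ht]; exact hfd t ht) ?_
    intro t ht t' ht' e
    simp only [Finset.mem_coe] at ht ht'
    simp only [dif_pos ht, dif_pos ht'] at e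
    have h5 := hfr t' ht'
    rw [← e] at h5
    have := hsame hrI (hfr t ht) h5
    rw [← hfe t ht] at this
    conv_rhs at this => rw [e, ← hfe t' ht']
    exact mul_left_cancel this
  have hSd : ∀ r ∈ O, (Sd r).card = (Finset.univ.filter fun d => d ∈ D).card ∧
      0 < (I'.filter fun t => t • oI F m = r).card := by
    have hmaps : (I' : Set (Cfsg.Sz F m)).MapsTo (fun t => t • oI F m) O := fun t ht => by
      obtain ⟨ht', hne⟩ := Finset.mem_filter.mp ht
      exact Finset.mem_filter.mpr ⟨Finset.mem_univ _, hne, t, (Finset.mem_filter.mp ht').2.1, rfl⟩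
    have hle2 : ∀ r, (Sd r).card ≤ (Finset.univ.filter fun d => d ∈ D).card := fun r =>
      Finset.card_le_card fun d hd => Finset.mem_filter.mpr ⟨Finset.mem_univ _, (Finset.mem_filter.mp hd).2.1⟩
    have hDpos : 0 < (Finset.univ.filter fun d => d ∈ D).card :=
      Finset.card_pos.mpr ⟨1, Finset.mem_filter.mpr ⟨Finset.mem_univ _, 0, 0, by
        rw [h.tG_zero, map_one, one_mul]; exact one_mem M⟩⟩
    have hsum := Finset.card_eq_sum_card_fiberwise hmaps
    intro r hr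
    have heq : (I'.filter fun t => t • oI F m = r).card = (Finset.univ.filter fun d => d ∈ D).card := by
      refine le_antisymm ((hle r hr).trans (hle2 r)) (Nat.le_of_not_lt fun hlt => ?_)
      have := Finset.sum_lt_sum (fun i hi => (hle i hi).trans (hle2 i)) ⟨r, hr, hlt⟩
      rw [Finset.sum_const, smul_eq_mul] at this
      omega
    exact ⟨le_antisymm (hle2 r) (heq ▸ hle r hr), heq ▸ hDpos⟩
  have hfull : ∀ r ∈ O, ∀ d ∈ D, ∃ a b, h.tG a b * h.hG d ∈ M ∧ (h.tG a b * h.hG d) • r = r := by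
    intro r hr d hd
    have : Sd r = Finset.univ.filter fun d => d ∈ D :=
      Finset.eq_of_subset_of_card_le (fun x hx => Finset.mem_filter.mpr ⟨Finset.mem_univ _, (Finset.mem_filter.mp hx).2.1⟩)
        (hSd r hr).1.ge
    exact (Finset.mem_filter.mp (this.ge (Finset.mem_filter.mpr ⟨Finset.mem_univ _, hd⟩))).2.2
  refine ⟨L, hL, hA, fun a b d hd => ?_, fun x hx hx0 => ?_, fun r hrI hr => ?_⟩
  · obtain ⟨d', hd'⟩ := Subfield.roots_mem h L.subtype (u := d) (hDL d ⟨a, b, hd⟩)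
    rw [← congrArg Units.val hd']
    exact (d' : L).2
  · obtain ⟨d, ⟨a, b, hd⟩, e⟩ := ((hK x).mp hx).resolve_left hx0
    exact ⟨d, a, b, hd, e⟩
  · have hr' : r ∈ O := Finset.mem_filter.mpr ⟨Finset.mem_univ _, hrI, hr⟩
    refine ⟨?_, fun d hd => hfull r hr' d hd⟩
    obtain ⟨t, ht⟩ := Finset.card_pos.mp (hSd r hr').2
    obtain ⟨ht', htr⟩ := Finset.mem_filter.mp ht
    obtain ⟨-, htM, hto⟩ := Finset.mem_filter.mp (Finset.mem_filter.mp ht').1
    exact ⟨t, htM, hto, htr⟩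

theorem torus_case (h : Hyp F m) {M : Subgroup (Cfsg.Sz F m)} (hM : M ≠ ⊤) (hz : h.tG 0 1 ∈ M)
    (hmove : ∃ g ∈ M, g • oI F m ≠ oI F m) {d₀ : Fˣ} (hd₀ : d₀ ≠ 1) (hd₀M : h.hG d₀ ∈ M) : InGood M := by
  haveI : Fintype (Cfsg.Sz F m) := Fintype.ofFinite _
  haveI : Fintype (suzukiOvoid F m) := Fintype.ofFinite _
  obtain ⟨L, hL, hA, hDL, hLD, horb⟩ := facts h hz hmove
  haveI : Fintype L := Fintype.ofFinite _
  have hyp0 : ∀ r : suzukiOvoid F m, r ≠ oI F m → (∃ g ∈ M, g • oI F m = r) →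
      ∃ a b, h.tG a b ∈ M ∧ (h.tG a b * h.hG d₀) • r = r := fun r hr hr' => by
    obtain ⟨a, b, hm', e⟩ := (horb r hr hr').2 d₀ ⟨0, 0, by rwa [h.tG_zero, one_mul]⟩
    refine ⟨a, b, ?_, e⟩
    have := mul_mem hm' (inv_mem hd₀M)
    rwa [mul_inv_cancel_right] at this
  have huniq : ∀ {a b : F} {r r' : suzukiOvoid F m}, r ≠ oI F m → r' ≠ oI F m →
      (h.tG a b * h.hG d₀) • r = r → (h.tG a b * h.hG d₀) • r' = r' → r = r' := by
    intro a b r r' hr hr' e e'
    obtain ⟨t, ht, et⟩ := h.conj_to_H hd₀ a b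
    have key : ∀ r : suzukiOvoid F m, r ≠ oI F m → (h.tG a b * h.hG d₀) • r = r → t⁻¹ • r = o0 F m := fun r hr e => by
      rw [et, mul_smul, mul_smul, ← eq_inv_smul_iff] at e
      rcases h.hG_fix hd₀ e with e1 | e1
      · exact absurd (by rw [← ht, ← e1, smul_inv_smul] : r = oI F m) hr
      · exact e1
    exact MulAction.injective t⁻¹ ((key r hr e).trans (key r' hr' e').symm)
  let O := Finset.univ.filter fun r : suzukiOvoid F m => r ≠ oI F m ∧ ∃ g ∈ M, g • oI F m = r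
  let PT := Finset.univ.filter fun z : F × F => h.tG z.1 z.2 ∈ M
  obtain ⟨g₁, hg₁, hg₁I⟩ := hmove
  have hr₁ : g₁ • oI F m ∈ O := Finset.mem_filter.mpr ⟨Finset.mem_univ _, hg₁I, g₁, hg₁, rfl⟩
  have hact : ∀ z ∈ PT, ∀ r ∈ O, h.tG z.1 z.2 • r ∈ O := by
    intro z hz' r hr
    obtain ⟨hrI, g, hg, rfl⟩ := (Finset.mem_filter.mp hr).2
    refine Finset.mem_filter.mpr ⟨Finset.mem_univ _, fun e => hrI ?_,
      h.tG z.1 z.2 * g, mul_mem (Finset.mem_filter.mp hz').2 hg, mul_smul _ _ _⟩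
    exact MulAction.injective (h.tG z.1 z.2) (e.trans (h.tG_oI _ _).symm)
  have hfree : ∀ r ∈ O, Set.InjOn (fun z : F × F => h.tG z.1 z.2 • r) (PT : Set (F × F)) := by
    intro r hr z _ z' _ e
    simp only at e
    have hrI := (Finset.mem_filter.mp hr).2.1
    have e' : ((h.tG z'.1 z'.2)⁻¹ * h.tG z.1 z.2) • r = r := by rw [mul_smul, e, inv_smul_smul]
    rw [h.tG_inv, h.tG_mul] at e'
    by_contra hne
    refine hrI (h.tG_fix ?_ e')
    intro e0
    rw [← h.tG_mul, ← h.tG_inv, inv_mul_eq_one] at e0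
    obtain ⟨ea, eb⟩ := h.tG_inj e0
    exact hne (Prod.ext ea.symm eb.symm)
  have hPO : PT.card ≤ O.card :=
    Finset.card_le_card_of_injOn _ (fun z hz' => hact z hz' _ hr₁) (hfree _ hr₁)
  choose fa fb hfm hfr using fun (r : suzukiOvoid F m) (hr : r ∈ O) =>
    hyp0 r (Finset.mem_filter.mp hr).2.1 (Finset.mem_filter.mp hr).2.2
  have hsurj : O.attach.image (fun r => (fa r.1 r.2, fb r.1 r.2)) = PT := by
    refine Finset.eq_of_subset_of_card_le (fun z hz' => ?_) ?_
    · obtain ⟨r, -, rfl⟩ := Finset.mem_image.mp hz'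
      exact Finset.mem_filter.mpr ⟨Finset.mem_univ _, hfm r.1 r.2⟩
    · rw [Finset.card_image_of_injective, Finset.card_attach]
      · exact hPO
      rintro ⟨r, hr⟩ ⟨r', hr'⟩ e
      simp only [Prod.mk.injEq] at e
      have h2 := hfr r' hr'
      rw [← e.1, ← e.2] at h2
      exact Subtype.ext (huniq (Finset.mem_filter.mp hr).2.1 (Finset.mem_filter.mp hr').2.1 (hfr r hr) h2)
  have ho0 : o0 F m ∈ O := by
    obtain ⟨⟨r, hr⟩, -, e⟩ := Finset.mem_image.mp
      (hsurj.ge (Finset.mem_filter.mpr ⟨Finset.mem_univ ((0 : F), (0 : F)), by rw [h.tG_zero]; exact one_mem M⟩))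
    simp only [Prod.mk.injEq] at e
    have h2 := hfr r hr
    rw [e.1, e.2, h.tG_zero, one_mul] at h2
    rcases h.hG_fix hd₀ h2 with e1 | e1
    · exact absurd e1 (Finset.mem_filter.mp hr).2.1
    · rwa [e1] at hr
  have hcover : ∀ r ∈ O, ∃ a b, h.tG a b ∈ M ∧ h.tG a b • o0 F m = r := by
    have : PT.image (fun z => h.tG z.1 z.2 • o0 F m) = O := by
      refine Finset.eq_of_subset_of_card_le (fun r hr => ?_) ?_
      · obtain ⟨z, hz', rfl⟩ := Finset.mem_image.mp hr
        exact hact z hz' _ ho0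
      · rw [Finset.card_image_of_injOn (hfree _ ho0), ← hsurj, Finset.card_image_of_injective, Finset.card_attach]
        rintro ⟨r, hr⟩ ⟨r', hr'⟩ e
        simp only [Prod.mk.injEq] at e
        have h2 := hfr r' hr'
        rw [← e.1, ← e.2] at h2
        exact Subtype.ext (huniq (Finset.mem_filter.mp hr).2.1 (Finset.mem_filter.mp hr').2.1 (hfr r hr) h2)
    intro r hr
    obtain ⟨z, hz', e⟩ := Finset.mem_image.mp (this.ge hr)
    exact ⟨z.1, z.2, (Finset.mem_filter.mp hz').2, e⟩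
  have hP0 : ∀ a b, h.tG a b • o0 F m = ⟨P m a b, P_mem m a b⟩ := fun a b => Subtype.ext (by
    show tS m a b • P m (0 : F) 0 = P m a b
    rw [h.tS_P]; simp)
  have hH : ∀ d : Fˣ, (d : F) ∈ L → h.hG d ∈ M := by
    intro d hd
    obtain ⟨d', a, b, hm', e⟩ := hLD _ (mul_mem hd (pow_mem hd _) : Hyp.chi (m := m) d ∈ L) (Hyp.chi_ne d)
    obtain rfl := h.chi_inj e
    obtain ⟨a', b', hm'', e'⟩ := (horb _ (Finset.mem_filter.mp ho0).2.1 (Finset.mem_filter.mp ho0).2.2).2 d' ⟨a, b, hm'⟩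
    rw [mul_smul, h.hG_o0, hP0] at e'
    obtain ⟨ea, eb⟩ := P_inj (congrArg Subtype.val e')
    rwa [ea, eb, h.tG_zero, one_mul] at hm''
  obtain ⟨w, hwM, hwo, hwI⟩ := (horb _ (Finset.mem_filter.mp ho0).2.1 (Finset.mem_filter.mp ho0).2.2).1
  have hww : w * w = 1 := by rw [← pow_two, ← hwo, pow_orderOf_eq_one]
  have hw0 : w • o0 F m = oI F m := by rw [← hwI, ← mul_smul, hww, one_smul]
  obtain ⟨c, hc⟩ := h.eq_hG (g := w * h.wG)
    (congrArg Subtype.val (show (w * h.wG) • oI F m = oI F m by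
      rw [mul_smul, show h.wG • oI F m = o0 F m from Subtype.ext (wS_I (m := m)), hw0]))
    (congrArg Subtype.val (show (w * h.wG) • o0 F m = o0 F m by
      rw [mul_smul, show h.wG • o0 F m = oI F m from Subtype.ext wS_P0, hwI]))
  have hwc : w = h.hG c * h.wG := by rw [← hc, mul_assoc, h.wG_wG, mul_one]
  have horbit : ∀ g ∈ M, g • oI F m = oI F m ∨ ∃ a b, h.tG a b ∈ M ∧ g • oI F m = h.tG a b • o0 F m := by
    intro g hg
    by_cases e : g • oI F m = oI F m
    · exact Or.inl e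
    · obtain ⟨a, b, h1, h2⟩ := hcover _ (Finset.mem_filter.mpr ⟨Finset.mem_univ _, e, g, hg, rfl⟩)
      exact Or.inr ⟨a, b, h1, h2.symm⟩
  have hcL : (c : F) ∈ L := by
    have hstep : (w * h.tG 0 1) • o0 F m = ⟨P m (c : F) 0, P_mem m _ _⟩ := Subtype.ext (by
      rw [mul_smul, hP0, hwc, mul_smul]
      show hS m c • (wS : Matrix.SpecialLinearGroup (Fin 4) F) • P m (0 : F) 1 = P m (c : F) 0
      rw [h.wS_P (Or.inr one_ne_zero), h.hS_P]
      simp [fo, sg_zero, sg_one])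
    obtain ⟨-, g, hg, hgI⟩ := (Finset.mem_filter.mp ho0).2
    rcases horbit (w * h.tG 0 1 * g) (mul_mem (mul_mem hwM hz) hg) with e | ⟨a, b, hab, e⟩
    · rw [mul_smul, hgI, hstep] at e
      exact absurd (congrArg Subtype.val e) (P_ne_I m _ _)
    · rw [mul_smul, hgI, hstep, hP0] at e
      rw [(P_inj (congrArg Subtype.val e)).1]
      exact hA a b hab
  have hwG : h.wG ∈ M := by
    have := mul_mem (inv_mem (hH c hcL)) hwM
    rwa [hwc, inv_mul_cancel_left] at this
  obtain ⟨β, hβ⟩ : ∃ β, h.tG 1 β ∈ M := by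
    by_contra hcon
    push Not at hcon
    have hzero : ∀ a b, h.tG a b ∈ M → a = 0 := by
      intro a b hab
      by_contra ha
      have hu : (((Units.mk0 a ha)⁻¹ : Fˣ) : F) ∈ L := by
        rw [Units.val_inv_eq_inv_val]; exact inv_mem (hA a b hab)
      have := mul_mem (mul_mem (hH _ hu) hab) (inv_mem (hH _ hu))
      rw [h.hG_tG, mul_inv_cancel_right, Units.val_inv_eq_inv_val, Units.val_mk0, inv_mul_cancel₀ ha] at this
      exact hcon _ this
    have hstep : (h.wG * h.tG 0 1) • o0 F m = ⟨P m (1 : F) 0, P_mem m _ _⟩ := Subtype.ext (by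
      rw [mul_smul, hP0]
      show (wS : Matrix.SpecialLinearGroup (Fin 4) F) • P m (0 : F) 1 = P m 1 0
      rw [h.wS_P (Or.inr one_ne_zero)]
      simp [fo, sg_zero, sg_one])
    obtain ⟨-, g, hg, hgI⟩ := (Finset.mem_filter.mp ho0).2
    rcases horbit (h.wG * h.tG 0 1 * g) (mul_mem (mul_mem hwG hz) hg) with e | ⟨a, b, hab, e⟩
    · rw [mul_smul, hgI, hstep] at e
      exact P_ne_I m _ _ (congrArg Subtype.val e)
    · rw [mul_smul, hgI, hstep, hP0, hzero a b hab] at e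
      exact one_ne_zero (P_inj (congrArg Subtype.val e)).1
  obtain ⟨x, hx, hx0, hx1⟩ : ∃ x ∈ L, x ≠ 0 ∧ x ≠ 1 :=
    ⟨(d₀ : F), hDL 0 0 d₀ (by rwa [h.tG_zero, one_mul]), d₀.ne_zero, fun e => hd₀ (Units.ext e)⟩
  have hgen : ∀ d : Fˣ, (d : F) ∈ L → h.tG (d : F) (Hyp.chi (m := m) d * β) ∈ M := fun d hd => by
    have := mul_mem (mul_mem (hH d hd) hβ) (inv_mem (hH d hd))
    rwa [h.hG_tG', mul_one] at this
  have hbeta : β ∈ L := by
    have hx1' : 1 + x ≠ 0 := fun e => hx1 (by linear_combination e - h.two)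
    have h2 := mul_mem hβ (hgen (Units.mk0 x hx0) hx)
    have h3 := hgen (Units.mk0 (1 + x) hx1') (add_mem (one_mem L) hx)
    rw [h.tG_mul, sg_one, one_mul] at h2
    simp only [Units.val_mk0] at h2 h3
    have h4 := mul_mem (inv_mem h3) h2
    rw [h.tG_inv, h.tG_mul, h.add_self] at h4
    have h5 := (hL _).mpr h4
    simp only [Hyp.chi, Units.val_mk0, h.sg_add, sg_one] at h5
    have hne : x + sg m x ≠ 0 := fun e => by
      rcases h.sg_fixed (x := x) (by linear_combination e - x * h.two) with e' | e'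
      · exact hx0 e'
      · exact hx1 e'
    have e : (x + sg m x) * β + x ∈ L := by
      convert h5 using 1
      have h2' := h.two
      linear_combination -((1 + sg m x) * (1 + x) + β + x * sg m x * β) * h2'
    rw [show β = ((x + sg m x) * β + x - x) / (x + sg m x) by rw [add_sub_cancel_right, mul_div_cancel_left₀ _ hne]]
    exact div_mem (sub_mem e hx) (add_mem hx (pow_mem hx _))
  have hT : ∀ a b, h.tG a b ∈ M → b ∈ L := by
    intro a b hab
    rcases eq_or_ne a 0 with rfl | ha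
    · exact (hL b).mpr hab
    have h2 := mul_mem (inv_mem (hgen (Units.mk0 a ha) (hA a b hab))) hab
    simp only [Units.val_mk0] at h2
    rw [h.tG_inv, h.tG_mul, h.add_self] at h2
    have h5 := (hL _).mpr h2
    have hcb : Hyp.chi (m := m) (Units.mk0 a ha) * β ∈ L :=
      mul_mem (mul_mem (hA a b hab) (pow_mem (hA a b hab) _)) hbeta
    have := sub_mem h5 hcb
    convert this using 1
    have h2' := h.two
    linear_combination -(sg m a * a) * h2'
  -- size of the subfield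
  obtain ⟨e, he, hcardL⟩ : ∃ e ≤ 2 * m + 1, Fintype.card L = 2 ^ e := by
    have := AddSubgroup.card_addSubgroup_dvd_card L.toAddSubgroup
    have e0 : Nat.card L.toAddSubgroup = Fintype.card L := (show Nat.card L.toAddSubgroup = Nat.card L from rfl).trans Nat.card_eq_fintype_card
    rw [e0, Nat.card_eq_fintype_card, h.card] at this
    exact (Nat.dvd_prime_pow Nat.prime_two).mp this
  have hediv : e ∣ 2 * m + 1 := pow_two_sub_dvd (by
    rw [← h.card, ← hcardL, ← Fintype.card_units, ← Fintype.card_units, ← Nat.card_eq_fintype_card,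
      ← Nat.card_eq_fintype_card]
    exact Subgroup.card_dvd_of_injective _ (Units.map_injective (f := (L.subtype : L →* F)) Subtype.val_injective))
  have he2 : 2 ≤ e := by
    by_contra hlt
    have : Fintype.card L ≤ 2 := by rw [hcardL]; interval_cases e <;> norm_num
    have h3 : ({0, 1, ⟨x, hx⟩} : Finset L).card = 3 :=
      Finset.card_eq_three.mpr ⟨0, 1, ⟨x, hx⟩, zero_ne_one, fun e0 => hx0 (congrArg Subtype.val e0).symm,
        fun e1 => hx1 (congrArg Subtype.val e1).symm, rfl⟩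
    have := Finset.card_le_univ ({0, 1, ⟨x, hx⟩} : Finset L)
    omega
  obtain ⟨k, rfl⟩ : Odd e := Odd.of_dvd_nat (odd_two_mul_add_one m) hediv
  have hkm : k < m := by
    by_contra hk
    have hk' : k = m := by omega
    have hall : ∀ y : F, y ∈ L := by
      have hu : (Finset.univ.image (fun y : L => (y : F))) = Finset.univ := by
        refine Finset.eq_of_subset_of_card_le (Finset.subset_univ _) ?_
        rw [Finset.card_image_of_injective _ Subtype.val_injective, Finset.card_univ, Finset.card_univ, hcardL, hk', h.card]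
      intro y
      obtain ⟨y', -, rfl⟩ := Finset.mem_image.mp (hu.ge (Finset.mem_univ y))
      exact y'.2
    refine hM (h.le_of_gens (fun a b => ?_) (fun d => hH d (hall _)) hwG)
    rcases eq_or_ne a 0 with rfl | ha
    · exact (hL b).mp (hall b)
    · have h2 := mul_mem (hgen (Units.mk0 a ha) (hall _))
        ((hL _).mp (hall (b - Hyp.chi (m := m) (Units.mk0 a ha) * β)))
      rw [h.tG_mul, Units.val_mk0, add_zero, mul_zero, add_zero, add_sub_cancel] at h2
      exact h2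
  haveI : Fact (Nat.Prime 2) := ⟨Nat.prime_two⟩
  haveI : Fintype (GaloisField 2 (2 * k + 1)) := Fintype.ofFinite _
  have h' : Hyp (GaloisField 2 (2 * k + 1)) k := ⟨by omega, by
    rw [← Nat.card_eq_fintype_card, GaloisField.card 2 _ (by omega)]⟩
  obtain ⟨ι⟩ := Subfield.exists_hom h h' hediv
  obtain ⟨ψ, hψ, hψt, hψh, hψw⟩ := Subfield.map_gens h h' hediv ι
  refine ⟨ψ.range, Or.inr (Or.inr ⟨k, by omega, hkm, hediv, ⟨(MonoidHom.ofInjective hψ).symm⟩⟩), ?_⟩
  have hrange : ∀ y ∈ L, ∃ z, ι z = y := by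
    intro y hy
    rcases eq_or_ne y 0 with rfl | hy0
    · exact ⟨0, map_zero _⟩
    obtain ⟨d, hd⟩ := Subfield.roots_mem h ι (u := Units.mk0 y hy0) (Units.ext (by
      rw [Units.val_pow_eq_pow_val, Units.val_mk0, h'.card, ← hcardL, Units.val_one]
      have := congrArg Subtype.val (FiniteField.pow_card_sub_one_eq_one (⟨y, hy⟩ : L) (fun e0 => hy0 (congrArg Subtype.val e0)))
      simpa using this))
    exact ⟨d, congrArg Units.val hd⟩
  have htr : ∀ a b, h.tG a b ∈ M → h.tG a b ∈ ψ.range := by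
    intro a b hab
    obtain ⟨a', rfl⟩ := hrange a (hA a b hab)
    obtain ⟨b', rfl⟩ := hrange b (hT _ b hab)
    exact ⟨h'.tG a' b', hψt a' b'⟩
  have hstab : ∀ y ∈ M, y • oI F m = oI F m → y ∈ ψ.range := by
    intro y hy e0
    obtain ⟨a, b, d, rfl⟩ := h.exists_th e0
    have hd := hDL a b d hy
    have hab : h.tG a b ∈ M := by
      have := mul_mem hy (inv_mem (hH d hd))
      rwa [mul_inv_cancel_right] at this
    refine mul_mem (htr a b hab) ?_
    obtain ⟨z, hz'⟩ := hrange _ hd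
    exact ⟨h'.hG (Units.mk0 z (fun e1 => d.ne_zero (by rw [← hz', e1, map_zero]))), by
      rw [hψh]; congr 1; exact Units.ext hz'⟩
  intro y hy
  rcases horbit y hy with e0 | ⟨a, b, hab, e0⟩
  · exact hstab y hy e0
  · set r := h.tG a b * h.wG
    have hr : r ∈ M := mul_mem hab hwG
    have hrψ : r ∈ ψ.range := mul_mem (htr a b hab) ⟨h'.wG, hψw⟩
    have := mul_mem hrψ (hstab (r⁻¹ * y) (mul_mem (inv_mem hr) hy) (by
      rw [mul_smul, e0, inv_smul_eq_iff, mul_smul, show h.wG • oI F m = o0 F m from Subtype.ext (wS_I (m := m))]))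
    rwa [mul_inv_cancel_left] at this

theorem even_case (h : Hyp F m) {M : Subgroup (Cfsg.Sz F m)} (hM : M ≠ ⊤) (hz : h.tG 0 1 ∈ M)
    (hmove : ∃ g ∈ M, g • oI F m ≠ oI F m) : InGood M := by
  obtain ⟨L, hL, hA, hDL, hLD, horb⟩ := facts h hz hmove
  haveI : Fact (Nat.Prime 2) := ⟨Nat.prime_two⟩
  by_cases hd : ∃ (d : Fˣ) (a b : F), d ≠ 1 ∧ h.tG a b * h.hG d ∈ M
  · obtain ⟨d, a, b, hd1, hm'⟩ := hd
    obtain ⟨t, ht, et⟩ := h.conj_to_H hd1 a b
    obtain ⟨u, v, e, rfl⟩ := h.exists_th ht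
    set s := h.tG u v
    have et' : h.tG a b * h.hG d = s * h.hG d * s⁻¹ := by
      rw [et, _root_.mul_inv_rev, mul_assoc s (h.hG e), ← map_mul, mul_comm e d, map_mul]; group
    refine inGood_of_conj s⁻¹ (torus_case h ?_ ?_ ?_ hd1 ?_)
    · intro htop
      exact hM (Subgroup.map_injective (f := (MulAut.conj s⁻¹).toMonoidHom) (MulAut.conj s⁻¹).injective (by
        rw [htop, Subgroup.map_top_of_surjective _ (MulAut.conj s⁻¹).surjective]))
    · refine ⟨_, hz, ?_⟩
      show s⁻¹ * h.tG 0 1 * s⁻¹⁻¹ = _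
      rw [inv_inv, mul_assoc, h.tG_Z_comm, inv_mul_cancel_left]
    · obtain ⟨g, hg, hgI⟩ := hmove
      refine ⟨_, ⟨g, hg, rfl⟩, fun e0 => hgI ?_⟩
      have : (s⁻¹ * g * s⁻¹⁻¹) • oI F m = oI F m := e0
      rw [inv_inv, mul_smul, mul_smul, h.tG_oI, inv_smul_eq_iff, h.tG_oI] at this
      exact this
    · refine ⟨_, hm', ?_⟩
      show s⁻¹ * (h.tG a b * h.hG d) * s⁻¹⁻¹ = h.hG d
      rw [et']; group
  · push Not at hd
    have hM2 : 2 ∣ Nat.card M := by
      have ho : orderOf (h.tG 0 1) = 2 := orderOf_eq_prime (by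
        rw [pow_two, h.tG_sq, sg_zero, zero_mul, h.tG_zero])
        (fun e => one_ne_zero (h.tG_inj (e.trans h.tG_zero.symm)).2)
      exact ho ▸ Subgroup.orderOf_dvd_natCard M hz
    refine normal_complement h hM2 ?_ ?_
    · intro T hT hfix
      have hshape : ∀ y ∈ T, ∃ a b, y = h.tG a b ∧ (a = 0 ∨ a = 1) := by
        intro y hy
        obtain ⟨a, b, d, rfl⟩ := h.exists_th (hfix y hy)
        obtain rfl : d = 1 := by
          by_contra hne; exact hd d a b hne (hT hy)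
        refine ⟨a, b, by rw [map_one, mul_one], ?_⟩
        rcases eq_or_ne a 0 with e | e
        · exact Or.inl e
        right
        obtain ⟨d', a', b', hm', e'⟩ := hLD a (hA a b (by simpa using hT hy)) e
        obtain rfl : d' = 1 := by
          by_contra hne; exact hd d' a' b' hne hm'
        rw [← e']; simp [Hyp.chi, sg_one]
      have hz1 : ∀ b, h.tG 0 b ∈ M → b = 0 ∨ b = 1 := by
        intro b hb
        rcases eq_or_ne b 0 with e | e
        · exact Or.inl e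
        right
        obtain ⟨d', a', b', hm', e'⟩ := hLD b ((hL b).mpr hb) e
        obtain rfl : d' = 1 := by
          by_contra hne; exact hd d' a' b' hne hm'
        rw [← e']; simp [Hyp.chi, sg_one]
      by_cases h1 : ∃ β, h.tG 1 β ∈ T
      · obtain ⟨β, hβ⟩ := h1
        refine Subgroup.isCyclic_of_le (H' := Subgroup.zpowers (h.tG 1 β)) fun y hy => ?_
        have hsq : h.tG 0 1 ∈ Subgroup.zpowers (h.tG 1 β) := by
          have := mul_mem (Subgroup.mem_zpowers (h.tG 1 β)) (Subgroup.mem_zpowers (h.tG 1 β))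
          rwa [h.tG_sq, sg_one, one_mul] at this
        have hz' : ∀ b, h.tG 0 b ∈ M → h.tG 0 b ∈ Subgroup.zpowers (h.tG 1 β) := by
          intro b hb
          rcases hz1 b hb with rfl | rfl
          · rw [h.tG_zero]; exact one_mem _
          · exact hsq
        obtain ⟨a, b, rfl, rfl | rfl⟩ := hshape y hy
        · exact hz' b (hT hy)
        · have h2 := mul_mem (inv_mem (hT hβ)) (hT hy)
          rw [h.tG_inv, h.tG_mul, h.add_self] at h2
          have := mul_mem (Subgroup.mem_zpowers (h.tG 1 β)) (hz' _ h2)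
          rw [← h.add_self (1 : F), ← h.tG_mul, ← h.tG_inv, mul_inv_cancel_left] at this
          exact this
      · push Not at h1
        refine Subgroup.isCyclic_of_le (H' := Subgroup.zpowers (h.tG 0 1)) fun y hy => ?_
        obtain ⟨a, b, rfl, rfl | rfl⟩ := hshape y hy
        · rcases hz1 b (hT hy) with rfl | rfl
          · rw [h.tG_zero]; exact one_mem _
          · exact Subgroup.mem_zpowers _
        · exact absurd hy (h1 b)
    · intro T hT hT2
      obtain ⟨p, hp⟩ := two_group_fix h hT2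
      by_cases hb : T = ⊥
      · refine ⟨1, one_mem M, fun y hy => ?_⟩
        rw [hb, Subgroup.mem_bot] at hy
        rw [hy]; simp
      · obtain ⟨x, hx⟩ : ∃ x ∈ T, orderOf x = 2 := by
          obtain ⟨i, hi⟩ := hT2.exists_card_eq
          have hd2 : 2 ∣ Nat.card T := by
            rcases i with _ | i
            · exact absurd (Subgroup.card_eq_one.mp (by simpa using hi)) hb
            · rw [hi]; exact dvd_pow_self 2 (Nat.succ_ne_zero i)
          obtain ⟨⟨x, hxT⟩, hx2⟩ := exists_prime_orderOf_dvd_card' (G := T) 2 hd2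
          exact ⟨x, hxT, by rwa [Subgroup.orderOf_mk] at hx2⟩
        obtain ⟨g, hg, hgI⟩ := (orbit_invol h hz hmove).2 x (hT hx.1) hx.2 p (hp x hx.1)
        refine ⟨g⁻¹, inv_mem hg, fun y hy => ?_⟩
        rw [inv_inv, mul_smul, mul_smul, hgI, hp y hy, inv_smul_eq_iff, hgI]

theorem classify_subgroup (h : Hyp F m) {M : Subgroup (Cfsg.Sz F m)} (hM : M ≠ ⊤) : InGood M := by
  by_cases hev : 2 ∣ Nat.card M
  · haveI : Fact (Nat.Prime 2) := ⟨Nat.prime_two⟩
    obtain ⟨⟨z, hzM⟩, hz2⟩ := exists_prime_orderOf_dvd_card' (G := M) 2 hev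
    rw [Subgroup.orderOf_mk] at hz2
    obtain ⟨x, b, hb, rfl⟩ := Fixity.invol_form h hz2
    obtain ⟨d, rfl⟩ := h.chi_surj hb
    set g := (h.hG d)⁻¹ * x⁻¹ with hg
    refine inGood_of_conj g ?_
    have hz' : h.tG 0 1 ∈ M.map (MulAut.conj g).toMonoidHom := by
      refine ⟨_, hzM, ?_⟩
      show g * (x * h.tG 0 (Hyp.chi (m := m) d) * x⁻¹) * g⁻¹ = h.tG 0 1
      have e := h.hG_tG' d 0 1
      rw [mul_zero, mul_one] at e
      rw [hg, ← e]; group
    by_cases hmove : ∃ y ∈ M.map (MulAut.conj g).toMonoidHom, y • oI F m ≠ oI F m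
    · refine even_case h (fun htop => hM ?_) hz' hmove
      exact Subgroup.map_injective (f := (MulAut.conj g).toMonoidHom) (MulAut.conj g).injective (by
        rw [htop, Subgroup.map_top_of_surjective _ (MulAut.conj g).surjective])
    · push Not at hmove
      exact ⟨_, Or.inl ⟨oI F m, rfl⟩, fun y hy => hmove y hy⟩
  · by_cases hb : M = ⊥
    · exact ⟨_, Or.inl ⟨oI F m, rfl⟩, by rw [hb]; exact bot_le⟩
    · refine odd_normal h hev hb fun g hg => ?_
      ext y
      constructor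
      · rintro ⟨z, hz, rfl⟩; exact mul_mem (mul_mem hg hz) (inv_mem hg)
      · intro hy
        exact ⟨g⁻¹ * y * g, mul_mem (mul_mem (inv_mem hg) hy) hg, by show g * (g⁻¹ * y * g) * g⁻¹ = y; group⟩

theorem statement_form (h : Hyp F m) (M : Subgroup (Cfsg.Sz F m)) (hM : M ≠ ⊤) :
    (∃ P : Sylow 2 (Cfsg.Sz F m), M ≤ Subgroup.normalizer ((P : Subgroup (Cfsg.Sz F m)) : Set (Cfsg.Sz F m))) ∨
    (∃ U : Subgroup (Cfsg.Sz F m), IsCyclic U ∧
      Nat.card U ∈ ({2 ^ (2 * m + 1) - 1, 2 ^ (2 * m + 1) + 2 ^ (m + 1) + 1, 2 ^ (2 * m + 1) - 2 ^ (m + 1) + 1} : Set ℕ) ∧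
      M ≤ Subgroup.normalizer (U : Set (Cfsg.Sz F m))) ∨
    (∃ (K : Type) (_ : Field K) (_ : Fintype K) (k : ℕ), 1 ≤ k ∧ k < m ∧ Fintype.card K = 2 ^ (2 * k + 1) ∧
      2 * k + 1 ∣ 2 * m + 1 ∧ ∃ S : Subgroup (Cfsg.Sz F m), Nonempty (S ≃* Cfsg.Sz K k) ∧ M ≤ S) := by
  obtain ⟨N, ⟨p, rfl⟩ | ⟨U, hU, hc, rfl⟩ | ⟨k, hk, hkm, hd, hiso⟩, hle⟩ := classify_subgroup h hM
  · left
    obtain ⟨P₀, hP₀⟩ := h.exists_sylow
    haveI := h.pretrans
    obtain ⟨x, rfl⟩ := MulAction.exists_smul_eq (Cfsg.Sz F m) (oI F m) p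
    refine ⟨x • P₀, fun y hy => ?_⟩
    have hy' := MulAction.mem_stabilizer_iff.mp (hle hy)
    rw [Sylow.coe_subgroup_smul, hP₀]
    have e : Subgroup.normalizer ((h.Q.map (MulAut.conj x).toMonoidHom : Subgroup (Cfsg.Sz F m)) : Set (Cfsg.Sz F m)) =
        (Subgroup.normalizer (h.Q : Set (Cfsg.Sz F m))).map (MulAut.conj x).toMonoidHom :=
      (Subgroup.map_equiv_normalizer_eq h.Q (MulAut.conj x)).symm
    show y ∈ Subgroup.normalizer ((h.Q.map (MulAut.conj x).toMonoidHom : Subgroup (Cfsg.Sz F m)) : Set (Cfsg.Sz F m))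
    rw [e, h.normalizer_Q]
    refine ⟨x⁻¹ * y * x, ?_, by show x * (x⁻¹ * y * x) * x⁻¹ = y; group⟩
    show (x⁻¹ * y * x) • oI F m = oI F m
    rw [mul_smul, mul_smul, hy', inv_smul_smul]
  · exact Or.inr (Or.inl ⟨U, hU, hc, hle⟩)
  · haveI : Fact (Nat.Prime 2) := ⟨Nat.prime_two⟩
    letI : Fintype (GaloisField 2 (2 * k + 1)) := Fintype.ofFinite _
    exact Or.inr (Or.inr ⟨GaloisField 2 (2 * k + 1), inferInstance, inferInstance, k, hk, hkm, by
      rw [← Nat.card_eq_fintype_card, GaloisField.card 2 _ (by omega)], hd, N, hiso, hle⟩)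

end CfsgLib.Suzuki.Classify
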