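import Cfsg.Agent.Lib.Suzuki.Maximal
import Cfsg.Prelude.Def_Sz

/-! The two models of the Suzuki group coincide. (helper4) -/

set_option autoImplicit false

namespace CfsgLib.Suzuki

open Cfsg Matrix
open scoped Pointwise

variable {F : Type*} [Field F] [Fintype F] {m : ℕ}

/-- absolute points of the polarity. -/
def IsAbs (m : ℕ) (v : Fin 4 → F) : Prop :=
  ∃ u : Fin 4 → F, Lie.altForm4 v u = 0 ∧
    ∀ r, v (Lie.pairOf r).1 * u (Lie.pairOf r).2 - v (Lie.pairOf r).2 * u (Lie.pairOf r).1 = sg m (v r)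

theorem isAbs_smul {v : Fin 4 → F} (hv : IsAbs m v) (c : F) : IsAbs m (c • v) := by
  obtain ⟨u, h1, h2⟩ := hv
  rcases eq_or_ne c 0 with rfl | hc
  · exact ⟨0, by simp [Lie.altForm4], fun r => by simp [sg_zero]⟩
  refine ⟨(sg m c / c) • u, ?_, fun r => ?_⟩
  · simp [Lie.altForm4] at h1 ⊢
    field_simp
    linear_combination sg m c * h1
  · simp [sg_mul]
    rw [← h2 r]; field_simp

namespace Hyp

variable (h : Hyp F m)
include h

theorem neg_self (a : F) : -a = a := by linear_combination -a * h.two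

theorem isAbs_P (x y : F) : IsAbs m (vP m x y) := by
  refine ⟨![y + x * sg m x, sg m x, 1, 0], ?_, fun r => ?_⟩
  · simp [Lie.altForm4, vP]; linear_combination (y + x * sg m x) * h.two
  · fin_cases r <;>
      simp [Lie.pairOf, vP, fo, h.sg_add, sg_mul, sg_one, h.sg_sg, show sg m (x ^ 2) = sg m x ^ 2 by simp [sg, ← pow_mul, mul_comm]]
    all_goals linear_combination (norm := ring_nf) 0
    all_goals simp [h.two, h.neg_self]

omit h in
theorem isAbs_I : IsAbs m (vI : Fin 4 → F) :=
  ⟨![0, 1, 0, 0], by simp [Lie.altForm4, vI], fun r => by fin_cases r <;> simp [Lie.pairOf, vI, sg_zero, sg_one]⟩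

theorem of_isAbs {v : Fin 4 → F} (hv : v ≠ 0) (ha : IsAbs m v) :
    Projectivization.mk F v hv ∈ suzukiOvoid F m := by
  have hs0 : ∀ x : F, sg m x = 0 → x = 0 := fun x e => h.sg_inj (by rw [e, sg_zero])
  rcases eq_or_ne (v 3) 0 with h3 | h3
  · obtain ⟨u, hB, hp⟩ := ha
    have p0 := hp 0; have p1 := hp 1; have p2 := hp 2; have p3 := hp 3
    simp [Lie.pairOf, h3, sg_zero] at p0 p1 p2 p3
    simp [Lie.altForm4, h3] at hB
    have h12 : v 1 = 0 ∧ v 2 = 0 := by
      rcases eq_or_ne (u 3) 0 with u3 | u3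
      · rw [u3, mul_zero] at p2 hB
        have v2 : v 2 = 0 := hs0 _ p2.symm
        refine ⟨?_, v2⟩
        by_contra hv1
        rw [v2, zero_mul, zero_add, add_zero] at hB
        have u2 : u 2 = 0 := (mul_eq_zero.mp hB).resolve_left hv1
        rw [u2, v2] at p1
        simp at p1
        exact hv1 (hs0 _ p1.symm)
      · have v2 : v 2 = 0 := p3.resolve_right u3
        rw [v2, sg_zero] at p2
        exact ⟨(mul_eq_zero.mp p2).resolve_right u3, v2⟩
    refine mem_ovoid.mpr (Or.inl ?_)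
    unfold I
    rw [Projectivization.mk_eq_mk_iff']
    refine ⟨v 0, funext fun i => ?_⟩
    fin_cases i <;> simp [vI, h12.1, h12.2, h3]
  · set w := (v 3)⁻¹ • v with hw
    have hw3 : w 3 = 1 := by simp [hw, h3]
    obtain ⟨u, hB, hp⟩ := isAbs_smul ha (v 3)⁻¹
    rw [← hw] at hB hp
    -- normalise the last coordinate of the partner
    have p0 := hp 0; have p1 := hp 1; have p2 := hp 2; have p3 := hp 3
    simp [Lie.pairOf, hw3, sg_one] at p0 p1 p2 p3
    simp [Lie.altForm4, hw3] at hB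
    set u0 := u 0 - u 3 * w 0
    set u1 := u 1 - u 3 * w 1
    set u2 := u 2 - u 3 * w 2
    have e2 : u2 = 1 := by linear_combination -p3 - h.two
    have e1 : u1 = sg m (w 2) := by linear_combination -p2 - sg m (w 2) * h.two
    have e0 : u0 = w 1 + w 2 * sg m (w 2) := by
      linear_combination hB - w 1 * e2 - w 2 * e1 -
        (w 1 + w 2 * sg m (w 2) + w 1 * w 2 * u 3 + w 0 * u 3) * h.two
    have ef : w 0 = fo m (w 2) (w 1) := by
      simp only [fo]
      linear_combination p1 - w 0 * e2 + w 2 * e0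
    refine mem_ovoid.mpr (Or.inr ⟨w 2, w 1, ?_⟩)
    unfold P
    rw [Projectivization.mk_eq_mk_iff']
    refine ⟨v 3, funext fun i => ?_⟩
    have hwi : ∀ i, v 3 * w i = v i := fun i => by simp [hw]; field_simp
    fin_cases i <;> simp [vP, ← ef, hwi]

theorem rows {g : Matrix (Fin 4) (Fin 4) F} (hg : ∀ u v, Lie.altForm4 (g *ᵥ u) (g *ᵥ v) = Lie.altForm4 u v) :
    g * suzukiForm F * gᵀ = suzukiForm F ∧ g.det = 1 := by
  have hB : ∀ u v : Fin 4 → F, Lie.altForm4 u v = u ⬝ᵥ (suzukiForm F *ᵥ v) := fun u v => by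
    simp [Lie.altForm4, suzukiForm, Matrix.mulVec, dotProduct, Fin.sum_univ_four]
  have e : gᵀ * suzukiForm F * g = suzukiForm F := Matrix.ext fun i j => by
    have := hg (Pi.single i 1) (Pi.single j 1)
    fin_cases i <;> fin_cases j <;>
      simp [Lie.altForm4, suzukiForm, Matrix.mul_apply, Fin.sum_univ_four] at this ⊢ <;>
      linear_combination this
  have hJ : suzukiForm F * suzukiForm F = 1 := by
    ext i j; fin_cases i <;> fin_cases j <;> simp [suzukiForm, Matrix.mul_apply, Fin.sum_univ_four]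
  constructor
  · have e1 : (suzukiForm F * gᵀ * suzukiForm F) * g = 1 := by
      rw [Matrix.mul_assoc (suzukiForm F * gᵀ), Matrix.mul_assoc (suzukiForm F), ← Matrix.mul_assoc gᵀ, e, hJ]
    have e2 := mul_eq_one_comm.mp e1
    calc g * suzukiForm F * gᵀ = g * (suzukiForm F * gᵀ * suzukiForm F) * suzukiForm F := by
          simp only [Matrix.mul_assoc, hJ, Matrix.mul_one]
      _ = suzukiForm F := by rw [e2, Matrix.one_mul]
  · have hd := congrArg Matrix.det e
    rw [Matrix.det_mul, Matrix.det_mul, Matrix.det_transpose] at hd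
    have hdj : (suzukiForm F).det * (suzukiForm F).det = 1 := by rw [← Matrix.det_mul, hJ, Matrix.det_one]
    exact h.sq_inj (by linear_combination (suzukiForm F).det * hd + (1 - g.det * g.det) * hdj)

theorem isAbs_image {g : Matrix (Fin 4) (Fin 4) F} (hg : ∀ u v, Lie.altForm4 (g *ᵥ u) (g *ᵥ v) = Lie.altForm4 u v)
    (hs : Lie.star4 g = g.map (fun x => x ^ 2 ^ (m + 1))) {v : Fin 4 → F} (hv : IsAbs m v) : IsAbs m (g *ᵥ v) := by
  obtain ⟨u, hB, hp⟩ := hv
  refine ⟨g *ᵥ u, by rw [hg, hB], fun p => ?_⟩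
  have hrow : ∀ k l, (g * suzukiForm F * gᵀ) k l = Lie.altForm4 (g k) (g l) := fun k l => by
    simp [Lie.altForm4, suzukiForm, Matrix.mul_apply, Fin.sum_univ_four]; ring
  have hz : Lie.altForm4 (g (Lie.pairOf p).1) (g (Lie.pairOf p).2) = 0 := by
    rw [← hrow, (h.rows hg).1]; fin_cases p <;> simp [Lie.pairOf, suzukiForm]
  have hs' : ∀ r, Lie.star4 g p r = sg m (g p r) := fun r => by rw [hs]; rfl
  have s0 := hs' 0; have s1 := hs' 1; have s2 := hs' 2; have s3 := hs' 3
  have p0 := hp 0; have p1 := hp 1; have p2 := hp 2; have p3 := hp 3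
  simp only [Matrix.mulVec, dotProduct, Fin.sum_univ_four, h.sg_add, sg_mul]
  rw [← s0, ← s1, ← s2, ← s3, ← p0, ← p1, ← p2, ← p3]
  simp only [Lie.altForm4] at hB hz
  simp only [Lie.star4, Matrix.of_apply]
  generalize Lie.pairOf p = kl at hz ⊢
  obtain ⟨k, l⟩ := kl
  simp only [Lie.pairOf, Matrix.cons_val_zero, Matrix.cons_val_one, Matrix.cons_val] at hz ⊢
  have e12 : g k 1 * g l 2 - g l 1 * g k 2 = -(g k 0 * g l 3 - g l 0 * g k 3) := by
    linear_combination hz - (g l 0 * g k 3 + g l 1 * g k 2) * h.two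
  have p12 : v 1 * u 2 - v 2 * u 1 = -(v 0 * u 3 - v 3 * u 0) := by
    linear_combination hB - (v 3 * u 0 + v 2 * u 1) * h.two
  linear_combination (v 1 * u 2 - v 2 * u 1) * e12 - (g k 0 * g l 3 - g l 0 * g k 3) * p12 +
    (g k 0 * g l 3 - g l 0 * g k 3) * (v 0 * u 3 - v 3 * u 0) * h.two

end Hyp

/-- `SL₄ → GL₄` restricted to the Suzuki group. -/
noncomputable def Hyp.toLie (_h : Hyp F m) : Cfsg.Sz F m →* GL (Fin 4) F :=
  Matrix.SpecialLinearGroup.toGL.comp (Cfsg.Sz F m).subtype

namespace Hyp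

variable (h : Hyp F m)
include h

theorem toLie_range : h.toLie.range = Lie.Sz F (2 ^ (m + 1)) := by
  apply le_antisymm
  · rw [MonoidHom.range_eq_map, Subgroup.map_le_iff_le_comap]
    refine (h.le_of_gens (fun a b => ?_) (fun d => ?_) ?_).ge
    all_goals
      refine Subgroup.mem_comap.mpr (Subgroup.subset_closure ⟨fun u v => ?_, ?_⟩)
      rotate_left
    · show Lie.star4 (tM m a b) = (tM m a b).map (fun x => x ^ 2 ^ (m + 1))
      ext i j
      show _ = sg m (tM m a b i j)
      fin_cases i <;> fin_cases j <;>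
        simp [tM, Lie.star4, Lie.pairOf, fo, h.sg_add, sg_mul, sg_zero, sg_one, h.sg_sg,
          show sg m (a ^ 2) = sg m a ^ 2 by simp [sg, ← pow_mul, mul_comm]]
      all_goals linear_combination (norm := ring_nf) 0
      all_goals simp [h.two, h.neg_self]
    · show Lie.altForm4 (tM m a b *ᵥ u) (tM m a b *ᵥ v) = _
      simp [tM, Lie.altForm4, fo, Matrix.mulVec, dotProduct, Fin.sum_univ_four]
      linear_combination (norm := ring_nf) 0
      simp [h.two, show (4 : F) = 0 by linear_combination 2 * h.two, h.neg_self]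
    · show Lie.star4 (hM m (d : F)) = (hM m (d : F)).map (fun x => x ^ 2 ^ (m + 1))
      have hr := rd_ne m d
      have hd := d.ne_zero
      have e : sg m (rd m (d : F)) = (d : F) := by
        apply h.sq_inj
        rw [sq (sg m _), ← sg_mul, rd_mul_self, h.sg_sg]
      ext i j
      show _ = sg m (hM m (d : F) i j)
      fin_cases i <;> fin_cases j <;>
        simp [hM, Lie.star4, Lie.pairOf, sg_mul, sg_zero, sg_inv, e, ← rd_mul_self m (d : F)] <;> field_simp
    · show Lie.altForm4 (hM m (d : F) *ᵥ u) (hM m (d : F) *ᵥ v) = _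
      have hr := rd_ne m d
      have hd := d.ne_zero
      simp [hM, Lie.altForm4, Matrix.mulVec_diagonal]
      field_simp
    · show Lie.star4 (wS : SpecialLinearGroup (Fin 4) F).1 =
        (wS : SpecialLinearGroup (Fin 4) F).1.map (fun x => x ^ 2 ^ (m + 1))
      ext i j
      show _ = sg m ((wS : SpecialLinearGroup (Fin 4) F).1 i j)
      fin_cases i <;> fin_cases j <;> simp [coe_wS, Lie.star4, Lie.pairOf, sg_zero, sg_one, h.neg_self]
    · show Lie.altForm4 ((wS : SpecialLinearGroup (Fin 4) F).1 *ᵥ u) ((wS : SpecialLinearGroup (Fin 4) F).1 *ᵥ v) = _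
      simp [coe_wS, Lie.altForm4, Matrix.mulVec, dotProduct, Fin.sum_univ_four]
      ring
  · rw [Lie.Sz, Subgroup.closure_le]
    rintro g ⟨hg, hs⟩
    let g' : SpecialLinearGroup (Fin 4) F := ⟨(g : Matrix (Fin 4) (Fin 4) F), (h.rows hg).2⟩
    have hmem : g' ∈ Cfsg.Sz F m := mem_Sz_of_maps fun p hp => by
      rcases mem_ovoid.mp hp with rfl | ⟨x, y, rfl⟩
      · unfold I; rw [Projectivization.smul_mk]
        exact h.of_isAbs _ (h.isAbs_image hg hs isAbs_I)
      · unfold P; rw [Projectivization.smul_mk]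
        exact h.of_isAbs _ (h.isAbs_image hg hs (h.isAbs_P x y))
    exact ⟨⟨g', hmem⟩, Units.ext rfl⟩

theorem nonempty_equiv : Nonempty (Lie.Sz F (2 ^ (m + 1)) ≃* Cfsg.Sz F m) :=
  ⟨((MonoidHom.ofInjective (f := h.toLie) fun x y e => Subtype.ext (Subtype.ext (congrArg Units.val e))).trans
    (MulEquiv.subgroupCongr h.toLie_range)).symm⟩

end Hyp

end CfsgLib.Suzuki
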