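import Cfsg.Agent.Lib.Suzuki.Maximal
import Cfsg.Agent.Lib.Suzuki.OutAut
import Cfsg.Agent.Lib.Suzuki.LieEquiv

/-! Faithful transitive actions of Suzuki groups in which non-identity elements fix at most two points
(owner helper8). -/
set_option autoImplicit false
set_option linter.all false

namespace CfsgLib.Suzuki.Fixity

open Cfsg (suzukiOvoid)
open CfsgLib.Fusion
open scoped Pointwise

/-- an odd order subgroup permuting a set of at most two points fixes it pointwise -/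
theorem fix_of_small {G Ω : Type*} [Group G] [Finite G] [MulAction G Ω] [Finite Ω] (S : Set Ω) (hS : S.ncard ≤ 2)
    (C : Subgroup G) (hC : ¬ 2 ∣ Nat.card C) {a : Ω} (ha : ∀ c ∈ C, c • a ∈ S) {c : G} (hc : c ∈ C) : c • a = a := by
  have hd : (MulAction.stabilizer C a).index ∣ Nat.card C := Subgroup.index_dvd_card _
  have hle : (MulAction.stabilizer C a).index ≤ 2 := by
    rw [MulAction.index_stabilizer]
    refine le_trans (Set.ncard_le_ncard ?_ (Set.toFinite _)) hS
    rintro _ ⟨x, rfl⟩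
    exact ha _ x.2
  have h0 : (MulAction.stabilizer C a).index ≠ 0 := Subgroup.index_ne_zero_of_finite
  have h1 : (MulAction.stabilizer C a).index = 1 := by
    have : (MulAction.stabilizer C a).index ≠ 2 := fun e => hC (e ▸ hd)
    omega
  have : (⟨c, hc⟩ : C) ∈ MulAction.stabilizer C a := by rw [Subgroup.index_eq_one.mp h1]; trivial
  exact this

/-- a group permuting a set of at most two points -/
theorem index_small {G Ω : Type*} [Group G] [Finite G] [MulAction G Ω] [Finite Ω] (S : Set Ω) (hS : S.ncard ≤ 2)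
    (C : Subgroup G) {a : Ω} (ha : ∀ c ∈ C, c • a ∈ S) :
    ∃ K : Subgroup G, K ≤ C ∧ (∀ k ∈ K, k • a = a) ∧ Nat.card C ≤ 2 * Nat.card K ∧ ∀ c ∈ C, c * c ∈ K := by
  have hle : (MulAction.stabilizer C a).index ≤ 2 := by
    rw [MulAction.index_stabilizer]
    refine le_trans (Set.ncard_le_ncard ?_ (Set.toFinite _)) hS
    rintro _ ⟨x, rfl⟩
    exact ha _ x.2
  refine ⟨(MulAction.stabilizer C a).map C.subtype, Subgroup.map_subtype_le _, ?_, ?_, ?_⟩
  · rintro _ ⟨x, hx, rfl⟩; exact hx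
  · rw [Subgroup.card_map_of_injective C.subtype_injective, ← (MulAction.stabilizer C a).card_mul_index, mul_comm 2]
    exact Nat.mul_le_mul_left _ hle
  · intro c hc
    refine ⟨⟨c, hc⟩ * ⟨c, hc⟩, ?_, rfl⟩
    rcases Nat.lt_or_ge (MulAction.stabilizer C a).index 2 with h2 | h2
    · have h0 : (MulAction.stabilizer C a).index ≠ 0 := Subgroup.index_ne_zero_of_finite
      rw [Subgroup.index_eq_one.mp (by omega : (MulAction.stabilizer C a).index = 1)]
      trivial
    · exact Subgroup.mul_self_mem_of_index_two (le_antisymm hle h2) _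

variable {F : Type*} [Field F] [Fintype F] {m : ℕ}
variable {Ω : Type*} [Finite Ω] [MulAction (Cfsg.Sz F m) Ω]

theorem q_facts (h : Hyp F m) : ¬ 2 ∣ Fintype.card F - 1 ∧ 8 ≤ Fintype.card F ∧ ¬ 2 ∣ Fintype.card F ^ 2 + 1 := by
  have hm : 1 ≤ m := h.one_le
  rw [h.card]
  have h8 : 8 ≤ 2 ^ (2 * m + 1) := (by norm_num : 8 = 2 ^ 3) ▸ Nat.pow_le_pow_right two_pos (by omega)
  have h2 : 2 ∣ 2 ^ (2 * m + 1) := dvd_pow_self 2 (by omega)
  refine ⟨by omega, h8, ?_⟩
  have h3 : 2 ∣ (2 ^ (2 * m + 1)) ^ 2 := dvd_pow h2 two_ne_zero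
  omega

theorem card_T (h : Hyp F m) : Nat.card h.hG.range = Fintype.card F - 1 := h.card_range

theorem pow_card_ne_invol {G : Type*} [Group G] [Finite G] {C : Subgroup G} (hC : ¬ 2 ∣ Nat.card C) {z : G}
    (hz : orderOf z = 2) : z ∉ C := fun hzC => hC (hz ▸ Subgroup.orderOf_dvd_natCard C hzC)

/-- an involution is conjugate to a central translation -/
theorem invol_form (h : Hyp F m) {z : Cfsg.Sz F m} (hz : orderOf z = 2) :
    ∃ (x : Cfsg.Sz F m) (b : F), b ≠ 0 ∧ z = x * h.tG 0 b * x⁻¹ := by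
  obtain ⟨hq, -, hq2⟩ := q_facts h
  have hz1 : z ≠ 1 := fun e => by simp [e] at hz
  by_cases hf : Fpf z
  · exact absurd (Subgroup.mem_centralizer_singleton_iff.mpr rfl)
      (pow_card_ne_invol (fun hd => hq2 (hd.trans (h.cent_dvd hf))) hz)
  · unfold Fpf at hf; push Not at hf
    obtain ⟨p, hp⟩ := hf
    obtain ⟨k, -, ⟨a, b, hne, e⟩ | ⟨d, hd, e⟩⟩ := h.classify hz1 hp
    · have h2 : z ^ 2 = 1 := hz ▸ pow_orderOf_eq_one z
      rw [e, conj_pow, conj_eq_one_iff, pow_two, h.tG_sq, ← h.tG_zero] at h2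
      have ha : a = 0 := by
        rcases mul_eq_zero.mp (h.tG_inj h2).2 with e0 | e0
        · exact h.sg_inj (e0.trans (sg_zero m).symm)
        · exact e0
      subst ha
      exact ⟨k, b, fun hb => hne (by rw [hb, h.tG_zero]), e⟩
    · exfalso
      have ho : orderOf (h.hG d) = 2 := by
        rw [← hz, e]; exact ((MulAut.conj k).orderOf_eq (h.hG d)).symm
      exact pow_card_ne_invol (C := h.hG.range) (by rw [card_T h]; exact hq) ho ⟨d, rfl⟩

theorem cent_central (h : Hyp F m) {b : F} : h.Q ≤ Subgroup.centralizer {h.tG 0 b} := by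
  rintro _ ⟨a, c, rfl⟩
  rw [Subgroup.mem_centralizer_singleton_iff]
  exact (h.tG_Z_comm a b c).symm

section
variable (h : Hyp F m) [hΩ : MulAction.IsPretransitive (Cfsg.Sz F m) Ω] [FaithfulSMul (Cfsg.Sz F m) Ω]
  (hfix : ∀ g : Cfsg.Sz F m, g ≠ 1 → (MulAction.fixedBy Ω g).ncard ≤ 2)
include h hΩ hfix

omit [FaithfulSMul (Cfsg.Sz F m) Ω] hΩ in
theorem fixed_invariant {g : Cfsg.Sz F m} {a : Ω} (ha : g • a = a) {c : Cfsg.Sz F m}
    (hc : c ∈ Subgroup.centralizer {g}) : c • a ∈ MulAction.fixedBy Ω g := by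
  show g • c • a = c • a
  rw [← mul_smul, ← (Subgroup.mem_centralizer_singleton_iff.mp hc), mul_smul, ha]

omit [FaithfulSMul (Cfsg.Sz F m) Ω] hΩ in
theorem stab_ge_borel {a : Ω} {b : F} (hb : b ≠ 0) (ha : h.tG 0 b • a = a) :
    MulAction.stabilizer (Cfsg.Sz F m) (oI F m) ≤ MulAction.stabilizer (Cfsg.Sz F m) a := by
  classical
  obtain ⟨hq, hq8, -⟩ := q_facts h
  have hne : ∀ c : F, c ≠ 0 → h.tG 0 c ≠ 1 := fun c hc e => hc (h.tG_inj (e.trans h.tG_zero.symm)).2
  obtain ⟨K, hKQ, hK, hcard, hsq⟩ := index_small _ (hfix _ (hne b hb)) h.Q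
    (fun c hc => fixed_invariant h hfix ha (cent_central h hc))
  have hZ : ∀ c, h.tG 0 c ∈ K := fun c => by
    rcases eq_or_ne c 0 with rfl | hc
    · rw [h.tG_zero]; exact one_mem _
    obtain ⟨d, hd⟩ := h.chi_surj hc
    have := hsq _ (h.tG_mem_Q (d : F) 0)
    rw [h.tG_sq] at this
    rwa [show sg m (d : F) * (d : F) = c from (mul_comm _ _).trans hd] at this
  have hT : ∀ d, h.hG d • a = a := fun d => by
    refine fix_of_small _ (hfix _ (hne b hb)) h.hG.range (by rw [card_T h]; exact hq) ?_ ⟨d, rfl⟩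
    rintro _ ⟨e, rfl⟩
    show h.tG 0 b • h.hG e • a = h.hG e • a
    have h1 : h.tG 0 b * h.hG e = h.hG e * h.tG 0 (Hyp.chi (m := m) e⁻¹ * b) := by
      have := h.hG_tG' e⁻¹ 0 b
      rw [mul_zero, map_inv, inv_inv] at this
      rw [← this]; group
    rw [← mul_smul, h1, mul_smul, hK _ (hZ _)]
  obtain ⟨a0, b0, ha0, hab0⟩ : ∃ a0 b0, a0 ≠ 0 ∧ h.tG a0 b0 ∈ K := by
    by_contra hcon
    push Not at hcon
    have hle : Nat.card K ≤ Nat.card F := by
      refine Nat.card_le_card_of_surjective (fun c => (⟨h.tG 0 c, hZ c⟩ : K)) ?_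
      rintro ⟨x, hx⟩
      obtain ⟨u, v, rfl⟩ := hKQ hx
      refine ⟨v, Subtype.ext ?_⟩
      by_cases hu : u = 0
      · subst hu; rfl
      · exact absurd hx (hcon u v hu)
    rw [h.card_Q, ← h.card] at hcard
    rw [Nat.card_eq_fintype_card (α := F)] at hle
    nlinarith
  have hQ : ∀ u v, h.tG u v • a = a := fun u v => by
    rcases eq_or_ne u 0 with rfl | hu
    · exact hK _ (hZ v)
    set d := Units.mk0 (u / a0) (div_ne_zero hu ha0)
    have h1 : (h.hG d * h.tG a0 b0 * (h.hG d)⁻¹) • a = a := by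
      rw [mul_smul, mul_smul, inv_smul_eq_iff.mpr (hT d).symm, hK _ hab0, hT d]
    rw [h.hG_tG', Units.val_mk0, div_mul_cancel₀ u ha0] at h1
    have h2 : h.tG u v = h.tG 0 (v - Hyp.chi (m := m) d * b0) * h.tG u (Hyp.chi (m := m) d * b0) := by
      rw [h.tG_mul, zero_add, sg_zero, zero_mul, add_zero, sub_add_cancel]
    rw [h2, mul_smul, h1, hK _ (hZ _)]
  intro g hg
  obtain ⟨u, v, d, rfl⟩ := h.exists_th (MulAction.mem_stabilizer_iff.mp hg)
  show (h.tG u v * h.hG d) • a = a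
  rw [mul_smul, hT, hQ]

theorem borel_case {a : Ω} {b : F} (hb : b ≠ 0) (ha : h.tG 0 b • a = a) :
    Nat.card Ω = Fintype.card F ^ 2 + 1 ∧ MulAction.IsMultiplyPretransitive (Cfsg.Sz F m) Ω 2 := by
  have hst : MulAction.stabilizer (Cfsg.Sz F m) a = MulAction.stabilizer (Cfsg.Sz F m) (oI F m) := by
    rcases (h.isCoatom_stab.le_iff).mp (stab_ge_borel h hfix hb ha) with e | e
    · exfalso
      have hall : ∀ (g : Cfsg.Sz F m) (x : Ω), g • x = x := fun g x => by
        obtain ⟨k, rfl⟩ := MulAction.exists_smul_eq (Cfsg.Sz F m) a x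
        have h1 : ∀ y : Cfsg.Sz F m, y • a = a := fun y =>
          MulAction.mem_stabilizer_iff.mp (e ▸ Subgroup.mem_top y)
        rw [← mul_smul, h1, h1]
      exact hb (h.tG_inj ((eq_of_smul_eq_smul (α := Ω) (fun x => (hall _ x).trans (one_smul _ x).symm) :
        h.tG 0 b = 1).trans h.tG_zero.symm)).2
    · exact e
  have := h.pretrans
  have hiff : ∀ g k : Cfsg.Sz F m, g • a = k • a ↔ g • oI F m = k • oI F m := fun g k => by
    rw [← inv_smul_eq_iff, ← inv_smul_eq_iff, ← mul_smul, ← mul_smul, ← MulAction.mem_stabilizer_iff,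
      ← MulAction.mem_stabilizer_iff, hst]
  have hsec : ∀ x : Ω, ∃ g : Cfsg.Sz F m, g • a = x := MulAction.exists_smul_eq _ a
  choose sec hsec using hsec
  let f : Ω → suzukiOvoid F m := fun x => sec x • oI F m
  have hf : ∀ g : Cfsg.Sz F m, f (g • a) = g • oI F m := fun g => (hiff _ _).mp (hsec _)
  have hequiv : ∀ (g : Cfsg.Sz F m) x, f (g • x) = g • f x := fun g x => by
    conv_lhs => rw [← hsec x, ← mul_smul, hf, mul_smul]
  have hinj : Function.Injective f := fun x y e => by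
    rw [← hsec x, ← hsec y]; exact (hiff _ _).mpr e
  have hsurj : Function.Surjective f := fun p => by
    obtain ⟨g, rfl⟩ := MulAction.exists_smul_eq (Cfsg.Sz F m) (oI F m) p
    exact ⟨g • a, hf g⟩
  refine ⟨by rw [Nat.card_congr (Equiv.ofBijective f ⟨hinj, hsurj⟩), card_ovoid], ?_⟩
  rw [MulAction.is_two_pretransitive_iff]
  intro x y z w hxy hzw
  obtain ⟨g, e1, e2⟩ := MulAction.is_two_pretransitive_iff.mp h.two_trans (hinj.ne hxy) (hinj.ne hzw)
  exact ⟨g, hinj ((hequiv g x).trans e1), hinj ((hequiv g y).trans e2)⟩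

omit [FaithfulSMul (Cfsg.Sz F m) Ω] hΩ in
theorem fixed_torus (hodd : ∀ z : Cfsg.Sz F m, orderOf z = 2 → ∀ x : Ω, z • x ≠ x) {g : Cfsg.Sz F m} (hg : g ≠ 1)
    {a : Ω} (ha : g • a = a) : ∃ (k : Cfsg.Sz F m) (d : Fˣ), d ≠ 1 ∧ g = k * h.hG d * k⁻¹ := by
  obtain ⟨hq, -, hq2⟩ := q_facts h
  have hno : ∀ (y : Cfsg.Sz F m), y • a = a → 2 ∣ orderOf y → False := fun y hy hd => by
    have hy' : y ∈ MulAction.stabilizer (Cfsg.Sz F m) a := hy
    refine hodd (y ^ (orderOf y / 2)) (orderOf_pow_orderOf_div (orderOf_pos y).ne' hd) a ?_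
    exact Subgroup.pow_mem _ hy' _
  by_cases hf : Fpf g
  · exfalso
    set T := Subgroup.centralizer {g} with hT
    have hTodd : ¬ 2 ∣ Nat.card T := fun hd => hq2 (hd.trans (h.cent_dvd hf))
    have hfixT : ∀ {x : Ω}, g • x = x → ∀ c ∈ T, c • x = x := fun {x} hx c hc =>
      fix_of_small _ (hfix g hg) T hTodd (fun c hc => fixed_invariant h hfix hx hc) hc
    obtain ⟨e, he, hN⟩ := h.normalizer_facts hf
    have hgT : g ∈ T := Subgroup.mem_centralizer_singleton_iff.mpr rfl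
    set N := Subgroup.normalizer (T : Set (Cfsg.Sz F m))
    have hN4 : 4 ∣ Nat.card N := by
      obtain ⟨g₁, g₂, -, -, -, -, hn1, hn2, hall⟩ := h.exists_tori
      obtain ⟨c, e1 | e1⟩ := hall g hf
      · rw [show N = cj c (Subgroup.normalizer (Subgroup.centralizer {g₁} : Set (Cfsg.Sz F m))) by
          show Subgroup.normalizer _ = _
          rw [← hT] at e1; rw [e1]
          exact (Subgroup.map_equiv_normalizer_eq _ (MulAut.conj c)).symm, card_cj, hn1]
        exact dvd_mul_right _ _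
      · rw [show N = cj c (Subgroup.normalizer (Subgroup.centralizer {g₂} : Set (Cfsg.Sz F m))) by
          show Subgroup.normalizer _ = _
          rw [← hT] at e1; rw [e1]
          exact (Subgroup.map_equiv_normalizer_eq _ (MulAut.conj c)).symm, card_cj, hn2]
        exact dvd_mul_right _ _
    obtain ⟨K, hKN, hK, hcard, hsq⟩ := index_small _ (hfix g hg) N (a := a) (fun n hn => by
      show g • n • a = n • a
      have : n⁻¹ * g * n ∈ T := by
        have := (Subgroup.mem_normalizer_iff.mp (inv_mem hn) g).mp hgT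
        rwa [inv_inv] at this
      have h1 := hfixT ha _ this
      rw [mul_smul, mul_smul, inv_smul_eq_iff] at h1
      exact h1)
    have hd : 2 ∣ Nat.card K := by
      have hdvd : Nat.card K ∣ Nat.card N := Subgroup.card_dvd_of_le hKN
      obtain ⟨r, hr⟩ := hdvd
      have hK0 : 0 < Nat.card K := Nat.card_pos
      have hr2 : r ≤ 2 := by nlinarith
      interval_cases r
      all_goals (have hN0 : 0 < Nat.card N := Nat.card_pos; revert hr hN4 hN0 hK0; generalize Nat.card K = κ; generalize Nat.card N = ν; omega)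
    have : Fact (Nat.Prime 2) := ⟨Nat.prime_two⟩
    obtain ⟨⟨z, hz⟩, hz2⟩ := exists_prime_orderOf_dvd_card' (G := K) 2 hd
    rw [Subgroup.orderOf_mk] at hz2
    exact hodd z hz2 a (hK z hz)
  · unfold Fpf at hf; push Not at hf
    obtain ⟨p, hp⟩ := hf
    obtain ⟨k, -, ⟨u, v, hne, e⟩ | ⟨d, hd, e⟩⟩ := h.classify hg hp
    · exfalso
      refine hno g ha ?_
      obtain ⟨j, hj⟩ := h.isPGroup_Q ⟨_, h.tG_mem_Q u v⟩
      have ho : orderOf g ∣ 2 ^ j := orderOf_dvd_of_pow_eq_one (by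
        rw [e, conj_pow, show h.tG u v ^ 2 ^ j = 1 from congrArg Subtype.val hj]; group)
      obtain ⟨i, -, hi⟩ := (Nat.dvd_prime_pow Nat.prime_two).mp ho
      rcases i with _ | i
      · exact absurd (orderOf_eq_one_iff.mp (by simpa using hi)) hg
      · exact ⟨2 ^ i, by rw [hi, pow_succ, mul_comm]⟩
    · exact ⟨k, d, hd, e⟩

theorem torus_case (hodd : ∀ z : Cfsg.Sz F m, orderOf z = 2 → ∀ x : Ω, z • x ≠ x)
    (hex : ∃ (g : Cfsg.Sz F m) (x : Ω), g ≠ 1 ∧ g • x = x) :
    Nat.card Ω = Fintype.card F ^ 2 * (Fintype.card F ^ 2 + 1) ∧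
      ∀ x : Ω, Nat.card (MulAction.stabilizer (Cfsg.Sz F m) x) = Fintype.card F - 1 := by
  classical
  obtain ⟨hq, hq8, -⟩ := q_facts h
  obtain ⟨g, a₀, hg, ha₀⟩ := hex
  obtain ⟨k, d₀, hd₀, rfl⟩ := fixed_torus h hfix hodd hg ha₀
  set a : Ω := k⁻¹ • a₀ with hadef
  have ha : h.hG d₀ • a = a := by
    rw [mul_smul, mul_smul] at ha₀
    rw [hadef]; exact (eq_inv_smul_iff.mpr ha₀)
  set T := h.hG.range with hTdef
  have hTodd : ¬ 2 ∣ Nat.card T := by rw [hTdef, card_T h]; exact hq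
  have hne : ∀ {d : Fˣ}, d ≠ 1 → h.hG d ≠ 1 := fun {d} hd e => hd (h.hG_inj (e.trans (map_one _).symm))
  have hfa : ∀ d, h.hG d • a = a := fun d =>
    fix_of_small _ (hfix _ (hne hd₀)) T hTodd
      (fun c hc => fixed_invariant h hfix ha (by rw [h.cent_hG hd₀]; exact hc)) ⟨d, rfl⟩
  set b : Ω := h.wG • a with hbdef
  have hfb : ∀ d, h.hG d • b = b := fun d => by
    have e : h.hG d * h.wG = h.wG * h.hG d⁻¹ := by
      rw [← h.wG_hG d, ← mul_assoc, ← mul_assoc, h.wG_wG, one_mul]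
    rw [hbdef, ← mul_smul, e, mul_smul, hfa]
  have hab : a ≠ b := fun e => hodd h.wG (orderOf_eq_prime (by rw [pow_two, h.wG_wG]) (fun e1 => by
    have := congrArg (fun x : Cfsg.Sz F m => x • oI F m) e1
    simp only [one_smul] at this
    exact P_ne_I m _ _ ((wS_I (m := m)).symm.trans (congrArg Subtype.val this)))) a e.symm
  have hfix2 : ∀ {d : Fˣ}, d ≠ 1 → ∀ x : Ω, h.hG d • x = x → x = a ∨ x = b := by
    intro d hd x hx
    by_contra hcon
    push Not at hcon
    have hsub : ({a, b, x} : Set Ω) ⊆ MulAction.fixedBy Ω (h.hG d) := by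
      rintro y (rfl | rfl | rfl)
      · exact hfa d
      · exact hfb d
      · exact hx
    have h3 : ({a, b, x} : Set Ω).ncard = 3 := Set.ncard_eq_three.mpr ⟨a, b, x, hab, hcon.1.symm, hcon.2.symm, rfl⟩
    have := (Set.ncard_le_ncard hsub (Set.toFinite _)).trans (hfix _ (hne hd))
    omega
  have hNT : ∀ {x : Cfsg.Sz F m} {d : Fˣ}, d ≠ 1 → x * h.hG d * x⁻¹ ∈ T → x • a = a → x ∈ T := by
    intro x d hd hx hxa
    obtain ⟨d', hd'⟩ := hx
    have hd'1 : d' ≠ 1 := fun e => hne hd (conj_eq_one_iff.mp (by rw [← hd', e, map_one]))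
    have hp : ∀ p : suzukiOvoid F m, h.hG d • p = p → (x • p = oI F m ∨ x • p = o0 F m) := fun p hp =>
      h.hG_fix hd'1 (by rw [hd', ← mul_smul, inv_mul_cancel_right, mul_smul, hp])
    rcases hp _ (h.hG_oI d) with eI | e0
    · rcases hp _ (h.hG_o0 d) with e' | e'
      · exact absurd (MulAction.injective x (eI.trans e'.symm)) h.oI_ne_o0
      · obtain ⟨e, he⟩ := h.eq_hG (congrArg Subtype.val eI) (congrArg Subtype.val e')
        exact ⟨e, he.symm⟩
    · exfalso
      rcases hp _ (h.hG_o0 d) with e' | e'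
      swap
      · exact h.oI_ne_o0 (MulAction.injective x (e0.trans e'.symm))
      have w0 : h.wG • o0 F m = oI F m := Subtype.ext wS_P0
      have wI : h.wG • oI F m = o0 F m := Subtype.ext (wS_I (m := m))
      obtain ⟨e, he⟩ := h.eq_hG (g := h.wG * x)
        (congrArg Subtype.val (show (h.wG * x) • oI F m = oI F m by rw [mul_smul, e0, w0]))
        (congrArg Subtype.val (show (h.wG * x) • o0 F m = o0 F m by rw [mul_smul, e', wI]))
      have : x = h.wG * h.hG e := by rw [← he, ← mul_assoc, h.wG_wG, one_mul]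
      rw [this, mul_smul, hfa] at hxa
      exact hab hxa.symm
  let A := (Cfsg.Sz F m) ⧸ T
  let U := {u : Fˣ // u ≠ 1}
  let B := Σ x : Ω, {y : MulAction.stabilizer (Cfsg.Sz F m) x // y ≠ 1}
  let f : A × U → B := fun z => ⟨Quotient.out z.1 • a,
    ⟨⟨Quotient.out z.1 * h.hG z.2.1 * (Quotient.out z.1)⁻¹, by
      show (Quotient.out z.1 * h.hG z.2.1 * (Quotient.out z.1)⁻¹) • Quotient.out z.1 • a = Quotient.out z.1 • a
      rw [← mul_smul, inv_mul_cancel_right, mul_smul, hfa]⟩,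
      fun e => hne z.2.2 (conj_eq_one_iff.mp (congrArg Subtype.val e))⟩⟩
  have hbij : Function.Bijective f := by
    constructor
    · rintro ⟨p, u⟩ ⟨q, v⟩ e
      have e1 : Quotient.out p • a = Quotient.out q • a := congrArg (fun z : B => z.1) e
      have e2 : Quotient.out p * h.hG u.1 * (Quotient.out p)⁻¹ = Quotient.out q * h.hG v.1 * (Quotient.out q)⁻¹ :=
        congrArg (fun z : B => ((z.2.1 : MulAction.stabilizer (Cfsg.Sz F m) z.1) : Cfsg.Sz F m)) e
      have hn : (Quotient.out q)⁻¹ * Quotient.out p ∈ T := by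
        refine hNT u.2 ⟨v.1, ?_⟩ (by rw [mul_smul, e1, inv_smul_smul])
        calc h.hG v.1 = (Quotient.out q)⁻¹ * (Quotient.out q * h.hG v.1 * (Quotient.out q)⁻¹) * Quotient.out q := by group
          _ = _ := by rw [← e2]; group
      have hpq : q = p := by
        rw [← QuotientGroup.out_eq' q, ← QuotientGroup.out_eq' p, QuotientGroup.eq]; exact hn
      subst hpq
      exact Prod.ext rfl (Subtype.ext (h.hG_inj (mul_left_cancel (mul_right_cancel e2))))
    · rintro ⟨x, ⟨y, hy⟩, hy1⟩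
      have hy1' : y ≠ 1 := fun e => hy1 (Subtype.ext e)
      obtain ⟨c, d, hd, rfl⟩ := fixed_torus h hfix hodd hy1' hy
      have hx : h.hG d • c⁻¹ • x = c⁻¹ • x := by
        have : (c * h.hG d * c⁻¹) • x = x := hy
        rw [mul_smul, mul_smul] at this
        exact eq_inv_smul_iff.mpr this
      obtain ⟨r, u, hu, hru, hr⟩ : ∃ (r : Cfsg.Sz F m) (u : Fˣ), u ≠ 1 ∧
          c * h.hG d * c⁻¹ = r * h.hG u * r⁻¹ ∧ r • a = x := by
        rcases hfix2 hd _ hx with e | e
        · exact ⟨c, d, hd, rfl, (inv_smul_eq_iff.mp e).symm⟩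
        · refine ⟨c * h.wG, d⁻¹, inv_ne_one.mpr hd, ?_, ?_⟩
          · rw [_root_.mul_inv_rev, inv_eq_of_mul_eq_one_right h.wG_wG]
            calc c * h.hG d * c⁻¹ = c * (h.wG * h.hG d⁻¹ * h.wG) * c⁻¹ := by rw [h.wG_hG, inv_inv]
              _ = _ := by group
          · rw [mul_smul]; exact (inv_smul_eq_iff.mp e).symm
      obtain ⟨n, hn⟩ := QuotientGroup.mk_out_eq_mul T r
      obtain ⟨e, he⟩ := n.2
      refine ⟨(QuotientGroup.mk r, ⟨u, hu⟩), ?_⟩
      have hout : Quotient.out (QuotientGroup.mk r : A) = r * h.hG e := by rw [he]; exact hn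
      have hoa : Quotient.out (QuotientGroup.mk r : A) • a = x := by rw [hout, mul_smul, hfa, hr]
      have hconj : Quotient.out (QuotientGroup.mk r : A) * h.hG u * (Quotient.out (QuotientGroup.mk r : A))⁻¹ =
          c * h.hG d * c⁻¹ := by
        rw [hout, hru, _root_.mul_inv_rev, ← mul_assoc, mul_assoc r, ← map_mul, mul_comm e u, map_mul,
          ← mul_assoc, mul_inv_cancel_right]
      have key : ∀ (x' : Ω) (hx' : x' = x) (y' : Cfsg.Sz F m) (hy' : y' ∈ MulAction.stabilizer (Cfsg.Sz F m) x')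
          (hy1'' : (⟨y', hy'⟩ : MulAction.stabilizer (Cfsg.Sz F m) x') ≠ 1), y' = c * h.hG d * c⁻¹ →
          (⟨x', ⟨y', hy'⟩, hy1''⟩ : B) = ⟨x, ⟨c * h.hG d * c⁻¹, hy⟩, hy1⟩ := by
        rintro _ rfl _ _ _ rfl; rfl
      exact key _ hoa _ _ _ hconj
  have hstab : ∀ x : Ω, Nat.card (MulAction.stabilizer (Cfsg.Sz F m) x) * Nat.card Ω = Nat.card (Cfsg.Sz F m) := fun x => by
    rw [← MulAction.index_stabilizer_of_transitive (Cfsg.Sz F m) x, Subgroup.card_mul_index]
  have hΩ0 : 0 < Nat.card Ω := Nat.card_pos_iff.mpr ⟨⟨a⟩, inferInstance⟩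
  have hH : ∀ x : Ω, Nat.card (MulAction.stabilizer (Cfsg.Sz F m) x) =
      Nat.card (MulAction.stabilizer (Cfsg.Sz F m) a) := fun x =>
    Nat.eq_of_mul_eq_mul_right hΩ0 ((hstab x).trans (hstab a).symm)
  have hsub : ∀ (X : Type _) [Finite X] (x₀ : X), Nat.card {x : X // x ≠ x₀} + 1 = Nat.card X := by
    intro X _ x₀
    haveI := Fintype.ofFinite X
    rw [Nat.card_eq_fintype_card, Nat.card_eq_fintype_card, Fintype.card_subtype_compl, Fintype.card_subtype_eq]
    have : 0 < Fintype.card X := Fintype.card_pos_iff.mpr ⟨x₀⟩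
    omega
  have hcard := Nat.card_eq_of_bijective f hbij
  haveI : Fintype Ω := Fintype.ofFinite Ω
  have hU : Nat.card U + 1 = Fintype.card F - 1 := by
    rw [hsub Fˣ 1, Nat.card_eq_fintype_card, Fintype.card_units]
  rw [Nat.card_prod, Nat.card_sigma,
    Finset.sum_congr rfl fun x _ => (show Nat.card {y : MulAction.stabilizer (Cfsg.Sz F m) x // y ≠ 1} =
      Nat.card (MulAction.stabilizer (Cfsg.Sz F m) a) - 1 by
        have := hsub (MulAction.stabilizer (Cfsg.Sz F m) x) 1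
        rw [hH x] at this; omega),
    Finset.sum_const, Finset.card_univ, smul_eq_mul, ← Nat.card_eq_fintype_card] at hcard
  have hA : Nat.card A * (Fintype.card F - 1) = Nat.card (Cfsg.Sz F m) := by
    rw [← card_T h]; exact T.card_eq_card_quotient_mul_card_subgroup.symm
  have hG := hstab a
  have hHpos : 0 < Nat.card (MulAction.stabilizer (Cfsg.Sz F m) a) := Nat.card_pos
  set H := Nat.card (MulAction.stabilizer (Cfsg.Sz F m) a) with hHdef
  obtain ⟨H', hH'⟩ : ∃ H', H = H' + 1 := ⟨H - 1, by omega⟩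
  rw [hH', Nat.add_sub_cancel] at hcard
  rw [hH', ← hA, ← hU] at hG
  have hΩA : Nat.card Ω = Nat.card A := by
    have e1 : H' * Nat.card Ω + Nat.card Ω = Nat.card A * Nat.card U + Nat.card A := by linarith
    have e2 : H' * Nat.card Ω = Nat.card A * Nat.card U := by rw [hcard, mul_comm]
    omega
  refine ⟨?_, fun x => ?_⟩
  · rw [hΩA]
    refine Nat.eq_of_mul_eq_mul_right (by omega : 0 < Fintype.card F - 1) ?_
    rw [hA, h.card_G']
  · rw [hH x]
    refine Nat.eq_of_mul_eq_mul_right hΩ0 ?_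
    rw [hH', ← hU, hG, hΩA, mul_comm]

theorem main (hex : ∃ g : Cfsg.Sz F m, g ≠ 1 ∧ (MulAction.fixedBy Ω g).ncard = 2) :
    (Nat.card Ω = Fintype.card F ^ 2 + 1 ∧ MulAction.IsMultiplyPretransitive (Cfsg.Sz F m) Ω 2) ∨
    (Nat.card Ω = Fintype.card F ^ 2 * (Fintype.card F ^ 2 + 1) ∧
      ∀ x : Ω, Nat.card (MulAction.stabilizer (Cfsg.Sz F m) x) = Fintype.card F - 1) := by
  by_cases hodd : ∀ z : Cfsg.Sz F m, orderOf z = 2 → ∀ x : Ω, z • x ≠ x
  · refine Or.inr (torus_case h hfix hodd ?_)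
    obtain ⟨g, hg, h2⟩ := hex
    obtain ⟨x, hx⟩ := Set.nonempty_of_ncard_ne_zero (by rw [h2]; norm_num : (MulAction.fixedBy Ω g).ncard ≠ 0)
    exact ⟨g, x, hg, hx⟩
  · push Not at hodd
    obtain ⟨z, hz, x, hx⟩ := hodd
    obtain ⟨k, b, hb, rfl⟩ := invol_form h hz
    refine Or.inl (borel_case h hfix hb (a := k⁻¹ • x) ?_)
    rw [mul_smul, mul_smul] at hx
    exact eq_inv_smul_iff.mpr hx

end

end CfsgLib.Suzuki.Fixity
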