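import Cfsg.Agent.Lib.Suzuki.Basic

/-! Point stabilisers, order and simplicity of the Suzuki groups. (helper4) -/

set_option autoImplicit false

namespace CfsgLib.Suzuki

open Cfsg Matrix
open scoped Pointwise

variable {F : Type*} [Field F] [Fintype F] {m : ℕ}

namespace Hyp

variable (h : Hyp F m)
include h

theorem sq_inj {x y : F} (e : x ^ 2 = y ^ 2) : x = y := by
  have := h.charP
  exact CharTwo.sq_injective e

theorem coeffs {u v w : F} (e : ∀ y : F, u * y ^ 2 + v * sg m y + w * (y ^ 2 * sg m y) = 0) :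
    u = 0 ∧ v = 0 ∧ w = 0 := by
  have hm := h.one_le
  set s := 2 ^ (m + 1) with hs
  have h4 : 4 ≤ s := by
    calc 4 = 2 ^ 2 := rfl
      _ ≤ s := Nat.pow_le_pow_right (by norm_num) (by omega)
  have hq : 2 * s ≤ Fintype.card F := by
    rw [h.card, hs, ← pow_succ']; exact Nat.pow_le_pow_right (by norm_num) (by omega)
  set p : Polynomial F := .C u * .X ^ 2 + .C v * .X ^ s + .C w * .X ^ (s + 2) with hp
  have hd : p.natDegree < Fintype.card F := by
    have : p.natDegree ≤ s + 2 := by rw [hp]; compute_degree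
    omega
  have h0 : p = 0 := Polynomial.eq_zero_of_natDegree_lt_card_of_eval_eq_zero p
    (f := (id : F → F)) Function.injective_id (fun y => by
      have := e y
      simp only [sg] at this
      simp [hp, pow_add]; linear_combination this) hd
  refine ⟨?_, ?_, ?_⟩
  · have := congrArg (fun r => Polynomial.coeff r 2) h0
    simpa [hp, Polynomial.coeff_X_pow, show (2 : ℕ) ≠ s by omega, show (2 : ℕ) ≠ s + 2 by omega, show s ≠ 0 by omega] using this
  · have := congrArg (fun r => Polynomial.coeff r s) h0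
    simpa [hp, Polynomial.coeff_X_pow, Polynomial.coeff_C, show s ≠ 2 by omega, show s ≠ 0 by omega] using this
  · have := congrArg (fun r => Polynomial.coeff r (s + 2)) h0
    simpa [hp, Polynomial.coeff_X_pow, Polynomial.coeff_C, show s ≠ 0 by omega] using this

end Hyp

omit [Fintype F] in
theorem coe_mul' (g k : SpecialLinearGroup (Fin 4) F) : (g * k).1 = g.1 * k.1 := rfl

omit [Fintype F] in
theorem coe_hS (d : Fˣ) : (hS (F := F) m d).1 = hM m (d : F) := rfl

omit [Fintype F] in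
theorem coe_tS (a b : F) : (tS m a b).1 = tM m a b := rfl

omit [Fintype F] in
theorem coe_wS : (wS : SpecialLinearGroup (Fin 4) F).1 = !![0, 0, 0, 1; 0, 0, 1, 0; 0, 1, 0, 0; 1, 0, 0, 0] := rfl

theorem col_zero_of_fixI {g : SpecialLinearGroup (Fin 4) F} (hg : g • I F = I F) :
    ∃ α : F, α ≠ 0 ∧ g.1 0 0 = α ∧ g.1 1 0 = 0 ∧ g.1 2 0 = 0 ∧ g.1 3 0 = 0 := by
  unfold I at hg
  rw [Projectivization.smul_mk, Projectivization.mk_eq_mk_iff'] at hg
  obtain ⟨c, hc⟩ := hg
  have hc' : g.1 *ᵥ vI = c • vI := hc.symm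
  have e : ∀ i, g.1 i 0 = c * vI i := fun i => by
    have := congrFun hc' i
    simpa [vI, Matrix.mulVec, dotProduct, Fin.sum_univ_four] using this
  refine ⟨c, fun h0 => ?_, by simp [e, vI], by simp [e, vI], by simp [e, vI], by simp [e, vI]⟩
  exact one_ne_zero (α := F) (g.2.symm.trans (Matrix.det_eq_zero_of_column_eq_zero 0 fun i => by simp [e, h0]))

theorem col_three_of_fix0 {g : SpecialLinearGroup (Fin 4) F} (hg : g • P m (0 : F) 0 = P m 0 0) :
    ∃ δ : F, δ ≠ 0 ∧ g.1 0 3 = 0 ∧ g.1 1 3 = 0 ∧ g.1 2 3 = 0 ∧ g.1 3 3 = δ := by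
  unfold P at hg
  rw [Projectivization.smul_mk, Projectivization.mk_eq_mk_iff'] at hg
  obtain ⟨c, hc⟩ := hg
  have hc' : g.1 *ᵥ vP m 0 0 = c • vP m 0 0 := hc.symm
  have e : ∀ i, g.1 i 3 = c * vP m 0 0 i := fun i => by
    have := congrFun hc' i
    simpa [vP, fo, sg_zero, Matrix.mulVec, dotProduct, Fin.sum_univ_four] using this
  refine ⟨c, fun h0 => ?_, by simp [e, vP, fo, sg_zero], by simp [e, vP], by simp [e, vP], by simp [e, vP]⟩
  exact one_ne_zero (α := F) (g.2.symm.trans (Matrix.det_eq_zero_of_column_eq_zero 3 fun i => by simp [e, h0]))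

theorem image_P {g : SpecialLinearGroup (Fin 4) F} (hg : g ∈ Cfsg.Sz F m) (hI : g • I F = I F) (x y : F) :
    ∃ x' y' c : F, c ≠ 0 ∧ g.1 *ᵥ vP m x y = c • vP m x' y' := by
  rcases mem_ovoid.mp (maps_of_mem hg (P_mem m x y)) with e | ⟨x', y', e⟩
  · exact absurd (smul_left_cancel g (e.trans hI.symm)) (P_ne_I m x y)
  · unfold P at e
    rw [Projectivization.smul_mk, Projectivization.mk_eq_mk_iff'] at e
    obtain ⟨c, hc⟩ := e
    refine ⟨x', y', c, fun h0 => ?_, hc.symm⟩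
    rw [h0, zero_smul] at hc
    exact vP_ne m x y (eq_zero_of_mulVec_eq_zero (by rw [g.2]; exact one_ne_zero) hc.symm)

theorem row_three {g : SpecialLinearGroup (Fin 4) F} (hg : g ∈ Cfsg.Sz F m) (hI : g • I F = I F) :
    g.1 3 1 = 0 ∧ g.1 3 2 = 0 := by
  obtain ⟨α, -, -, -, -, h30⟩ := col_zero_of_fixI hI
  have key : ∀ x y : F, g.1 3 1 * y + g.1 3 2 * x + g.1 3 3 ≠ 0 := by
    intro x y e
    obtain ⟨x', y', c, hc0, hc⟩ := image_P hg hI x y
    have := congrFun hc 3
    simp [vP, Matrix.mulVec, dotProduct, Fin.sum_univ_four, h30] at this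
    exact hc0 (this.symm.trans e)
  constructor <;> by_contra hne
  · exact key 0 (-g.1 3 3 / g.1 3 1) (by field_simp; ring)
  · exact key (-g.1 3 3 / g.1 3 2) 0 (by field_simp; ring)

theorem Hyp.fix_two (h : Hyp F m) {g : SpecialLinearGroup (Fin 4) F} (hg : g ∈ Cfsg.Sz F m) (hI : g • I F = I F)
    (h0 : g • P m (0 : F) 0 = P m 0 0) : ∃ d : Fˣ, g = hS m d := by
  obtain ⟨α, hα, g00, g10, g20, g30⟩ := col_zero_of_fixI hI
  obtain ⟨δ, hδ, g03, g13, g23, g33⟩ := col_three_of_fix0 h0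
  obtain ⟨g31, g32⟩ := row_three hg hI
  set w : SpecialLinearGroup (Fin 4) F := wS with hw
  have hw' : w * g * w ∈ Cfsg.Sz F m := mul_mem (mul_mem h.wS_mem hg) h.wS_mem
  have hwI : (w * g * w) • I F = I F := by rw [mul_smul, mul_smul, hw, wS_I (m := m), h0, wS_P0]
  obtain ⟨e1, e2⟩ := row_three hw' hwI
  have g02 : g.1 0 2 = 0 := by
    simpa [hw, coe_wS, coe_mul', Matrix.mul_apply, Matrix.vecMul, dotProduct, Fin.sum_univ_four] using e1
  have g01 : g.1 0 1 = 0 := by
    simpa [hw, coe_wS, coe_mul', Matrix.mul_apply, Matrix.vecMul, dotProduct, Fin.sum_univ_four] using e2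
  set A := g.1 1 1 / δ with hA
  set B := g.1 1 2 / δ with hB
  set C := g.1 2 1 / δ with hC
  set D := g.1 2 2 / δ with hD
  set L := α / δ with hL
  have key : ∀ x y : F, fo m (C * y + D * x) (A * y + B * x) = L * fo m x y := by
    intro x y
    obtain ⟨x', y', c, -, hc⟩ := image_P hg hI x y
    have c3 := congrFun hc 3
    have c2 := congrFun hc 2
    have c1 := congrFun hc 1
    have c0 := congrFun hc 0
    simp [vP, Matrix.mulVec, dotProduct, Fin.sum_univ_four, g00, g01, g02, g03, g10, g13, g20, g23, g30, g31, g32,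
      g33] at c3 c2 c1 c0
    subst c3
    have ex : C * y + D * x = x' := by rw [hC, hD]; field_simp; linear_combination c2
    have ey : A * y + B * x = y' := by rw [hA, hB]; field_simp; linear_combination c1
    rw [ex, ey, hL]; field_simp; linear_combination -c0
  obtain ⟨-, hAL, hC0⟩ := h.coeffs (u := C * A) (v := sg m A - L) (w := C ^ 2 * sg m C) fun y => by
    have := key 0 y
    simp only [fo, mul_zero, add_zero, h.sg_add, sg_mul, sg_zero] at this
    linear_combination this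
  obtain ⟨-, hB0, hDL⟩ := h.coeffs (u := D * B) (v := sg m B) (w := D ^ 2 * sg m D - L) fun x => by
    have := key x 0
    simp only [fo, mul_zero, zero_add, h.sg_add, sg_mul, sg_zero] at this
    linear_combination this
  have B0 : B = 0 := h.sg_inj (by rw [hB0, sg_zero])
  have C0 : C = 0 := by
    rcases mul_eq_zero.mp hC0 with e | e
    · exact pow_eq_zero_iff (n := 2) two_ne_zero |>.mp e
    · exact h.sg_inj (by rw [e, sg_zero])
  have eA : A = D * sg m D := h.sg_inj (by rw [sg_mul, h.sg_sg]; linear_combination hAL - hDL)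
  have g12 : g.1 1 2 = 0 := by rw [hB] at B0; exact (div_eq_zero_iff.mp B0).resolve_right hδ
  have g21 : g.1 2 1 = 0 := by rw [hC] at C0; exact (div_eq_zero_iff.mp C0).resolve_right hδ
  have g11 : g.1 1 1 = δ * (D * sg m D) := by rw [← eA, hA]; field_simp
  have g22 : g.1 2 2 = δ * D := by rw [hD]; field_simp
  have eα : α = δ * (D ^ 2 * sg m D) := by rw [sub_eq_zero.mp hDL, hL]; field_simp
  have hgd : g.1 = Matrix.diagonal ![α, δ * (D * sg m D), δ * D, δ] := by
    ext i j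
    fin_cases i <;> fin_cases j <;> simp [g00, g01, g02, g03, g10, g11, g12, g13, g20, g21, g22, g23, g30, g31, g32, g33]
  have hdet : α * (δ * (D * sg m D)) * (δ * D) * δ = 1 := by
    have := g.2
    rw [hgd, Matrix.det_diagonal] at this
    simpa [Fin.prod_univ_four] using this
  have hD0 : D ≠ 0 := fun e => by simp [e] at hdet
  have hr := rd_mul_self m D
  have e2 : δ * (rd m D * D) = 1 := h.sq_inj (h.sq_inj (by
    rw [eα, ← hr] at hdet; linear_combination hdet))
  refine ⟨Units.mk0 D hD0, Subtype.ext ?_⟩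
  rw [hgd]
  show _ = hM m D
  have eδ : δ = (rd m D * D)⁻¹ := eq_inv_of_mul_eq_one_left e2
  have hr0 : rd m D ≠ 0 := pow_ne_zero _ hD0
  rw [hM]; congr 1
  funext i; fin_cases i <;> simp [eα, eδ, ← hr] <;> field_simp

theorem Hyp.fixI (h : Hyp F m) {g : SpecialLinearGroup (Fin 4) F} (hg : g ∈ Cfsg.Sz F m) (hI : g • I F = I F) :
    ∃ (a b : F) (d : Fˣ), g = tS m a b * hS m d := by
  rcases mem_ovoid.mp (maps_of_mem hg (P_mem m (0 : F) 0)) with e | ⟨a, b, e⟩
  · exact absurd (smul_left_cancel g (e.trans hI.symm)) (P_ne_I m _ _)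
  have hk : (tS m a b)⁻¹ * g ∈ Cfsg.Sz F m := mul_mem (inv_mem (h.tS_mem a b)) hg
  obtain ⟨d, hd⟩ := h.fix_two hk (by rw [mul_smul, hI, inv_smul_eq_iff, tS_I])
    (by rw [mul_smul, e, inv_smul_eq_iff, h.tS_P]; simp)
  exact ⟨a, b, d, by rw [← hd, mul_inv_cancel_left]⟩

theorem Hyp.th_P0 (h : Hyp F m) (a b : F) (d : Fˣ) : (tS m a b * hS m d) • P m (0 : F) 0 = P m a b := by
  rw [mul_smul, h.hS_P, h.tS_P]; simp

theorem hS_inj {d e : Fˣ} (e1 : hS (F := F) m d = hS m e) : d = e := by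
  have h0 := congrFun (congrFun (congrArg Subtype.val e1) 0) 0
  have h1 := congrFun (congrFun (congrArg Subtype.val e1) 1) 1
  rw [coe_hS, coe_hS] at h0 h1
  simp [hM] at h0 h1
  rw [h1] at h0
  exact Units.ext (mul_left_cancel₀ (rd_ne m e) h0)

theorem Hyp.th_inj (h : Hyp F m) {a b a' b' : F} {d d' : Fˣ} (e : tS m a b * hS m d = tS m a' b' * hS m d') :
    a = a' ∧ b = b' ∧ d = d' := by
  obtain ⟨rfl, rfl⟩ := P_inj ((h.th_P0 a b d).symm.trans ((congrArg (· • P m (0 : F) 0) e).trans (h.th_P0 a' b' d')))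
  exact ⟨rfl, rfl, hS_inj (mul_left_cancel e)⟩

theorem Hyp.tS_mul (h : Hyp F m) (a b c d : F) : tS m a b * tS m c d = tS m (a + c) (b + d + sg m a * c) := by
  apply Subtype.ext
  show tM m a b * tM m c d = tM m (a + c) (b + d + sg m a * c)
  have h2 := h.two
  ext i j
  fin_cases i <;> fin_cases j <;> simp [tM, Matrix.mul_apply, Fin.sum_univ_four, fo, h.sg_add, sg_mul, h.sg_sg]
  all_goals linear_combination (norm := ring_nf) 0
  all_goals (simp [h2])

theorem Hyp.hS_tS (h : Hyp F m) (d : Fˣ) (a b : F) :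
    hS m d * tS m a b = tS m ((d : F) * a) ((d : F) * sg m (d : F) * b) * hS m d := by
  have hmem1 : hS m d * tS m a b ∈ Cfsg.Sz F m := mul_mem (h.hS_mem d) (h.tS_mem a b)
  obtain ⟨a', b', d', e⟩ := h.fixI hmem1 (by rw [mul_smul, tS_I, hS_I])
  have e0 := congrArg (· • P m (0 : F) 0) e
  simp only [h.th_P0] at e0
  rw [mul_smul, h.tS_P, h.hS_P] at e0
  obtain ⟨ea, eb⟩ := P_inj e0
  simp at ea eb
  subst ea eb
  have h2 := congrFun (congrFun (congrArg Subtype.val e) 0) 0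
  have h1 := congrFun (congrFun (congrArg Subtype.val e) 1) 1
  rw [coe_mul', coe_mul', coe_hS, coe_hS, coe_tS, coe_tS] at h2 h1
  simp [hM, tM, Matrix.mul_apply, Fin.sum_univ_four] at h2 h1
  rw [h1] at h2
  rw [e, show d' = d from Units.ext (mul_left_cancel₀ (rd_ne m d') h2).symm]

theorem Hyp.trans_to (h : Hyp F m) {p : Projectivization F (Fin 4 → F)} (hp : p ∈ suzukiOvoid F m) :
    ∃ g ∈ Cfsg.Sz F m, g • I F = p := by
  rcases mem_ovoid.mp hp with rfl | ⟨x, y, rfl⟩
  · exact ⟨1, one_mem _, one_smul _ _⟩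
  · refine ⟨tS m x y * wS, mul_mem (h.tS_mem _ _) h.wS_mem, ?_⟩
    rw [mul_smul, wS_I (m := m), h.tS_P]; simp

/-- two distinct ovoid points can be moved to `∞`, `0`. -/
theorem Hyp.move_two (h : Hyp F m) {p r : Projectivization F (Fin 4 → F)} (hp : p ∈ suzukiOvoid F m)
    (hr : r ∈ suzukiOvoid F m) (hne : p ≠ r) :
    ∃ g ∈ Cfsg.Sz F m, g • I F = p ∧ g • P m (0 : F) 0 = r := by
  obtain ⟨g, hg, hgI⟩ := h.trans_to hp
  rcases mem_ovoid.mp (maps_of_mem (inv_mem hg) hr) with e | ⟨x, y, e⟩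
  · rw [inv_smul_eq_iff, hgI] at e; exact absurd e.symm hne
  · refine ⟨g * tS m x y, mul_mem hg (h.tS_mem _ _), by rw [mul_smul, tS_I, hgI], ?_⟩
    rw [mul_smul, h.tS_P]
    simp only [zero_add, mul_zero, add_zero]
    rw [← e, smul_inv_smul]

theorem Hyp.hS_fix (h : Hyp F m) {d : Fˣ} {x y : F} (hxy : x ≠ 0 ∨ y ≠ 0) (e : hS m d • P m x y = P m x y) :
    d = 1 := by
  rw [h.hS_P] at e
  obtain ⟨ex, ey⟩ := P_inj e
  have hd : (d : F) = 1 := by
    rcases hxy with hx | hy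
    · exact (mul_eq_right₀ hx).mp ex
    · have hds : (d : F) * sg m (d : F) = 1 := (mul_eq_right₀ hy).mp ey
      have e2 := congrArg (sg m) hds
      rw [sg_mul, h.sg_sg, sg_one] at e2
      linear_combination e2 - (d : F) * hds
  exact Units.ext hd

theorem Hyp.fix_three (h : Hyp F m) {g : SpecialLinearGroup (Fin 4) F} (hg : g ∈ Cfsg.Sz F m)
    {p r s : Projectivization F (Fin 4 → F)} (hp : p ∈ suzukiOvoid F m) (hr : r ∈ suzukiOvoid F m)
    (hs : s ∈ suzukiOvoid F m) (hpr : p ≠ r) (hrs : r ≠ s) (hps : p ≠ s)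
    (ep : g • p = p) (er : g • r = r) (es : g • s = s) : g = 1 := by
  obtain ⟨k, hk, kI, k0⟩ := h.move_two hp hr hpr
  obtain ⟨d, hd⟩ := h.fix_two (mul_mem (mul_mem (inv_mem hk) hg) hk)
    (by rw [mul_smul, kI, mul_smul, ep, inv_smul_eq_iff, kI])
    (by rw [mul_smul, k0, mul_smul, er, inv_smul_eq_iff, k0])
  rcases mem_ovoid.mp (maps_of_mem (inv_mem hk) hs) with e | ⟨x, y, e⟩
  · rw [inv_smul_eq_iff, kI] at e; exact absurd e.symm hps
  · have hxy : x ≠ 0 ∨ y ≠ 0 := by
      by_contra hc; push Not at hc; rw [hc.1, hc.2, inv_smul_eq_iff, k0] at e; exact hrs e.symm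
    have e1 : hS m d • P m x y = P m x y := by rw [← hd, ← e, mul_smul, mul_smul, smul_inv_smul, es]
    rw [h.hS_fix hxy e1, map_one] at hd
    calc g = k * (k⁻¹ * g * k) * k⁻¹ := by group
      _ = 1 := by rw [hd]; group

instance finiteProj : Finite (Projectivization F (Fin 4 → F)) :=
  Finite.of_surjective (fun v : {v : Fin 4 → F // v ≠ 0} => Projectivization.mk F v.1 v.2)
    (fun p => ⟨⟨p.rep, p.rep_nonzero⟩, p.mk_rep⟩)

/-- point at infinity in the ovoid. -/
def oI (F : Type*) [Field F] (m : ℕ) : suzukiOvoid F m := ⟨I F, I_mem m⟩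

theorem Hyp.card_stab (h : Hyp F m) :
    Nat.card (MulAction.stabilizer (Cfsg.Sz F m) (I F)) =
      (2 ^ (2 * m + 1)) ^ 2 * (2 ^ (2 * m + 1) - 1) := by
  classical
  let f : F × F × Fˣ → MulAction.stabilizer (Cfsg.Sz F m) (I F) := fun t =>
    ⟨⟨tS m t.1 t.2.1 * hS m t.2.2, mul_mem (h.tS_mem _ _) (h.hS_mem _)⟩, MulAction.mem_stabilizer_iff.mpr (by
      show (tS m t.1 t.2.1 * hS m t.2.2) • I F = I F
      rw [mul_smul, hS_I, tS_I])⟩
  have hf : Function.Bijective f := by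
    constructor
    · rintro ⟨a, b, d⟩ ⟨a', b', d'⟩ e
      obtain ⟨rfl, rfl, rfl⟩ := h.th_inj (congrArg (fun z => ((z.1 : Cfsg.Sz F m) : SpecialLinearGroup (Fin 4) F)) e)
      rfl
    · rintro ⟨⟨g, hg⟩, hgI⟩
      obtain ⟨a, b, d, rfl⟩ := h.fixI hg (MulAction.mem_stabilizer_iff.mp hgI)
      exact ⟨(a, b, d), rfl⟩
  rw [← Nat.card_eq_of_bijective f hf, Nat.card_prod, Nat.card_prod, Nat.card_units, Nat.card_eq_fintype_card, h.card]
  ring

theorem stab_oI : MulAction.stabilizer (Cfsg.Sz F m) (oI F m) = MulAction.stabilizer (Cfsg.Sz F m) (I F) := by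
  ext g
  simp only [MulAction.mem_stabilizer_iff]
  exact Subtype.ext_iff

theorem Hyp.pretrans (h : Hyp F m) : MulAction.IsPretransitive (Cfsg.Sz F m) (suzukiOvoid F m) :=
  ⟨fun p r => by
    obtain ⟨g, hg, eg⟩ := h.trans_to p.2
    obtain ⟨k, hk, ek⟩ := h.trans_to r.2
    refine ⟨⟨k * g⁻¹, mul_mem hk (inv_mem hg)⟩, Subtype.ext ?_⟩
    show (k * g⁻¹) • (p : Projectivization F (Fin 4 → F)) = r
    rw [mul_smul, ← eg, inv_smul_smul, ek]⟩

theorem card_ovoid : Nat.card (suzukiOvoid F m) = Fintype.card F ^ 2 + 1 := by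
  classical
  let f : Option (F × F) → suzukiOvoid F m := fun o => o.elim (oI F m) (fun p => ⟨P m p.1 p.2, P_mem _ _ _⟩)
  have hb : Function.Bijective f := by
    constructor
    · rintro (_ | ⟨a, b⟩) (_ | ⟨c, d⟩) e
      · rfl
      · exact absurd (congrArg Subtype.val e).symm (P_ne_I m _ _)
      · exact absurd (congrArg Subtype.val e) (P_ne_I m _ _)
      · obtain ⟨rfl, rfl⟩ := P_inj (congrArg Subtype.val e); rfl
    · rintro ⟨p, hp⟩
      rcases mem_ovoid.mp hp with rfl | ⟨x, y, rfl⟩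
      · exact ⟨none, rfl⟩
      · exact ⟨some (x, y), rfl⟩
  rw [← Nat.card_eq_of_bijective f hb, Finite.card_option, Nat.card_prod, Nat.card_eq_fintype_card, sq]

theorem Hyp.card_Sz (h : Hyp F m) :
    Nat.card (Cfsg.Sz F m) =
      (2 ^ (2 * m + 1)) ^ 2 * ((2 ^ (2 * m + 1)) ^ 2 + 1) * (2 ^ (2 * m + 1) - 1) := by
  have := h.pretrans
  rw [← Subgroup.card_mul_index (MulAction.stabilizer (Cfsg.Sz F m) (oI F m)),
    MulAction.index_stabilizer_of_transitive, stab_oI, h.card_stab, card_ovoid, h.card]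
  ring

end CfsgLib.Suzuki
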