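import Cfsg.Agent.Lib.Suzuki.Tori

/-! Borel subgroup, overgroups and generation of the Suzuki groups. (helper4) -/

set_option autoImplicit false

namespace CfsgLib.Suzuki

open Cfsg Matrix
open scoped Pointwise
open CfsgLib.Fusion

variable {F : Type*} [Field F] [Fintype F] {m : ℕ}

namespace Hyp

variable (h : Hyp F m)
include h

theorem Q_le_stab : h.Q ≤ MulAction.stabilizer (Cfsg.Sz F m) (oI F m) := by
  rintro _ ⟨a, b, rfl⟩
  exact MulAction.mem_stabilizer_iff.mpr (h.tG_oI a b)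

theorem stab_conj_Q {k : Cfsg.Sz F m} (hk : k • oI F m = oI F m) {x : Cfsg.Sz F m} (hx : x ∈ h.Q) :
    k * x * k⁻¹ ∈ h.Q := by
  obtain ⟨a, b, d, rfl⟩ := h.exists_th hk
  obtain ⟨c, c', rfl⟩ := hx
  have e : h.tG a b * h.hG d * h.tG c c' * (h.tG a b * h.hG d)⁻¹ =
      h.tG a b * (h.tG ((d : F) * c) ((d : F) * sg m (d : F) * c')) * (h.tG a b)⁻¹ := by
    rw [mul_assoc (h.tG a b), h.hG_tG]; group
  rw [e]
  exact mul_mem (mul_mem ⟨_, _, rfl⟩ ⟨_, _, rfl⟩) (inv_mem ⟨_, _, rfl⟩)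

theorem normalizer_Q : Subgroup.normalizer (h.Q : Set (Cfsg.Sz F m)) = MulAction.stabilizer (Cfsg.Sz F m) (oI F m) := by
  ext k
  constructor
  · intro hk
    have hne : h.tG 1 0 ≠ 1 := fun e => one_ne_zero (h.tG_inj (e.trans h.tG_zero.symm)).1
    obtain ⟨a, b, e⟩ := (Subgroup.mem_normalizer_iff.mp hk (h.tG 1 0)).mp ⟨_, _, rfl⟩
    have hne' : h.tG a b ≠ 1 := fun e1 => hne (conj_eq_one_iff.mp (e.trans e1))
    exact MulAction.mem_stabilizer_iff.mpr (h.tG_fix hne' (by rw [← e, mul_smul, mul_smul, inv_smul_smul, h.tG_oI]))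
  · intro hk
    rw [Subgroup.mem_normalizer_iff]
    intro x
    refine ⟨h.stab_conj_Q (MulAction.mem_stabilizer_iff.mp hk), fun hx => ?_⟩
    have := h.stab_conj_Q (k := k⁻¹) (inv_smul_eq_iff.mpr (MulAction.mem_stabilizer_iff.mp hk).symm) hx
    rwa [show k⁻¹ * (k * x * k⁻¹) * k⁻¹⁻¹ = x by group] at this

theorem exists_tG_smul {p r : suzukiOvoid F m} (hp : p ≠ oI F m) (hr : r ≠ oI F m) :
    ∃ a b, h.tG a b • p = r := by
  rcases mem_ovoid.mp p.2 with e | ⟨x, y, e⟩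
  · exact absurd (Subtype.ext e) hp
  rcases mem_ovoid.mp r.2 with e' | ⟨x', y', e'⟩
  · exact absurd (Subtype.ext e') hr
  refine ⟨x' - x, y' - y - sg m (x' - x) * x, Subtype.ext ?_⟩
  show tS m (x' - x) (y' - y - sg m (x' - x) * x) • (p : Projectivization F (Fin 4 → F)) = r
  rw [e, e', h.tS_P]; congr 1 <;> ring

theorem overgroup {M : Subgroup (Cfsg.Sz F m)} (hQ : h.Q ≤ M) {g : Cfsg.Sz F m} (hg : g ∈ M)
    (hgI : g • oI F m ≠ oI F m) : M = ⊤ := by
  have htr : ∀ p : suzukiOvoid F m, ∃ k ∈ M, k • oI F m = p := by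
    intro p
    by_cases hp : p = oI F m
    · exact ⟨1, one_mem _, by rw [one_smul, hp]⟩
    · obtain ⟨a, b, e⟩ := h.exists_tG_smul hgI hp
      exact ⟨h.tG a b * g, mul_mem (hQ ⟨a, b, rfl⟩) hg, by rw [mul_smul, e]⟩
  let K : Subgroup (Cfsg.Sz F m) := Subgroup.normalClosure (h.Q : Set (Cfsg.Sz F m))
  have hK : K ≤ M := by
    refine (Subgroup.closure_le M).mpr ?_
    intro x hx
    obtain ⟨y, hy, hxy⟩ := Group.mem_conjugatesOfSet_iff.mp hx
    obtain ⟨c, rfl⟩ := isConj_iff.mp hxy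
    obtain ⟨k, hkM, hkI⟩ := htr (c • oI F m)
    have hs : (k⁻¹ * c) • oI F m = oI F m := by rw [mul_smul, inv_smul_eq_iff, hkI]
    have := mul_mem (mul_mem hkM (hQ (h.stab_conj_Q hs hy))) (inv_mem hkM)
    rwa [show k * (k⁻¹ * c * y * (k⁻¹ * c)⁻¹) * k⁻¹ = c * y * c⁻¹ by group] at this
  have := h.simple
  rcases (Subgroup.normalClosure_normal (s := (h.Q : Set (Cfsg.Sz F m)))).eq_bot_or_eq_top with e | e
  · exfalso
    have hm' : h.tG 1 0 ∈ K := Subgroup.subset_normalClosure ⟨_, _, rfl⟩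
    rw [show K = ⊥ from e, Subgroup.mem_bot] at hm'
    exact one_ne_zero (h.tG_inj (hm'.trans h.tG_zero.symm)).1
  · exact top_le_iff.mp ((show (⊤ : Subgroup (Cfsg.Sz F m)) ≤ K from e.ge).trans hK)

theorem stab_ne_top : MulAction.stabilizer (Cfsg.Sz F m) (oI F m) ≠ ⊤ := fun e => by
  have hm' : h.wG ∈ MulAction.stabilizer (Cfsg.Sz F m) (oI F m) := e ▸ Subgroup.mem_top _
  exact P_ne_I m _ _ ((wS_I (m := m)).symm.trans (congrArg Subtype.val (MulAction.mem_stabilizer_iff.mp hm')))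

theorem isCoatom_stab : IsCoatom (MulAction.stabilizer (Cfsg.Sz F m) (oI F m)) := by
  refine ⟨h.stab_ne_top, fun M hM => ?_⟩
  obtain ⟨g, hg, hgI⟩ := SetLike.exists_of_lt hM
  exact h.overgroup (h.Q_le_stab.trans hM.le) hg (fun e => hgI (MulAction.mem_stabilizer_iff.mpr e))

theorem gen_two : ∃ a b : Cfsg.Sz F m, Subgroup.closure ({a, b} : Set (Cfsg.Sz F m)) = ⊤ := by
  obtain ⟨γ, hγ⟩ := IsCyclic.exists_generator (α := Fˣ)
  refine ⟨h.hG γ, h.tG 1 0 * h.wG, ?_⟩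
  set K := Subgroup.closure ({h.hG γ, h.tG 1 0 * h.wG} : Set (Cfsg.Sz F m))
  have hH : ∀ d, h.hG d ∈ K := fun d => by
    obtain ⟨n, rfl⟩ := Subgroup.mem_zpowers_iff.mp (hγ d)
    rw [map_zpow]
    exact zpow_mem (Subgroup.subset_closure (by simp)) n
  have hy : h.tG 1 0 * h.wG ∈ K := Subgroup.subset_closure (by simp)
  have hwi : h.wG⁻¹ = h.wG := inv_eq_of_mul_eq_one_right h.wG_wG
  have hth : h.tG 1 0 * h.hG γ * (h.tG 1 0)⁻¹ * (h.hG γ)⁻¹ ∈ K := by
    have := mul_mem (mul_mem (mul_mem hy (hH γ⁻¹)) (inv_mem hy)) (inv_mem (hH γ))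
    have e : h.tG 1 0 * h.wG * h.hG γ⁻¹ * (h.tG 1 0 * h.wG)⁻¹ =
        h.tG 1 0 * (h.wG * h.hG γ⁻¹ * h.wG) * (h.tG 1 0)⁻¹ := by rw [_root_.mul_inv_rev, hwi]; group
    rwa [e, h.wG_hG, inv_inv] at this
  rw [h.tG_inv, mul_assoc (h.tG 1 0) (h.hG γ), h.hG_tG, ← mul_assoc, mul_inv_cancel_right, h.tG_mul] at hth
  set c := (1 : F) + (γ : F) * 1
  have hc : c ≠ 0 := fun e => by
    obtain ⟨a0, ha0, ha1⟩ := h.exists_gt
    have hγ1 : γ = 1 := Units.ext (by
      have : (1 : F) + (γ : F) * 1 = 0 := e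
      simp only [Units.val_one]; linear_combination this - h.two)
    obtain ⟨n, hn⟩ := Subgroup.mem_zpowers_iff.mp (hγ (Units.mk0 a0 ha0))
    simp only [hγ1, _root_.one_zpow] at hn
    exact ha1 (congrArg Units.val hn).symm
  have hA : ∀ a : F, ∃ b, h.tG a b ∈ K := by
    intro a
    rcases eq_or_ne a 0 with rfl | ha
    · exact ⟨0, by rw [h.tG_zero]; exact one_mem _⟩
    · have hd := Units.mk0 (a / c) (div_ne_zero ha hc)
      have := mul_mem (mul_mem (hH (Units.mk0 (a / c) (div_ne_zero ha hc))) hth) (inv_mem (hH (Units.mk0 (a / c) (div_ne_zero ha hc))))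
      rw [h.hG_tG, mul_inv_cancel_right, Units.val_mk0, div_mul_cancel₀ a hc] at this
      exact ⟨_, this⟩
  have hsurj := (Finite.injective_iff_surjective (f := fun a : F => a * sg m a)).mp (fun a a' e => by
    simp only at e
    rcases eq_or_ne a' 0 with rfl | hc'
    · rcases mul_eq_zero.mp (show a * sg m a = 0 by rw [e]; simp) with e0 | e0
      · exact e0
      · exact h.sg_inj (by rw [e0, sg_zero])
    · have hs : sg m a' ≠ 0 := pow_ne_zero _ hc'
      have : a / a' = 1 := h.mul_sg_eq_one (by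
        rw [div_eq_mul_inv, sg_mul, sg_inv]; field_simp; linear_combination e)
      exact (div_eq_one_iff_eq hc').mp this)
  have hZ : ∀ z, h.tG 0 z ∈ K := fun z => by
    obtain ⟨a, ha⟩ := hsurj z
    obtain ⟨b, hb⟩ := hA a
    have := mul_mem hb hb
    rw [h.tG_mul, h.add_self, h.add_self, zero_add] at this
    have ha' : a * sg m a = z := ha
    rwa [mul_comm (sg m a), ha'] at this
  have hT : ∀ a b, h.tG a b ∈ K := fun a b => by
    obtain ⟨b', hb⟩ := hA a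
    have := mul_mem hb (hZ (b - b'))
    rw [h.tG_mul] at this
    simpa using this
  refine h.le_of_gens hT hH ?_
  have := mul_mem (inv_mem (hT 1 0)) hy
  rwa [inv_mul_cancel_left] at this

end Hyp

end CfsgLib.Suzuki
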