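import Cfsg.Agent.Lib.Suzuki.Group

/-! Simplicity, Zassenhaus property, Sylow 2-subgroups of the Suzuki groups. (helper4) -/

set_option autoImplicit false

namespace CfsgLib.Suzuki

open Cfsg Matrix
open scoped Pointwise

variable {F : Type*} [Field F] [Fintype F] {m : ℕ}

/-- translations in the group. -/
def Hyp.tG (h : Hyp F m) (a b : F) : Cfsg.Sz F m := ⟨tS m a b, h.tS_mem a b⟩

/-- the torus in the group. -/
def Hyp.hG (h : Hyp F m) : Fˣ →* Cfsg.Sz F m := (hS m).codRestrict (Cfsg.Sz F m) h.hS_mem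

/-- the reversal in the group. -/
def Hyp.wG (h : Hyp F m) : Cfsg.Sz F m := ⟨wS, h.wS_mem⟩

namespace Hyp

variable (h : Hyp F m)
include h

theorem coe_tG (a b : F) : ((h.tG a b : Cfsg.Sz F m) : SpecialLinearGroup (Fin 4) F) = tS m a b := rfl
theorem coe_hG (d : Fˣ) : ((h.hG d : Cfsg.Sz F m) : SpecialLinearGroup (Fin 4) F) = hS m d := rfl
theorem coe_wG : ((h.wG : Cfsg.Sz F m) : SpecialLinearGroup (Fin 4) F) = wS := rfl

theorem tG_mul (a b c d : F) : h.tG a b * h.tG c d = h.tG (a + c) (b + d + sg m a * c) :=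
  Subtype.ext (h.tS_mul a b c d)

theorem tG_zero : h.tG 0 0 = 1 := by
  have e := h.tG_mul 0 0 0 0
  simp only [add_zero, mul_zero] at e
  exact mul_eq_left.mp e

theorem tG_inj {a b c d : F} (e : h.tG a b = h.tG c d) : a = c ∧ b = d := by
  have := h.th_inj (d := 1) (d' := 1) (congrArg (fun z : Cfsg.Sz F m => (z : SpecialLinearGroup (Fin 4) F) * hS m 1) e : tS m a b * hS m 1 = tS m c d * hS m 1)
  exact ⟨this.1, this.2.1⟩

theorem add_self (a : F) : a + a = 0 := by linear_combination a * h.two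

theorem tG_inv (a b : F) : (h.tG a b)⁻¹ = h.tG a (b + sg m a * a) := by
  refine inv_eq_of_mul_eq_one_right ?_
  rw [h.tG_mul, h.add_self, show b + (b + sg m a * a) + sg m a * a = 0 by linear_combination (b + sg m a * a) * h.two,
    h.tG_zero]

theorem hG_tG (d : Fˣ) (a b : F) :
    h.hG d * h.tG a b = h.tG ((d : F) * a) ((d : F) * sg m (d : F) * b) * h.hG d :=
  Subtype.ext (h.hS_tS d a b)

theorem hG_inj {d e : Fˣ} (e1 : h.hG d = h.hG e) : d = e := hS_inj (congrArg Subtype.val e1)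

theorem wG_wG : h.wG * h.wG = 1 := by
  apply Subtype.ext; apply Subtype.ext
  show (wS : SpecialLinearGroup (Fin 4) F).1 * (wS : SpecialLinearGroup (Fin 4) F).1 = 1
  ext i j; fin_cases i <;> fin_cases j <;> simp [coe_wS, Matrix.mul_apply, Fin.sum_univ_four]

theorem wG_hG (d : Fˣ) : h.wG * h.hG d * h.wG = h.hG d⁻¹ := by
  apply Subtype.ext; apply Subtype.ext
  show (wS : SpecialLinearGroup (Fin 4) F).1 * hM m (d : F) * (wS : SpecialLinearGroup (Fin 4) F).1 = hM m ((d⁻¹ : Fˣ) : F)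
  have hr := rd_ne m d
  have hd := d.ne_zero
  ext i j; fin_cases i <;> fin_cases j <;>
    simp [coe_wS, hM, rd, Matrix.mul_apply, Fin.sum_univ_four, Matrix.vecMul, dotProduct] <;> ring

theorem decomp (g : Cfsg.Sz F m) :
    (∃ a b d, g = h.tG a b * h.hG d) ∨ ∃ x y a b d, g = h.tG x y * h.wG * (h.tG a b * h.hG d) := by
  rcases mem_ovoid.mp (maps_of_mem g.2 (I_mem m)) with e | ⟨x, y, e⟩
  · obtain ⟨a, b, d, hd⟩ := h.fixI g.2 e
    exact Or.inl ⟨a, b, d, Subtype.ext hd⟩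
  · right
    set k := (h.tG x y * h.wG)⁻¹ * g with hk
    have hkI : (k : SpecialLinearGroup (Fin 4) F) • I F = I F := by
      rw [hk, Subgroup.coe_mul, Subgroup.coe_inv, mul_smul, e, inv_smul_eq_iff, Subgroup.coe_mul, mul_smul, coe_wG,
        wS_I (m := m), coe_tG, h.tS_P]
      simp
    obtain ⟨a, b, d, hd⟩ := h.fixI k.2 hkI
    exact ⟨x, y, a, b, d, by rw [show h.tG a b * h.hG d = k from (Subtype.ext hd).symm, hk, mul_inv_cancel_left]⟩

theorem le_of_gens {K : Subgroup (Cfsg.Sz F m)} (ht : ∀ a b, h.tG a b ∈ K) (hh : ∀ d, h.hG d ∈ K)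
    (hw : h.wG ∈ K) : K = ⊤ := by
  rw [eq_top_iff]
  intro g _
  rcases h.decomp g with ⟨a, b, d, rfl⟩ | ⟨x, y, a, b, d, rfl⟩
  · exact mul_mem (ht _ _) (hh _)
  · exact mul_mem (mul_mem (ht _ _) hw) (mul_mem (ht _ _) (hh _))

theorem mul_sg_eq_one {d : F} (hds : d * sg m d = 1) : d = 1 := by
  have e2 := congrArg (sg m) hds
  rw [sg_mul, h.sg_sg, sg_one] at e2
  linear_combination e2 - d * hds

theorem isSquare (d : Fˣ) : ∃ e : Fˣ, e * e = d := by
  obtain ⟨x, hx⟩ := (Finite.injective_iff_surjective.mp (fun (a b : F) e => h.sq_inj e)) (d : F)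
  have hx0 : x ≠ 0 := fun e => d.ne_zero (by rw [← hx, e]; ring)
  exact ⟨Units.mk0 x hx0, Units.ext (by rw [← hx]; show x * x = x ^ 2; ring)⟩

open scoped commutatorElement in
theorem perfect : commutator (Cfsg.Sz F m) = ⊤ := by
  obtain ⟨a0, ha0, ha1⟩ := h.exists_gt
  set d0 := Units.mk0 a0 ha0 with hd0
  have hd : (d0 : F) = a0 := rfl
  have hmem : ∀ g k : Cfsg.Sz F m, ⁅g, k⁆ ∈ commutator (Cfsg.Sz F m) :=
    fun g k => Subgroup.commutator_mem_commutator (Subgroup.mem_top g) (Subgroup.mem_top k)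
  have hc : ∀ a b, h.tG (a0 * a) (a0 * sg m a0 * b) * h.tG a (b + sg m a * a) ∈ commutator (Cfsg.Sz F m) := by
    intro a b
    have := hmem (h.hG d0) (h.tG a b)
    rwa [commutatorElement_def, h.hG_tG, mul_inv_cancel_right, h.tG_inv, hd] at this
  have hZ : ∀ b, h.tG 0 b ∈ commutator (Cfsg.Sz F m) := by
    intro b
    have hne : a0 * sg m a0 + 1 ≠ 0 := fun e => ha1 (h.mul_sg_eq_one (by linear_combination e - h.two))
    have := hc 0 (b / (a0 * sg m a0 + 1))
    rw [h.tG_mul] at this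
    simp only [mul_zero, add_zero, sg_zero, zero_mul] at this
    convert this using 2
    field_simp
  have hT : ∀ a b, h.tG a b ∈ commutator (Cfsg.Sz F m) := by
    intro a b
    have hne : a0 + 1 ≠ 0 := fun e => ha1 (by linear_combination e - h.two)
    have h1 := hc (a / (a0 + 1)) 0
    rw [h.tG_mul, show a0 * (a / (a0 + 1)) + a / (a0 + 1) = a by field_simp] at h1
    set c := (a0 * sg m a0 * 0 + (0 + sg m (a / (a0 + 1)) * (a / (a0 + 1))) + sg m (a0 * (a / (a0 + 1))) * (a / (a0 + 1))) with hcdef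
    have h2 := mul_mem (hZ (b - c)) h1
    rw [h.tG_mul] at h2
    simpa [sg_zero] using h2
  have hH : ∀ d, h.hG d ∈ commutator (Cfsg.Sz F m) := by
    intro d
    obtain ⟨e, rfl⟩ := h.isSquare d
    have := hmem h.wG (h.hG e⁻¹)
    rw [commutatorElement_def, show h.wG⁻¹ = h.wG from inv_eq_of_mul_eq_one_right h.wG_wG, h.wG_hG, inv_inv,
      ← map_inv, ← map_mul, inv_inv] at this
    exact this
  refine h.le_of_gens hT hH ?_
  set k : Cfsg.Sz F m := h.tG 1 1 * h.wG with hk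
  have hw11 : (wS : SpecialLinearGroup (Fin 4) F) • P m (1 : F) 1 = P m 1 1 := by
    have e1 : fo m (1 : F) 1 = 1 := by simp [fo, sg_one]; linear_combination h.two
    rw [h.wS_P (Or.inl one_ne_zero), e1, div_one]
  have hkI : ((k⁻¹ * h.wG * k : Cfsg.Sz F m) : SpecialLinearGroup (Fin 4) F) • I F = I F := by
    have e : (k : SpecialLinearGroup (Fin 4) F) • I F = P m 1 1 := by
      rw [hk, Subgroup.coe_mul, mul_smul, coe_wG, wS_I (m := m), coe_tG, h.tS_P]; simp
    rw [Subgroup.coe_mul, Subgroup.coe_mul, mul_smul, mul_smul, e, coe_wG, hw11, Subgroup.coe_inv, inv_smul_eq_iff, e]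
  obtain ⟨a, b, d, hd'⟩ := h.fixI (k⁻¹ * h.wG * k).2 hkI
  have hin : k⁻¹ * h.wG * k ∈ commutator (Cfsg.Sz F m) := by
    rw [show k⁻¹ * h.wG * k = h.tG a b * h.hG d from Subtype.ext hd']
    exact mul_mem (hT a b) (hH d)
  have := (inferInstance : (commutator (Cfsg.Sz F m)).Normal).conj_mem _ hin k
  rwa [show k * (k⁻¹ * h.wG * k) * k⁻¹ = h.wG by group] at this

theorem two_trans : MulAction.IsMultiplyPretransitive (Cfsg.Sz F m) (suzukiOvoid F m) 2 := by
  rw [MulAction.is_two_pretransitive_iff]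
  intro a b c d hab hcd
  obtain ⟨g, hg, gI, g0⟩ := h.move_two a.2 b.2 (fun e => hab (Subtype.ext e))
  obtain ⟨k, hk, kI, k0⟩ := h.move_two c.2 d.2 (fun e => hcd (Subtype.ext e))
  refine ⟨⟨k * g⁻¹, mul_mem hk (inv_mem hg)⟩, Subtype.ext ?_, Subtype.ext ?_⟩
  · show (k * g⁻¹) • (a : Projectivization F (Fin 4 → F)) = c
    rw [mul_smul, ← gI, inv_smul_smul, kI]
  · show (k * g⁻¹) • (b : Projectivization F (Fin 4 → F)) = d
    rw [mul_smul, ← g0, inv_smul_smul, k0]

theorem eq_one_of_three (g : Cfsg.Sz F m) {a b c : suzukiOvoid F m} (hab : a ≠ b) (hbc : b ≠ c) (hac : a ≠ c)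
    (ea : g • a = a) (eb : g • b = b) (ec : g • c = c) : g = 1 :=
  Subtype.ext (h.fix_three g.2 a.2 b.2 c.2 (fun e => hab (Subtype.ext e)) (fun e => hbc (Subtype.ext e))
    (fun e => hac (Subtype.ext e)) (congrArg Subtype.val ea) (congrArg Subtype.val eb) (congrArg Subtype.val ec))

theorem faithful : FaithfulSMul (Cfsg.Sz F m) (suzukiOvoid F m) := by
  refine ⟨fun {g k} e => ?_⟩
  have hp : ∀ p : suzukiOvoid F m, (k⁻¹ * g) • p = p := fun p => by rw [mul_smul, e, inv_smul_smul]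
  obtain ⟨a0, ha0, -⟩ := h.exists_gt
  have := h.eq_one_of_three (k⁻¹ * g) (a := oI F m) (b := ⟨P m 0 0, P_mem _ _ _⟩) (c := ⟨P m a0 0, P_mem _ _ _⟩)
    (fun e => P_ne_I m _ _ (congrArg Subtype.val e).symm)
    (fun e => ha0 (P_inj (congrArg Subtype.val e)).1.symm)
    (fun e => P_ne_I m _ _ (congrArg Subtype.val e).symm) (hp _) (hp _) (hp _)
  exact (inv_mul_eq_one.mp this).symm

/-- torus component of an element fixing `∞`. -/
theorem exists_char : ∃ χ : MulAction.stabilizer (Cfsg.Sz F m) (oI F m) →* Fˣ,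
    ∀ g, χ g = 1 ↔ ∃ a b, (g : Cfsg.Sz F m) = h.tG a b := by
  have key : ∀ g : MulAction.stabilizer (Cfsg.Sz F m) (oI F m),
      ∃ d : Fˣ, ∃ a b, (g : Cfsg.Sz F m) = h.tG a b * h.hG d := fun g => by
    obtain ⟨a, b, d, hd⟩ := h.fixI (g : Cfsg.Sz F m).2 (congrArg Subtype.val (MulAction.mem_stabilizer_iff.mp g.2))
    exact ⟨d, a, b, Subtype.ext hd⟩
  choose χ ha hb hχ using key
  have uniq : ∀ (g : MulAction.stabilizer (Cfsg.Sz F m) (oI F m)) a b d, (g : Cfsg.Sz F m) = h.tG a b * h.hG d → χ g = d := fun g a b d e =>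
    (h.th_inj (congrArg Subtype.val ((hχ g).symm.trans e))).2.2
  refine ⟨MonoidHom.mk' χ fun g k => ?_, fun g => ⟨fun e => ⟨ha g, hb g, ?_⟩, fun ⟨a, b, e⟩ => ?_⟩⟩
  · refine uniq _ (ha g + (χ g : F) * ha k) (hb g + (χ g : F) * sg m (χ g : F) * hb k + sg m (ha g) * ((χ g : F) * ha k)) _ ?_
    rw [Subgroup.coe_mul, hχ g, hχ k, mul_assoc, ← mul_assoc (h.hG (χ g)), h.hG_tG, mul_assoc, ← map_mul, ← mul_assoc,
      h.tG_mul]
  · have e' : χ g = 1 := e
    rw [hχ g, e', map_one, mul_one]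
  · exact uniq g a b 1 (by rw [e, map_one, mul_one])

end Hyp

/-- the translation subgroup. -/
def Hyp.Q (h : Hyp F m) : Subgroup (Cfsg.Sz F m) where
  carrier := {g | ∃ a b, g = h.tG a b}
  mul_mem' := by rintro _ _ ⟨a, b, rfl⟩ ⟨c, d, rfl⟩; exact ⟨_, _, h.tG_mul a b c d⟩
  one_mem' := ⟨0, 0, h.tG_zero.symm⟩
  inv_mem' := by rintro _ ⟨a, b, rfl⟩; exact ⟨_, _, h.tG_inv a b⟩

namespace Hyp

variable (h : Hyp F m)
include h

theorem solvable_Q : Group.IsSolvable h.Q := by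
  choose fa fb hf using (fun g : h.Q => g.2)
  have uniq : ∀ (g : h.Q) a b, (g : Cfsg.Sz F m) = h.tG a b → fa g = a :=
    fun g a b e => (h.tG_inj ((hf g).symm.trans e)).1
  let φ : h.Q →* Multiplicative F := MonoidHom.mk' (fun g => Multiplicative.ofAdd (fa g)) fun g k => by
    show Multiplicative.ofAdd (fa (g * k)) = Multiplicative.ofAdd (fa g + fa k)
    rw [uniq (g * k) _ _ (by rw [Subgroup.coe_mul, hf g, hf k]; exact h.tG_mul ..)]
  let ψ : Multiplicative F →* h.Q := MonoidHom.mk' (fun b => ⟨h.tG 0 b.toAdd, _, _, rfl⟩) fun b c => Subtype.ext (by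
    rw [Subgroup.coe_mul]; show h.tG 0 (b.toAdd + c.toAdd) = _; rw [h.tG_mul]; simp [sg_zero])
  refine Group.isSolvable_of_ker_le_range ψ φ fun g hg => ?_
  have e : fa g = 0 := Multiplicative.ofAdd.injective (hg.trans ofAdd_zero.symm)
  exact ⟨Multiplicative.ofAdd (fb g), Subtype.ext (by rw [hf g, e]; rfl)⟩

theorem solvable_stab : Group.IsSolvable (MulAction.stabilizer (Cfsg.Sz F m) (oI F m)) := by
  obtain ⟨χ, hχ⟩ := h.exists_char
  have hle : h.Q ≤ MulAction.stabilizer (Cfsg.Sz F m) (oI F m) := by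
    rintro _ ⟨a, b, rfl⟩
    exact MulAction.mem_stabilizer_iff.mpr (Subtype.ext (tS_I a b))
  have := h.solvable_Q
  refine Group.isSolvable_of_ker_le_range (Subgroup.inclusion hle) χ fun g hg => ?_
  obtain ⟨a, b, e⟩ := (hχ g).mp hg
  exact ⟨⟨g, a, b, e⟩, rfl⟩

theorem simple : IsSimpleGroup (Cfsg.Sz F m) := by
  classical
  have := h.faithful
  have : Nontrivial (Cfsg.Sz F m) := by
    refine ⟨⟨h.wG, 1, fun e => ?_⟩⟩
    have e' : (wS : SpecialLinearGroup (Fin 4) F) • I F = I F := by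
      rw [← h.coe_wG, e, Subgroup.coe_one, one_smul]
    exact P_ne_I m _ _ ((wS_I (m := m)).symm.trans e')
  constructor
  intro N hN
  by_cases hbot : N = ⊥
  · exact Or.inl hbot
  right
  obtain ⟨⟨n, hn⟩, hn1⟩ : ∃ n : N, n ≠ 1 := by
    by_contra hc; push Not at hc
    exact hbot (Subgroup.eq_bot_iff_forall _ |>.mpr fun x hx => congrArg Subtype.val (hc ⟨x, hx⟩))
  obtain ⟨p, hp⟩ : ∃ p : suzukiOvoid F m, n • p ≠ p := by
    by_contra hc; push Not at hc
    exact hn1 (Subtype.ext (FaithfulSMul.eq_of_smul_eq_smul fun p : suzukiOvoid F m => by rw [hc p]; simp))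
  have htr : ∀ s, ∃ k ∈ N, k • p = s := by
    intro s
    by_cases hs : s = p
    · exact ⟨1, one_mem _, by rw [one_smul, hs]⟩
    obtain ⟨g, g1, g2⟩ := (MulAction.is_two_pretransitive_iff.mp h.two_trans) (Ne.symm hp) (Ne.symm hs)
    refine ⟨g * n * g⁻¹, hN.conj_mem n hn g, ?_⟩
    rw [mul_smul, mul_smul, show g⁻¹ • p = p from inv_smul_eq_iff.mpr g1.symm, g2]
  set q := QuotientGroup.mk' N with hq
  have hsurj : Function.Surjective (q.comp (MulAction.stabilizer (Cfsg.Sz F m) (oI F m)).subtype) := by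
    intro x
    obtain ⟨g, rfl⟩ := QuotientGroup.mk'_surjective N x
    obtain ⟨k1, hk1, e1⟩ := htr (g • oI F m)
    obtain ⟨k2, hk2, e2⟩ := htr (oI F m)
    refine ⟨⟨k2 * k1⁻¹ * g, MulAction.mem_stabilizer_iff.mpr ?_⟩, ?_⟩
    · rw [mul_smul, mul_smul, ← e1, inv_smul_smul, e2]
    · show q (k2 * k1⁻¹ * g) = q g
      have e : ∀ z ∈ N, q z = 1 := fun z hz => (QuotientGroup.eq_one_iff z).mpr hz
      rw [map_mul, map_mul, e _ hk2, e _ (inv_mem hk1), one_mul, one_mul]
  have := h.solvable_stab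
  have hsol := Group.isSolvable_of_surjective hsurj
  by_contra hne
  have : Nontrivial (Cfsg.Sz F m ⧸ N) := QuotientGroup.nontrivial_iff.mpr hne
  have hperf : commutator (Cfsg.Sz F m ⧸ N) = ⊤ := by
    have hqs : Function.Surjective q := QuotientGroup.mk'_surjective N
    rw [← Subgroup.map_top_of_surjective q hqs]
    conv_lhs => rw [commutator_def, ← Subgroup.map_top_of_surjective q hqs, ← Subgroup.map_commutator, ← commutator_def, h.perfect]
  exact absurd hperf (Group.IsSolvable.commutator_lt_top_of_nontrivial (G := Cfsg.Sz F m ⧸ N)).ne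

theorem card_Q : Nat.card h.Q = (2 ^ (2 * m + 1)) ^ 2 := by
  have hb : Function.Bijective (fun p : F × F => (⟨h.tG p.1 p.2, _, _, rfl⟩ : h.Q)) := by
    constructor
    · rintro ⟨a, b⟩ ⟨c, d⟩ e
      obtain ⟨rfl, rfl⟩ := h.tG_inj (congrArg Subtype.val e)
      rfl
    · rintro ⟨_, a, b, rfl⟩; exact ⟨(a, b), rfl⟩
  rw [← Nat.card_eq_of_bijective _ hb, Nat.card_prod, Nat.card_eq_fintype_card, h.card, sq]

theorem odd_index : ¬ 2 ∣ h.Q.index := by
  have hc := h.Q.card_mul_index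
  rw [h.card_Q, h.card_Sz, mul_assoc] at hc
  rw [Nat.eq_of_mul_eq_mul_left (by positivity) hc]
  have : Odd (((2 ^ (2 * m + 1)) ^ 2 + 1) * (2 ^ (2 * m + 1) - 1)) := by
    refine Odd.mul ?_ ?_
    · exact Even.add_one (by simp [Nat.even_pow])
    · exact Nat.Even.sub_odd (Nat.one_le_two_pow) (by simp [Nat.even_pow]) odd_one
  exact fun hd => (Nat.not_even_iff_odd.mpr this) (even_iff_two_dvd.mpr hd)

theorem isPGroup_Q : IsPGroup 2 h.Q := IsPGroup.of_card (n := (2 * m + 1) * 2) (by rw [h.card_Q, ← pow_mul])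

/-- the standard Sylow 2-subgroup. -/
theorem exists_sylow : ∃ P₀ : Sylow 2 (Cfsg.Sz F m), (P₀ : Subgroup (Cfsg.Sz F m)) = h.Q :=
  ⟨h.isPGroup_Q.toSylow h.odd_index, IsPGroup.toSylow_coe _ _⟩

theorem sylow_two_conj (P : Sylow 2 (Cfsg.Sz F m)) :
    ∃ g : Cfsg.Sz F m, (P : Subgroup (Cfsg.Sz F m)) = h.Q.map (MulAut.conj g).toMonoidHom := by
  obtain ⟨P₀, e⟩ := h.exists_sylow
  have : Fact (Nat.Prime 2) := ⟨Nat.prime_two⟩
  obtain ⟨g, rfl⟩ := MulAction.exists_smul_eq (Cfsg.Sz F m) P₀ P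
  exact ⟨g, by rw [Sylow.coe_subgroup_smul, e]; rfl⟩

/-- the form identity. -/
theorem form (g : Cfsg.Sz F m) :
    (g : SpecialLinearGroup (Fin 4) F).1ᵀ * suzukiForm F * (g : SpecialLinearGroup (Fin 4) F).1 = suzukiForm F := by
  let K : Subgroup (Cfsg.Sz F m) :=
    { carrier := {g | (g : SpecialLinearGroup (Fin 4) F).1ᵀ * suzukiForm F * (g : SpecialLinearGroup (Fin 4) F).1 = suzukiForm F}
      mul_mem' := fun {x y} hx hy => by
        simp only [Set.mem_setOf_eq, Subgroup.coe_mul, coe_mul', Matrix.transpose_mul] at hx hy ⊢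
        calc _ = (y : SpecialLinearGroup (Fin 4) F).1ᵀ * ((x : SpecialLinearGroup (Fin 4) F).1ᵀ * suzukiForm F *
              (x : SpecialLinearGroup (Fin 4) F).1) * (y : SpecialLinearGroup (Fin 4) F).1 := by simp only [mul_assoc]
          _ = _ := by rw [hx, hy]
      one_mem' := by simp
      inv_mem' := fun {x} hx => by
        simp only [Set.mem_setOf_eq] at hx ⊢
        have hxi : (x : SpecialLinearGroup (Fin 4) F).1 * ((x⁻¹ : Cfsg.Sz F m) : SpecialLinearGroup (Fin 4) F).1 = 1 := by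
          rw [← coe_mul', ← Subgroup.coe_mul, mul_inv_cancel]; rfl
        generalize ((x⁻¹ : Cfsg.Sz F m) : SpecialLinearGroup (Fin 4) F).1 = y at hxi ⊢
        calc yᵀ * suzukiForm F * y = yᵀ * ((x : SpecialLinearGroup (Fin 4) F).1ᵀ * suzukiForm F *
              (x : SpecialLinearGroup (Fin 4) F).1) * y := by rw [hx]
          _ = ((x : SpecialLinearGroup (Fin 4) F).1 * y)ᵀ * suzukiForm F * ((x : SpecialLinearGroup (Fin 4) F).1 * y) := by
            simp only [Matrix.transpose_mul, mul_assoc]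
          _ = _ := by rw [hxi]; simp }
  have hK : K = ⊤ := by
    refine h.le_of_gens (fun a b => ?_) (fun d => ?_) ?_
    · show (tM m a b)ᵀ * suzukiForm F * tM m a b = suzukiForm F
      have h2 := h.two
      ext i j; fin_cases i <;> fin_cases j <;> simp [tM, suzukiForm, fo, Matrix.mul_apply, Fin.sum_univ_four]
      all_goals linear_combination (norm := ring_nf) 0
      all_goals (simp [h2, show (4 : F) = 0 by linear_combination 2 * h2])
    · show (hM m (d : F))ᵀ * suzukiForm F * hM m (d : F) = suzukiForm F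
      have hr := rd_ne m d
      have hd := d.ne_zero
      rw [hM, Matrix.diagonal_transpose]
      ext i j; fin_cases i <;> fin_cases j <;>
        simp [suzukiForm, Matrix.diagonal_mul, Matrix.mul_diagonal] <;> field_simp
    · show (wS : SpecialLinearGroup (Fin 4) F).1ᵀ * suzukiForm F * (wS : SpecialLinearGroup (Fin 4) F).1 = suzukiForm F
      ext i j; fin_cases i <;> fin_cases j <;> simp [coe_wS, suzukiForm, Matrix.mul_apply, Fin.sum_univ_four]
  have : g ∈ K := hK ▸ Subgroup.mem_top g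
  exact this

end Hyp

end CfsgLib.Suzuki
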