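import Cfsg.Agent.Lib.Suzuki.LieEquiv
import Cfsg.Agent.Lib.Suzuki.Structure
import Mathlib.LinearAlgebra.FiniteDimensional.Basic
import Mathlib.LinearAlgebra.Dimension.Constructions
import Mathlib.RepresentationTheory.Irreducible

/-! The minimal degree of a faithful representation of a Suzuki group: each of the `q - 1` characters of the
centre of a Sylow 2-subgroup occurs, with multiplicity at least `2^m` (owner helper8). -/
set_option autoImplicit false
set_option linter.all false

namespace CfsgLib.Suzuki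

open Finset

/-- joint eigenvectors with distinct eigenvalue functions are independent -/
theorem eigen_indep {ι κ V : Type*} [AddCommGroup V] [Module ℂ V] (χ : ι → κ → ℂ) (L : κ → V →ₗ[ℂ] V) :
    ∀ (s : Finset ι) (v : ι → V), (∀ i ∈ s, ∀ c, L c (v i) = χ i c • v i) →
      (∀ i ∈ s, ∀ j ∈ s, χ i = χ j → i = j) → ∑ i ∈ s, v i = 0 → ∀ i ∈ s, v i = 0 := by
  classical
  intro s
  induction s using Finset.induction with
  | empty => simp
  | @insert a s ha ih =>
    intro v hL hinj hz
    have hsv : ∀ i ∈ s, v i = 0 := by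
      intro i hi
      obtain ⟨c, hc⟩ : ∃ c, χ i c ≠ χ a c := by
        by_contra hcon
        push Not at hcon
        exact ha (hinj i (mem_insert_of_mem hi) a (mem_insert_self a s) (funext hcon) ▸ hi)
      have h0 : ∑ j ∈ s, (χ j c - χ a c) • v j = 0 := by
        have e1 : L c (∑ j ∈ insert a s, v j) - χ a c • (∑ j ∈ insert a s, v j) = 0 := by rw [hz]; simp
        rw [map_sum, smul_sum, ← sum_sub_distrib, sum_insert ha, hL a (mem_insert_self a s), sub_self, zero_add] at e1
        rw [← e1]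
        refine sum_congr rfl fun j hj => ?_
        rw [hL j (mem_insert_of_mem hj), sub_smul]
      have := ih (fun j => (χ j c - χ a c) • v j)
        (fun j hj c' => by rw [map_smul, hL j (mem_insert_of_mem hj), smul_comm])
        (fun j hj l hl e => hinj j (mem_insert_of_mem hj) l (mem_insert_of_mem hl) e) h0 i hi
      exact (smul_eq_zero.1 this).resolve_left (sub_ne_zero.2 hc)
    intro i hi
    rcases mem_insert.1 hi with rfl | hi
    · rw [sum_insert ha, sum_eq_zero hsv, add_zero] at hz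
      exact hz
    · exact hsv i hi

variable {F : Type*} [Field F] [Fintype F] {m : ℕ}

namespace Hyp

variable (h : Hyp F m)
include h

/-- a character of the additive group of the field with values `±1` -/
structure IsChar (ψ : F → ℂ) : Prop where
  add : ∀ a b, ψ (a + b) = ψ a * ψ b
  sign : ∀ a, ψ a = 1 ∨ ψ a = -1
  nt : ∃ a, ψ a ≠ 1

theorem tG_comm (c a : F) :
    h.tG c 0 * h.tG a 0 = h.tG 0 (sg m c * a + sg m a * c) * (h.tG a 0 * h.tG c 0) := by
  rw [h.tG_mul, h.tG_mul, h.tG_mul]
  congr 1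
  · ring
  · rw [sg_zero]; linear_combination (-(sg m a * c)) * h.two

theorem tG_Z_comm (a b b' : F) : h.tG 0 b * h.tG a b' = h.tG a b' * h.tG 0 b := by
  rw [h.tG_mul, h.tG_mul, sg_zero]
  congr 1 <;> ring

/-- the only element with `a σ(a)` in a fixed multiplier -/
theorem asg_inj {a a' : F} (ha : a ≠ 0) (e : a * sg m a = a' * sg m a') : a' = a := by
  have h1 : (a' / a) * sg m (a' / a) = 1 := by
    rw [div_eq_mul_inv, sg_mul, sg_inv,
      show a' * a⁻¹ * (sg m a' * (sg m a)⁻¹) = (a' * sg m a') * (a * sg m a)⁻¹ by rw [mul_inv]; ring, ← e,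
      mul_inv_cancel₀]
    refine mul_ne_zero ha fun hz => ha ?_
    exact h.sg_inj (hz.trans (sg_zero m).symm)
  exact (div_eq_one_iff_eq ha).1 (h.mul_sg_eq_one h1)

/-- a multiplier stabilising the image of `e ↦ e + σ e` is one -/
theorem stab_image {y : F} (hy : y ≠ 0) (hI : ∀ e : F, ∃ e', y * (e + sg m e) = e' + sg m e') : y = 1 := by
  classical
  set L : F →+ F := AddMonoidHom.mk' (fun e => e + sg m e) (fun a b => by rw [h.sg_add]; ring) with hL
  have hker : Nat.card L.ker = 2 := by
    rw [Nat.card_eq_two_iff]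
    refine ⟨0, ⟨1, by simp [hL, AddMonoidHom.mem_ker, sg_one, h.add_self]⟩, fun e => one_ne_zero (congrArg Subtype.val e).symm, ?_⟩
    rw [Set.eq_univ_iff_forall]
    rintro ⟨x, hx⟩
    have : sg m x = x := by
      have hx' : x + sg m x = 0 := hx
      linear_combination hx' - x * h.two
    rcases h.sg_fixed this with rfl | rfl
    · exact Or.inl rfl
    · exact Or.inr rfl
  have hcard : Nat.card L.range * 2 = Fintype.card F := by
    rw [← hker, ← AddSubgroup.index_ker L, mul_comm, AddSubgroup.card_mul_index, Nat.card_eq_fintype_card]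
  set J : Finset F := (Finset.univ.filter fun x => x ∈ L.range).erase 0 with hJ
  have hJcard : J.card + 1 = Nat.card L.range := by
    rw [hJ, Finset.card_erase_add_one (Finset.mem_filter.2 ⟨Finset.mem_univ _, zero_mem _⟩), Nat.card_eq_fintype_card, Fintype.card_subtype]
  have hJy : ∀ x ∈ J, y * x ∈ J := by
    intro x hx
    simp only [hJ, mem_erase, mem_filter, mem_univ, true_and, AddMonoidHom.mem_range] at hx ⊢
    obtain ⟨hx0, e, rfl⟩ := hx
    obtain ⟨e', he'⟩ := hI e
    exact ⟨mul_ne_zero hy hx0, e', he'.symm⟩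
  have himg : J.image (y * ·) = J :=
    Finset.eq_of_subset_of_card_le (fun z hz => by
      obtain ⟨x, hx, rfl⟩ := mem_image.1 hz; exact hJy x hx)
      (Finset.card_image_of_injective _ (mul_right_injective₀ hy)).ge
  have hp : y ^ J.card * ∏ x ∈ J, x = ∏ x ∈ J, x := by
    conv_rhs => rw [← himg]
    rw [Finset.prod_image (fun a _ b _ e => mul_right_injective₀ hy e), Finset.prod_mul_distrib, Finset.prod_const]
  have hne : ∏ x ∈ J, x ≠ 0 := Finset.prod_ne_zero_iff.2 fun x hx => (mem_erase.1 hx).1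
  have h1 : y ^ J.card = 1 := mul_right_cancel₀ hne (hp.trans (one_mul _).symm)
  have h2 : y ^ (Fintype.card F - 1) = 1 := FiniteField.pow_card_sub_one_eq_one y hy
  have e : Fintype.card F - 1 = J.card + J.card + 1 := by omega
  rw [e, pow_succ, pow_add, h1, one_mul, one_mul] at h2
  exact h2

/-- the kernel of a nontrivial character -/
theorem radical_unique {ψ : F → ℂ} (hψ : IsChar ψ) {a a' : F} (ha : a ≠ 0) (ha' : a' ≠ 0)
    (hr : ∀ c, ψ (sg m c * a + sg m a * c) = 1) (hr' : ∀ c, ψ (sg m c * a' + sg m a' * c) = 1) : a' = a := by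
  classical
  set L : F →+ F := AddMonoidHom.mk' (fun e => e + sg m e) (fun a b => by rw [h.sg_add]; ring) with hL
  let K : AddSubgroup F :=
    { carrier := {x | ψ x = 1}
      add_mem' := fun {a b} (ha : ψ a = 1) (hb : ψ b = 1) => show ψ (a + b) = 1 by rw [hψ.add, ha, hb, one_mul]
      zero_mem' := by
        show ψ 0 = 1
        have e0 := hψ.add 0 0
        rw [add_zero] at e0
        rcases hψ.sign 0 with h1 | h1
        · exact h1
        · rw [h1] at e0; norm_num at e0
      neg_mem' := fun {a} (ha : ψ a = 1) => by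
        have : -a = a := by linear_combination (-a) * h.two
        show ψ (-a) = 1
        rw [this]; exact ha }
  have hin : ∀ b : F, b ≠ 0 → (∀ c, ψ (sg m c * b + sg m b * c) = 1) → ∀ x ∈ L.range, b * sg m b * x ∈ K := by
    rintro b hb hbr _ ⟨e, rfl⟩
    show ψ (b * sg m b * (e + sg m e)) = 1
    rw [← hbr (b * e), sg_mul]
    congr 1; ring
  have hsub : ∀ b : F, b ≠ 0 → (∀ c, ψ (sg m c * b + sg m b * c) = 1) →
      ∀ k ∈ K, ∃ e, k = b * sg m b * (e + sg m e) := by
    intro b hb hbr k hk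
    have ht : b * sg m b ≠ 0 := mul_ne_zero hb fun hz => hb (h.sg_inj (hz.trans (sg_zero m).symm))
    set M := L.range.map (AddMonoidHom.mulLeft (b * sg m b)) with hM
    have hMK : M ≤ K := by
      rintro _ ⟨x, hx, rfl⟩; exact hin b hb hbr x hx
    have hker : Nat.card L.ker ≤ 2 := by
      have : (L.ker : Set F) ⊆ {0, 1} := by
        intro x hx
        have hx' : x + sg m x = 0 := hx
        exact (h.sg_fixed (by linear_combination hx' - x * h.two)).imp id id
      have := (Set.ncard_le_ncard this (Set.toFinite _)).trans (Set.ncard_insert_le _ _)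
      rw [Set.ncard_singleton, ← Nat.card_coe_set_eq] at this
      exact this
    have hMcard : Nat.card M = Nat.card L.range :=
      (Nat.card_congr (L.range.equivMapOfInjective _ (mul_right_injective₀ ht)).toEquiv).symm
    have hq : Fintype.card F ≤ 2 * Nat.card L.range := by
      rw [← Nat.card_eq_fintype_card, ← AddSubgroup.card_mul_index L.ker, AddSubgroup.index_ker]
      exact Nat.mul_le_mul_right _ hker
    have hK : 2 * Nat.card K ≤ Fintype.card F := by
      rw [← Nat.card_eq_fintype_card, ← AddSubgroup.card_mul_index K, mul_comm 2]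
      refine Nat.mul_le_mul_left _ ?_
      have h0 : K.index ≠ 0 := AddSubgroup.index_ne_zero_of_finite
      have h1 : K.index ≠ 1 := fun e => by
        obtain ⟨x, hx⟩ := hψ.nt
        exact hx ((AddSubgroup.index_eq_one.1 e).ge (AddSubgroup.mem_top x))
      omega
    have heq : M = K := AddSubgroup.eq_of_le_of_card_ge hMK (by omega)
    rw [← heq] at hk
    obtain ⟨_, ⟨e, rfl⟩, rfl⟩ := hk
    exact ⟨e, rfl⟩
  set t := a * sg m a with ht
  set t' := a' * sg m a' with ht'
  have ht0 : t ≠ 0 := mul_ne_zero ha fun hz => ha (h.sg_inj (hz.trans (sg_zero m).symm))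
  have ht0' : t' ≠ 0 := mul_ne_zero ha' fun hz => ha' (h.sg_inj (hz.trans (sg_zero m).symm))
  have := h.stab_image (y := t' / t) (div_ne_zero ht0' ht0) fun e => by
    obtain ⟨e', he'⟩ := hsub a ha hr _ (hin a' ha' hr' _ ⟨e, rfl⟩)
    refine ⟨e', ?_⟩
    have he'' : t' * (e + sg m e) = t * (e' + sg m e') := he'
    field_simp
    linear_combination he''
  exact h.asg_inj ha ((div_eq_one_iff_eq ht0).1 this).symm

section Rep
variable {V : Type*} [AddCommGroup V] [Module ℂ V] [FiniteDimensional ℂ V]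
  (ρ : Cfsg.Sz F m →* (V →ₗ[ℂ] V))

/-- the eigenspace of a character of the centre -/
def eig (ψ : F → ℂ) : Submodule ℂ V where
  carrier := {v | ∀ b, ρ (h.tG 0 b) v = ψ b • v}
  add_mem' := fun {u v} hu hv b => by rw [map_add, hu b, hv b, smul_add]
  zero_mem' := fun b => by simp
  smul_mem' := fun c {v} hv b => by rw [map_smul, hv b, smul_comm]

theorem mem_eig {ψ : F → ℂ} {v : V} : v ∈ h.eig ρ ψ ↔ ∀ b, ρ (h.tG 0 b) v = ψ b • v := Iff.rfl

theorem exists_eig (hf : ∃ b, ρ (h.tG 0 b) ≠ 1) : ∃ ψ : F → ℂ, IsChar ψ ∧ ∃ v ∈ h.eig ρ ψ, v ≠ 0 := by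
  classical
  obtain ⟨b0, hb0⟩ := hf
  have hsq : ∀ b v, ρ (h.tG 0 b) (ρ (h.tG 0 b) v) = v := by
    intro b v
    rw [← Module.End.mul_apply, ← map_mul, h.tG_mul, sg_zero, add_zero, h.add_self,
      show (0 : F) * 0 = 0 by ring, add_zero, h.tG_zero, map_one]
    rfl
  have hcm : ∀ b b' v, ρ (h.tG 0 b) (ρ (h.tG 0 b') v) = ρ (h.tG 0 b') (ρ (h.tG 0 b) v) := by
    intro b b' v
    rw [← Module.End.mul_apply, ← map_mul, h.tG_Z_comm, map_mul]
    rfl
  obtain ⟨u, hu⟩ : ∃ u, ρ (h.tG 0 b0) u ≠ u := by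
    by_contra hcon
    push Not at hcon
    exact hb0 (LinearMap.ext hcon)
  have key : ∀ s : Finset F, ∃ v : V, v ≠ 0 ∧ ρ (h.tG 0 b0) v = -v ∧
      ∀ b ∈ s, ρ (h.tG 0 b) v = v ∨ ρ (h.tG 0 b) v = -v := by
    intro s
    induction s using Finset.induction with
    | empty =>
      refine ⟨u - ρ (h.tG 0 b0) u, sub_ne_zero.2 (Ne.symm hu), ?_, by simp⟩
      rw [map_sub, hsq, neg_sub]
    | @insert b s hb ih =>
      obtain ⟨v, hv, hv0, hvs⟩ := ih
      by_cases hneg : ρ (h.tG 0 b) v = -v
      · exact ⟨v, hv, hv0, fun x hx => (mem_insert.1 hx).elim (fun e => e ▸ Or.inr hneg) (hvs x)⟩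
      refine ⟨v + ρ (h.tG 0 b) v, fun e => hneg (eq_neg_of_add_eq_zero_right e), ?_, ?_⟩
      · rw [map_add, hcm b0 b, hv0, map_neg, neg_add]
      · intro x hx
        rcases mem_insert.1 hx with rfl | hx
        · left; rw [map_add, hsq, add_comm]
        · rcases hvs x hx with e | e
          · left; rw [map_add, hcm x b, e]
          · right; rw [map_add, hcm x b, e, map_neg, neg_add]
  obtain ⟨v, hv, hv0, hvs⟩ := key Finset.univ
  let ψ : F → ℂ := fun b => if ρ (h.tG 0 b) v = v then 1 else -1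
  have hψv : ∀ b, ρ (h.tG 0 b) v = ψ b • v := by
    intro b
    by_cases e : ρ (h.tG 0 b) v = v
    · simp only [ψ, if_pos e, one_smul]; exact e
    · simp only [ψ, if_neg e, neg_smul, one_smul]
      exact (hvs b (mem_univ b)).resolve_left e
  refine ⟨ψ, ⟨fun a b => smul_left_injective ℂ hv ?_, fun a => ?_, b0, ?_⟩, v, hψv, hv⟩
  · show ψ (a + b) • v = (ψ a * ψ b) • v
    have e : h.tG 0 a * h.tG 0 b = h.tG 0 (a + b) := by
      rw [h.tG_mul, sg_zero, zero_mul, add_zero, add_zero]
    rw [← hψv, ← e, map_mul, Module.End.mul_apply, hψv, map_smul, hψv, smul_smul, mul_comm]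
  · by_cases e : ρ (h.tG 0 a) v = v
    · exact Or.inl (if_pos e)
    · exact Or.inr (if_neg e)
  · intro e
    have := hψv b0
    rw [e, one_smul, hv0] at this
    have h2 : v + v = 0 := neg_eq_iff_add_eq_zero.1 this
    rw [← two_smul ℂ v, smul_eq_zero] at h2
    exact hv (h2.resolve_left two_ne_zero)

theorem dim_ge {ψ : F → ℂ} (hψ : IsChar ψ) {v : V} (hv : v ∈ h.eig ρ ψ) (hv0 : v ≠ 0) :
    2 ^ m ≤ Module.finrank ℂ (h.eig ρ ψ) := by
  classical
  set W := h.eig ρ ψ with hW
  have hinv : ∀ g, (∀ b, g * h.tG 0 b = h.tG 0 b * g) → ∀ w ∈ W, ρ g w ∈ W := by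
    intro g hg w hw b
    rw [← Module.End.mul_apply, ← map_mul, ← hg, map_mul, Module.End.mul_apply, hw b, map_smul]
  let A : F → (W →ₗ[ℂ] W) := fun a => (ρ (h.tG a 0)).restrict
    (hinv _ fun b => (h.tG_Z_comm a b 0).symm)
  let A' : F → (W →ₗ[ℂ] W) := fun a => (ρ (h.tG a 0)⁻¹).restrict
    (hinv _ fun b => (show Commute (h.tG a 0)⁻¹ (h.tG 0 b) from
      (show Commute (h.tG a 0) (h.tG 0 b) from (h.tG_Z_comm a b 0).symm).inv_left).eq)
  have hA' : ∀ a, A' a * A a = 1 := by
    intro a
    refine LinearMap.ext fun w => Subtype.ext ?_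
    show ρ (h.tG a 0)⁻¹ (ρ (h.tG a 0) (w : V)) = w
    rw [← Module.End.mul_apply, ← map_mul, inv_mul_cancel, map_one]
    rfl
  have hAA' : ∀ a, A a * A' a = 1 := by
    intro a
    refine LinearMap.ext fun w => Subtype.ext ?_
    show ρ (h.tG a 0) (ρ (h.tG a 0)⁻¹ (w : V)) = w
    rw [← Module.End.mul_apply, ← map_mul, mul_inv_cancel, map_one]
    rfl
  let β : F → F → ℂ := fun a c => ψ (sg m c * a + sg m a * c)
  have hcomm : ∀ a c, A c * A a = β a c • (A a * A c) := by
    intro a c
    refine LinearMap.ext fun w => Subtype.ext ?_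
    show ρ (h.tG c 0) (ρ (h.tG a 0) (w : V)) = β a c • ρ (h.tG a 0) (ρ (h.tG c 0) (w : V))
    rw [← Module.End.mul_apply, ← map_mul, h.tG_comm, map_mul, map_mul, Module.End.mul_apply, Module.End.mul_apply]
    exact hinv _ (fun b => (h.tG_Z_comm a b 0).symm) _ (hinv _ (fun b => (h.tG_Z_comm c b 0).symm) _ w.2) _
  let T : Finset (F → ℂ) := Finset.univ.image β
  let r : ↥T → F := fun t => (Finset.mem_image.1 t.2).choose
  have hr : ∀ t : ↥T, β (r t) = t.1 := fun t => (Finset.mem_image.1 t.2).choose_spec.2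
  have hli : LinearIndependent ℂ (fun t : ↥T => A (r t)) := by
    rw [Fintype.linearIndependent_iff]
    intro g hg t
    have := eigen_indep (fun t : ↥T => β (r t))
      (fun c => (LinearMap.mulLeft ℂ (A c)).comp (LinearMap.mulRight ℂ (A' c)))
      Finset.univ (fun t => g t • A (r t)) (fun t _ c => by
        show A c * ((g t • A (r t)) * A' c) = β (r t) c • g t • A (r t)
        rw [← mul_assoc, mul_smul_comm, hcomm, smul_comm (g t) (β (r t) c), smul_mul_assoc, smul_mul_assoc,
          mul_assoc, hAA', mul_one])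
      (fun t _ t' _ e => Subtype.ext (by rw [← hr t, ← hr t']; exact e)) hg t (Finset.mem_univ t)
    refine (smul_eq_zero.1 this).resolve_right fun e => hv0 ?_
    have h1 := LinearMap.congr_fun (hA' (r t)) ⟨v, hv⟩
    rw [e, mul_zero] at h1
    exact (congrArg Subtype.val h1).symm
  have hcard := hli.fintype_card_le_finrank
  rw [Fintype.card_coe, Module.finrank_linearMap] at hcard
  have hfib : ∀ t ∈ T, (Finset.univ.filter fun a => β a = t).card ≤ 2 := by
    intro t _
    by_contra hcon
    obtain ⟨a, b, c, ha, hb, hc, hab, hac, hbc⟩ := Finset.two_lt_card_iff.1 (not_le.1 hcon)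
    simp only [mem_filter, mem_univ, true_and] at ha hb hc
    have hrad : ∀ x y, β x = β y → ∀ z, ψ (sg m z * (x + y) + sg m (x + y) * z) = 1 := by
      intro x y e z
      have e' : ψ (sg m z * x + sg m x * z) = ψ (sg m z * y + sg m y * z) := congrFun e z
      rw [show sg m z * (x + y) + sg m (x + y) * z =
        (sg m z * x + sg m x * z) + (sg m z * y + sg m y * z) by rw [h.sg_add]; ring, hψ.add, e']
      rcases hψ.sign (sg m z * y + sg m y * z) with e | e <;> rw [e] <;> norm_num
    have hne : ∀ x y : F, x ≠ y → x + y ≠ 0 := fun x y hxy e => hxy (by linear_combination e - y * h.two)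
    have := h.radical_unique hψ (hne a b hab) (hne a c hac) (hrad a b (ha.trans hb.symm)) (hrad a c (ha.trans hc.symm))
    exact hbc (add_left_cancel this).symm
  have hq : Fintype.card F ≤ 2 * T.card := by
    have := Finset.card_le_mul_card_image (s := (Finset.univ : Finset F)) (f := β) 2 hfib
    simpa using this
  rw [h.card, pow_succ, mul_comm _ 2, two_mul m, pow_add] at hq
  by_contra hcon
  push Not at hcon
  have h3 : 2 * (2 ^ m * 2 ^ m) ≤ 2 * (Module.finrank ℂ W * Module.finrank ℂ W) := hq.trans (Nat.mul_le_mul_left _ hcard)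
  have h4 := Nat.mul_lt_mul_of_lt_of_lt hcon hcon
  omega

theorem degree_ge (hf : ∃ b, ρ (h.tG 0 b) ≠ 1) :
    2 ^ m * (Fintype.card F - 1) ≤ Module.finrank ℂ V := by
  classical
  obtain ⟨ψ, hψ, v, hv, hv0⟩ := h.exists_eig ρ hf
  let χ : Fˣ → F → ℂ := fun k b => ψ ((k : F) * b)
  have hinjd : Function.Injective fun d : Fˣ => Units.mk0 ((d : F) * sg m (d : F))
      (mul_ne_zero d.ne_zero fun hz => d.ne_zero (h.sg_inj (hz.trans (sg_zero m).symm))) := by
    intro d d' e
    exact (Units.ext (h.asg_inj d.ne_zero (congrArg Units.val e))).symm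
  have hchar : ∀ k : Fˣ, IsChar (χ k) := by
    intro k
    refine ⟨fun a b => by simp only [χ]; rw [mul_add, hψ.add], fun a => hψ.sign _, ?_⟩
    obtain ⟨a, ha⟩ := hψ.nt
    exact ⟨(k : F)⁻¹ * a, by simp only [χ]; rwa [mul_inv_cancel_left₀ k.ne_zero]⟩
  have hdim : ∀ k : Fˣ, 2 ^ m ≤ Module.finrank ℂ (h.eig ρ (χ k)) := by
    intro k
    obtain ⟨d, hd⟩ := (Finite.injective_iff_surjective.1 hinjd) k⁻¹
    have hd' : (d : F) * sg m (d : F) = (k : F)⁻¹ := by
      have := congrArg Units.val hd
      simpa using this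
    refine h.dim_ge ρ (hchar k) (v := ρ (h.hG d) v) (fun b => ?_) ?_
    · have e := h.hG_tG d 0 ((k : F) * b)
      rw [mul_zero, hd', inv_mul_cancel_left₀ k.ne_zero] at e
      show ρ (h.tG 0 b) (ρ (h.hG d) v) = ψ ((k : F) * b) • ρ (h.hG d) v
      rw [← Module.End.mul_apply, ← map_mul, ← e, map_mul, Module.End.mul_apply, hv, map_smul]
    · intro e
      apply hv0
      have := congrArg (ρ (h.hG d)⁻¹) e
      rwa [← Module.End.mul_apply, ← map_mul, inv_mul_cancel, map_one, map_zero] at this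
  let S : ((k : Fˣ) → h.eig ρ (χ k)) →ₗ[ℂ] V :=
    ∑ k : Fˣ, (Submodule.subtype _).comp (LinearMap.proj k)
  have hSinj : Function.Injective S := by
    rw [← LinearMap.ker_eq_bot, LinearMap.ker_eq_bot']
    intro f hf'
    funext k
    apply Subtype.ext
    refine eigen_indep χ (fun b => ρ (h.tG 0 b)) Finset.univ (fun k => (f k : V)) (fun k _ b => (f k).2 b)
      (fun k _ k' _ e => ?_) (by simpa [S, LinearMap.sum_apply] using hf') k (Finset.mem_univ k)
    by_contra hne
    obtain ⟨a, ha⟩ := hψ.nt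
    have hs : (k : F) + k' ≠ 0 := fun e0 => hne (Units.ext (by linear_combination e0 - (k' : F) * h.two))
    apply ha
    have e1 := congrFun e (((k : F) + k')⁻¹ * a)
    simp only [χ] at e1
    rw [← mul_inv_cancel_left₀ hs a, add_mul, hψ.add, e1]
    rcases hψ.sign ((k' : F) * (((k : F) + k')⁻¹ * a)) with e2 | e2 <;> rw [e2] <;> norm_num
  have := LinearMap.finrank_le_finrank_of_injective hSinj
  rw [Module.finrank_pi_fintype] at this
  refine le_trans ?_ this
  refine le_trans (le_of_eq ?_) (Finset.card_nsmul_le_sum Finset.univ _ _ fun k _ => hdim k)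
  rw [Finset.card_univ, Fintype.card_units, smul_eq_mul, mul_comm]

end Rep

end Hyp

end CfsgLib.Suzuki
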