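import Cfsg.Agent.Lib.Suzuki.Maximal
import Cfsg.Agent.Lib.Suzuki.LieEquiv

/-! A Suzuki group has no cover of least size by nilpotent subgroups (owner helper8). -/
set_option autoImplicit false
set_option linter.all false

namespace CfsgLib.Suzuki.NilpotentCover

open Cfsg (suzukiOvoid)
open Classical

variable {F : Type*} [Field F] [Fintype F] {m : ℕ}

/-- fixed points, and the centraliser of a fixed-point-free element -/
noncomputable def key (u : Cfsg.Sz F m) : Set (suzukiOvoid F m) × Subgroup (Cfsg.Sz F m) :=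
  ({p | u • p = p}, if Fpf u then Subgroup.centralizer {u} else ⊥)

theorem key_comm (h : Hyp F m) {u z : Cfsg.Sz F m} (hu : u ≠ 1) (hz : z ≠ 1) (e : Commute u z) : key u = key z := by
  have half : ∀ {a b : Cfsg.Sz F m}, a ≠ 1 → Commute a b → ∀ p : suzukiOvoid F m, a • p = p → b • p = p :=
    fun {a b} ha hab p hp => (h.cent_fix ha hp).2 b (Subgroup.mem_centralizer_singleton_iff.mpr hab.eq.symm)
  have hset : {p : suzukiOvoid F m | u • p = p} = {p | z • p = p} :=
    Set.ext fun p => ⟨half hu e p, half hz e.symm p⟩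
  refine Prod.ext hset ?_
  have hiff : Fpf u ↔ Fpf z := ⟨fun hf p hp => hf p (half hz e.symm p hp), fun hf p hp => hf p (half hu e p hp)⟩
  by_cases hf : Fpf u
  · simp only [key, if_pos hf, if_pos (hiff.mp hf)]
    exact ((h.cent_eq hf (Subgroup.mem_centralizer_singleton_iff.mpr e.eq.symm) hz).2).symm
  · simp only [key, if_neg hf, if_neg (fun h' => hf (hiff.mpr h'))]

theorem exists_rep (h : Hyp F m) (A : Subgroup (Cfsg.Sz F m)) (hA : Group.IsNilpotent A) :
    ∃ k, ∀ u ∈ A, u ≠ 1 → key u = k := by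
  rcases subsingleton_or_nontrivial A with hs | hn
  · exact ⟨key 1, fun u hu hu1 => absurd (congrArg Subtype.val (Subsingleton.elim (⟨u, hu⟩ : A) 1)) hu1⟩
  · haveI := hA
    haveI : Nontrivial (Subgroup.center A) := (Subgroup.nontrivial_iff_ne_bot _).mpr (Group.IsNilpotent.center_ne_bot _)
    obtain ⟨z, hz⟩ := exists_ne (1 : Subgroup.center A)
    have hz1 : ((z : A) : Cfsg.Sz F m) ≠ 1 := fun e => hz (Subtype.ext (Subtype.ext e))
    refine ⟨key ((z : A) : Cfsg.Sz F m), fun u hu hu1 => key_comm h hu1 hz1 ?_⟩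
    exact congrArg Subtype.val (Subgroup.mem_center_iff.mp z.2 ⟨u, hu⟩)

theorem exists_smaller (h : Hyp F m) (𝓐 : Finset (Subgroup (Cfsg.Sz F m)))
    (hcov : ∀ g : Cfsg.Sz F m, ∃ A ∈ 𝓐, g ∈ A) (hnil : ∀ A ∈ 𝓐, Group.IsNilpotent A) :
    ∃ 𝓑 : Finset (Subgroup (Cfsg.Sz F m)), ((∀ B ∈ 𝓑, B ≠ ⊤) ∧ ∀ g : Cfsg.Sz F m, ∃ B ∈ 𝓑, g ∈ B) ∧ 𝓑.card < 𝓐.card := by
  haveI : Fintype (Cfsg.Sz F m) := Fintype.ofFinite _
  haveI : Fintype (suzukiOvoid F m) := Fintype.ofFinite _
  haveI := h.pretrans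
  let C : Finset (Subgroup (Cfsg.Sz F m)) := (Finset.univ.filter fun u : Cfsg.Sz F m => Fpf u).image
    fun u => Subgroup.centralizer {u}
  let S : Finset (Subgroup (Cfsg.Sz F m)) := Finset.univ.image fun p : suzukiOvoid F m =>
    MulAction.stabilizer (Cfsg.Sz F m) p
  let K : Finset (Set (suzukiOvoid F m) × Subgroup (Cfsg.Sz F m)) :=
    (Finset.univ.filter fun u : Cfsg.Sz F m => u ≠ 1).image key
  have hKA : K.card ≤ 𝓐.card := by
    let f : Subgroup (Cfsg.Sz F m) → Set (suzukiOvoid F m) × Subgroup (Cfsg.Sz F m) := fun A =>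
      if hA : A ∈ 𝓐 then Classical.choose (exists_rep h A (hnil A hA)) else key 1
    refine (Finset.card_le_card ?_).trans (Finset.card_image_le (s := 𝓐) (f := f))
    intro k hk
    obtain ⟨u, hu, rfl⟩ := Finset.mem_image.mp hk
    obtain ⟨A, hA, huA⟩ := hcov u
    refine Finset.mem_image.mpr ⟨A, hA, ?_⟩
    simp only [f, dif_pos hA]
    exact (Classical.choose_spec (exists_rep h A (hnil A hA)) u huA (Finset.mem_filter.mp hu).2).symm
  let P : Finset (Set (suzukiOvoid F m) × Subgroup (Cfsg.Sz F m)) :=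
    Finset.univ.image fun p : suzukiOvoid F m => (({p} : Set (suzukiOvoid F m)), (⊥ : Subgroup (Cfsg.Sz F m)))
  let T : Finset (Set (suzukiOvoid F m) × Subgroup (Cfsg.Sz F m)) :=
    C.image fun D => ((∅ : Set (suzukiOvoid F m)), D)
  let k₀ : Set (suzukiOvoid F m) × Subgroup (Cfsg.Sz F m) := ({oI F m, o0 F m}, ⊥)
  have hsub : insert k₀ (P ∪ T) ⊆ K := by
    obtain ⟨a0, ha0, ha1⟩ := h.exists_gt
    set d := Units.mk0 a0 ha0
    have hd : d ≠ 1 := fun e => ha1 (congrArg Units.val e)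
    intro k hk
    rcases Finset.mem_insert.mp hk with rfl | hk
    · refine Finset.mem_image.mpr ⟨h.hG d, Finset.mem_filter.mpr ⟨Finset.mem_univ _,
        fun e => hd (h.hG_inj (e.trans (map_one _).symm))⟩, Prod.ext ?_ ?_⟩
      · ext p
        refine ⟨fun e => h.hG_fix hd e, ?_⟩
        rintro (rfl | rfl)
        · exact h.hG_oI d
        · exact h.hG_o0 d
      · exact if_neg fun hf => hf _ (h.hG_oI d)
    rcases Finset.mem_union.mp hk with hk | hk
    · obtain ⟨p, -, rfl⟩ := Finset.mem_image.mp hk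
      obtain ⟨x, rfl⟩ := MulAction.exists_smul_eq (Cfsg.Sz F m) (oI F m) p
      have hne : h.tG 0 1 ≠ 1 := fun e => one_ne_zero (h.tG_inj (e.trans h.tG_zero.symm)).2
      refine Finset.mem_image.mpr ⟨x * h.tG 0 1 * x⁻¹, Finset.mem_filter.mpr ⟨Finset.mem_univ _,
        fun e => hne (conj_eq_one_iff.mp e)⟩, Prod.ext ?_ ?_⟩
      · ext p
        simp only [key, Set.mem_setOf_eq, Set.mem_singleton_iff]
        constructor
        · intro e
          rw [mul_smul, mul_smul, ← eq_inv_smul_iff] at e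
          exact inv_smul_eq_iff.mp (h.tG_fix hne e)
        · rintro rfl
          rw [mul_smul, mul_smul, inv_smul_smul, h.tG_oI]
      · exact if_neg fun hf => hf (x • oI F m) (by rw [mul_smul, mul_smul, inv_smul_smul, h.tG_oI])
    · obtain ⟨D, hD, rfl⟩ := Finset.mem_image.mp hk
      obtain ⟨u, hu, rfl⟩ := Finset.mem_image.mp hD
      have hf := (Finset.mem_filter.mp hu).2
      refine Finset.mem_image.mpr ⟨u, Finset.mem_filter.mpr ⟨Finset.mem_univ _, h.fpf_ne_one hf⟩, Prod.ext ?_ ?_⟩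
      · exact Set.eq_empty_iff_forall_notMem.mpr fun p hp => hf p hp
      · exact if_pos hf
  have hk₀ : k₀ ∉ P ∪ T := by
    intro hk
    rcases Finset.mem_union.mp hk with hk | hk
    · obtain ⟨p, -, e⟩ := Finset.mem_image.mp hk
      have e1 : ({p} : Set (suzukiOvoid F m)) = {oI F m, o0 F m} := congrArg Prod.fst e
      have h1 : oI F m ∈ ({p} : Set (suzukiOvoid F m)) := by rw [e1]; exact Or.inl rfl
      have h2 : o0 F m ∈ ({p} : Set (suzukiOvoid F m)) := by rw [e1]; exact Or.inr rfl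
      exact h.oI_ne_o0 ((Set.mem_singleton_iff.mp h1).trans (Set.mem_singleton_iff.mp h2).symm)
    · obtain ⟨D, -, e⟩ := Finset.mem_image.mp hk
      have e1 : (∅ : Set (suzukiOvoid F m)) = {oI F m, o0 F m} := congrArg Prod.fst e
      exact Set.notMem_empty (oI F m) (by rw [e1]; exact Or.inl rfl)
  have hdisj : Disjoint P T := Finset.disjoint_left.mpr fun k hk hk' => by
    obtain ⟨p, -, rfl⟩ := Finset.mem_image.mp hk
    obtain ⟨D, -, e⟩ := Finset.mem_image.mp hk'
    exact Set.singleton_ne_empty p (congrArg Prod.fst e).symm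
  have hcard := Finset.card_le_card hsub
  rw [Finset.card_insert_of_notMem hk₀, Finset.card_union_of_disjoint hdisj,
    Finset.card_image_of_injective _ (fun p q e => Set.singleton_injective (congrArg Prod.fst e)),
    Finset.card_image_of_injective _ (fun D D' e => congrArg Prod.snd e)] at hcard
  have hS : S.card ≤ (Finset.univ : Finset (suzukiOvoid F m)).card := Finset.card_image_le
  refine ⟨S ∪ C, ⟨fun B hB => ?_, fun g => ?_⟩, ?_⟩
  · rcases Finset.mem_union.mp hB with hB | hB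
    · obtain ⟨p, -, rfl⟩ := Finset.mem_image.mp hB
      intro e
      have hall : ∀ x : Cfsg.Sz F m, x • p = p := fun x => MulAction.mem_stabilizer_iff.mp (e ▸ Subgroup.mem_top x)
      have hp : p = oI F m := h.tG_fix (a := 0) (b := 1)
        (fun e' => one_ne_zero (h.tG_inj (e'.trans h.tG_zero.symm)).2) (hall _)
      exact h.stab_ne_top (hp ▸ e)
    · obtain ⟨u, hu, rfl⟩ := Finset.mem_image.mp hB
      intro e
      have hd := h.cent_dvd (Finset.mem_filter.mp hu).2
      rw [e, Subgroup.card_top, h.card_G'] at hd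
      have hq := h.three_le_q
      have := Nat.le_of_dvd (by positivity) hd
      obtain ⟨t, ht⟩ : ∃ t, Fintype.card F = t + 3 := ⟨Fintype.card F - 3, by omega⟩
      rw [ht, show t + 3 - 1 = t + 2 by omega] at this
      have h1 : 2 ≤ (t + 3) ^ 2 * (t + 2) := by nlinarith
      nlinarith [Nat.mul_le_mul_right ((t + 3) ^ 2 + 1) h1]
  · by_cases hf : Fpf g
    · exact ⟨_, Finset.mem_union_right _ (Finset.mem_image.mpr ⟨g, Finset.mem_filter.mpr ⟨Finset.mem_univ _, hf⟩, rfl⟩),
        Subgroup.mem_centralizer_singleton_iff.mpr rfl⟩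
    · unfold Fpf at hf; push Not at hf
      obtain ⟨p, hp⟩ := hf
      exact ⟨_, Finset.mem_union_left _ (Finset.mem_image.mpr ⟨p, Finset.mem_univ _, rfl⟩), hp⟩
  · calc (S ∪ C).card ≤ S.card + C.card := Finset.card_union_le _ _
      _ < K.card := by omega
      _ ≤ 𝓐.card := hKA

theorem not_minimal {G : Type*} [Group G] (h : Hyp F m) (e : Cfsg.Sz F m ≃* G) :
    ¬ ∃ 𝓐 : Finset (Subgroup G), ((∀ A ∈ 𝓐, A ≠ ⊤) ∧ (∀ g : G, ∃ A ∈ 𝓐, g ∈ A)) ∧
      (∀ 𝓑 : Finset (Subgroup G), (∀ A ∈ 𝓑, A ≠ ⊤) ∧ (∀ g : G, ∃ A ∈ 𝓑, g ∈ A) → 𝓐.card ≤ 𝓑.card) ∧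
      (∀ A ∈ 𝓐, Group.IsNilpotent A) := by
  rintro ⟨𝓐, ⟨-, hcov⟩, hmin, hnil⟩
  obtain ⟨𝓑, ⟨hB, hBcov⟩, hlt⟩ := exists_smaller h (𝓐.image fun A => A.comap e.toMonoidHom)
    (fun g => by
      obtain ⟨A, hA, hg⟩ := hcov (e g)
      exact ⟨_, Finset.mem_image_of_mem _ hA, hg⟩)
    (fun A' hA' => by
      obtain ⟨A, hA, rfl⟩ := Finset.mem_image.mp hA'
      haveI := hnil A hA
      exact Group.nilpotent_of_mulEquiv (((A.comap e.toMonoidHom).equivMapOfInjective e.toMonoidHom e.injective).trans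
        (MulEquiv.subgroupCongr (Subgroup.map_comap_eq_self_of_surjective e.surjective A))).symm)
  have hle := hmin (𝓑.image fun B => B.map e.toMonoidHom) ⟨fun A hA => by
      obtain ⟨B, hB', rfl⟩ := Finset.mem_image.mp hA
      intro htop
      refine hB B hB' (Subgroup.map_injective (f := e.toMonoidHom) e.injective ?_)
      rw [htop, Subgroup.map_top_of_surjective e.toMonoidHom e.surjective],
    fun g => by
      obtain ⟨B, hB', hg⟩ := hBcov (e.symm g)
      exact ⟨_, Finset.mem_image_of_mem _ hB', ⟨_, hg, e.apply_symm_apply g⟩⟩⟩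
  have := (hle.trans Finset.card_image_le).trans_lt hlt
  exact absurd (this.trans_le Finset.card_image_le) (lt_irrefl _)

end CfsgLib.Suzuki.NilpotentCover
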