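import Cfsg.Agent.Lib.Suzuki.Torus
import Cfsg.Agent.Lib.Dickson.Count

/-! The cyclic subgroups of orders `q ± r + 1` of the Suzuki groups. (helper4) -/

set_option autoImplicit false

namespace CfsgLib.Suzuki

open Cfsg Matrix
open scoped Pointwise
open CfsgLib.Fusion CfsgLib.Dickson
open Classical

variable {F : Type*} [Field F] [Fintype F] {m : ℕ}

theorem relIndex_centralizer_le {G X : Type*} [Group G] (g : G) (N : Subgroup G) (φ : G → X)
    (hφ : Function.Injective φ) (R : Finset X) (hR : ∀ c : N, φ ((c : G) * g * (c : G)⁻¹) ∈ R) :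
    (Subgroup.centralizer {g}).relIndex N ≤ R.card := by
  rw [Subgroup.relIndex, Subgroup.index_eq_card, ← Nat.card_eq_finsetCard]
  refine Nat.card_le_card_of_injective (fun q => (⟨_, hR (Quotient.out q)⟩ : R)) fun q r e => ?_
  have e1 := hφ (congrArg Subtype.val e)
  rw [← QuotientGroup.out_eq' q, ← QuotientGroup.out_eq' r, QuotientGroup.eq, Subgroup.mem_subgroupOf,
    Subgroup.coe_mul, Subgroup.coe_inv, Subgroup.mem_centralizer_singleton_iff]
  generalize ((Quotient.out q : N) : G) = a at e1 ⊢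
  generalize ((Quotient.out r : N) : G) = b at e1 ⊢
  calc a⁻¹ * b * g = a⁻¹ * (b * g * b⁻¹) * b := by group
    _ = a⁻¹ * (a * g * a⁻¹) * b := by rw [e1]
    _ = g * (a⁻¹ * b) := by group

namespace Hyp

variable (h : Hyp F m)
include h

theorem fpf_ne_one {g : Cfsg.Sz F m} (hg : Fpf g) : g ≠ 1 := fun e => hg (oI F m) (by rw [e, one_smul])

theorem cent_eq {g u : Cfsg.Sz F m} (hg : Fpf g) (hu : u ∈ Subgroup.centralizer {g}) (hu1 : u ≠ 1) :
    Fpf u ∧ Subgroup.centralizer {u} = Subgroup.centralizer {g} := by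
  have hgu : g ∈ Subgroup.centralizer {u} :=
    Subgroup.mem_centralizer_singleton_iff.mpr (Subgroup.mem_centralizer_singleton_iff.mp hu).symm
  have hfu : Fpf u := fun p e => hg p ((h.cent_fix hu1 e).2 g hgu)
  refine ⟨hfu, ?_⟩
  have key : ∀ a b : Cfsg.Sz F m, Fpf a → b ∈ Subgroup.centralizer {a} →
      Subgroup.centralizer {a} ≤ Subgroup.centralizer {b} := by
    intro a b ha hb c hc
    have := h.cyclic_cent (h.fpf_ne_one ha) ha
    rw [Subgroup.mem_centralizer_singleton_iff]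
    exact congrArg Subtype.val
      (IsMulCommutative.is_comm.comm (⟨c, hc⟩ : Subgroup.centralizer {a}) ⟨b, hb⟩)
  exact le_antisymm (key u g hfu hgu) (key g u hg hu)

theorem cent_dvd {g : Cfsg.Sz F m} (hg : Fpf g) :
    Nat.card (Subgroup.centralizer {g}) ∣ Fintype.card F ^ 2 + 1 := by
  have hcop : Nat.Coprime (Nat.card (Subgroup.centralizer {g})) (Fintype.card F ^ 2 * (Fintype.card F - 1)) := by
    refine Nat.coprime_of_dvd fun p hp hd1 hd2 => ?_
    have : Fact p.Prime := ⟨hp⟩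
    obtain ⟨⟨u, hu⟩, hou⟩ := exists_prime_orderOf_dvd_card' (G := Subgroup.centralizer {g}) p hd1
    rw [← Subgroup.orderOf_coe] at hou
    have hu1 : u ≠ 1 := fun e => hp.ne_one (by rw [← hou, show ((⟨u, hu⟩ : Subgroup.centralizer {g}) : Cfsg.Sz F m) = 1 from e, orderOf_one])
    obtain ⟨h1, h2, h3⟩ := h.prime_of_fpf hp hou (h.cent_eq hg hu hu1).1
    rcases hp.dvd_mul.mp hd2 with e | e
    · exact h2 ((Nat.prime_dvd_prime_iff_eq hp Nat.prime_two).mp (hp.dvd_of_dvd_pow (h.card ▸ hp.dvd_of_dvd_pow e)))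
    · exact h3 e
  refine hcop.dvd_of_dvd_mul_left ?_
  have := Subgroup.card_subgroup_dvd_card (Subgroup.centralizer {g})
  rwa [h.card_G', mul_right_comm] at this

theorem sylow_le {g : Cfsg.Sz F m} (hg : Fpf g) {p : ℕ} [hp : Fact p.Prime]
    (hd : p ∣ Nat.card (Subgroup.centralizer {g})) :
    ∃ (S : Sylow p (Cfsg.Sz F m)) (u : Cfsg.Sz F m), u ∈ (S : Subgroup (Cfsg.Sz F m)) ∧ orderOf u = p ∧
      (S : Subgroup (Cfsg.Sz F m)) ≤ Subgroup.centralizer {g} := by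
  obtain ⟨⟨u, hu⟩, hou⟩ := exists_prime_orderOf_dvd_card' (G := Subgroup.centralizer {g}) p hd
  rw [← Subgroup.orderOf_coe] at hou
  simp only at hou
  have hu1 : u ≠ 1 := fun e => hp.out.ne_one (by rw [← hou, e, orderOf_one])
  obtain ⟨hfu, hcu⟩ := h.cent_eq hg hu hu1
  obtain ⟨S, hS⟩ := (IsPGroup.of_card (n := 1) (by rw [Nat.card_zpowers, hou, pow_one]) :
    IsPGroup p (Subgroup.zpowers u)).exists_le_sylow
  have := h.sylow_odd_cyclic (h.prime_of_fpf hp.out hou hfu).2.1 S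
  refine ⟨S, u, hS (Subgroup.mem_zpowers u), hou, fun c hc => ?_⟩
  rw [← hcu, Subgroup.mem_centralizer_singleton_iff]
  exact congrArg Subtype.val (IsMulCommutative.is_comm.comm (⟨c, hc⟩ : (S : Subgroup (Cfsg.Sz F m)))
    ⟨u, hS (Subgroup.mem_zpowers u)⟩)

theorem coprime_or_conj {g g' : Cfsg.Sz F m} (hg : Fpf g) (hg' : Fpf g') :
    Nat.Coprime (Nat.card (Subgroup.centralizer {g})) (Nat.card (Subgroup.centralizer {g'})) ∨
      ∃ c, Subgroup.centralizer {g'} = cj c (Subgroup.centralizer {g}) := by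
  by_contra hc
  push Not at hc
  refine hc.1 (Nat.coprime_of_dvd fun p hp hd hd' => ?_)
  have : Fact p.Prime := ⟨hp⟩
  obtain ⟨S, u, huS, hou, hS⟩ := h.sylow_le hg hd
  obtain ⟨S', -, -, -, hS'⟩ := h.sylow_le hg' hd'
  obtain ⟨c, hcS⟩ := MulAction.exists_smul_eq (Cfsg.Sz F m) S S'
  have hu' : c * u * c⁻¹ ∈ (S' : Subgroup (Cfsg.Sz F m)) := by
    rw [← hcS, Sylow.coe_subgroup_smul]; exact ⟨u, huS, rfl⟩
  have hu1 : u ≠ 1 := fun e => hp.ne_one (by rw [← hou, e, orderOf_one])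
  refine hc.2 c ?_
  rw [← (h.cent_eq hg' (hS' hu') (fun e => hu1 (conj_eq_one_iff.mp e))).2, centralizer_conj,
    (h.cent_eq hg (hS huS) hu1).2]
  try rfl

theorem exists_fpf_of_dvd {p : ℕ} (hp : p.Prime) (hd : p ∣ Fintype.card F ^ 2 + 1) :
    ∃ x : Cfsg.Sz F m, orderOf x = p ∧ Fpf x := by
  have : Fact p.Prime := ⟨hp⟩
  obtain ⟨x, hx⟩ := exists_prime_orderOf_dvd_card' (G := Cfsg.Sz F m) p
    (by rw [h.card_G']; exact dvd_mul_of_dvd_left (dvd_mul_of_dvd_right hd _) _)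
  have hx1 : x ≠ 1 := fun e => hp.ne_one (by rw [← hx, e, orderOf_one])
  have hpq : ¬ p ∣ Fintype.card F := fun e => by
    have := (Nat.dvd_add_right (dvd_pow e two_ne_zero)).mp hd
    exact hp.ne_one (Nat.dvd_one.mp this)
  refine ⟨x, hx, fun r e => ?_⟩
  obtain ⟨k, -, ⟨a, b, hne, ek⟩ | ⟨d, hd1, ek⟩⟩ := h.classify hx1 e
  · obtain ⟨j, hj⟩ := h.isPGroup_Q ⟨_, a, b, rfl⟩
    have hj' : x ^ 2 ^ j = 1 := by
      rw [ek, conj_pow, show h.tG a b ^ 2 ^ j = 1 from congrArg Subtype.val hj]; group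
    have := hx ▸ orderOf_dvd_of_pow_eq_one hj'
    exact hpq (h.card ▸ ((hp.dvd_of_dvd_pow this).trans (dvd_pow_self 2 (by omega))))
  · have hd' : x ^ (Fintype.card F - 1) = 1 := by
      rw [ek, conj_pow, ← map_pow]
      rw [show d ^ (Fintype.card F - 1) = 1 from Units.ext (by push_cast; exact FiniteField.pow_card_sub_one_eq_one _ d.ne_zero), map_one]
      group
    have hpm := hx ▸ orderOf_dvd_of_pow_eq_one hd'
    obtain ⟨t, ht⟩ : ∃ t, Fintype.card F = t + 1 := ⟨Fintype.card F - 1, by have := h.three_le_q; omega⟩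
    rw [ht, Nat.add_sub_cancel] at hpm
    rw [ht, show (t + 1) ^ 2 + 1 = t * (t + 2) + 2 by ring] at hd
    have := (Nat.prime_dvd_prime_iff_eq hp Nat.prime_two).mp ((Nat.dvd_add_right (dvd_mul_of_dvd_left hpm _)).mp hd)
    subst this
    exact hpq (h.card ▸ dvd_pow_self 2 (by omega))

theorem relIndex_le {g : Cfsg.Sz F m} (hg : Fpf g) :
    (Subgroup.centralizer {g}).relIndex (Subgroup.normalizer (Subgroup.centralizer {g} : Set (Cfsg.Sz F m))) ≤ 4 := by
  obtain ⟨n, p, hp, hx, hx1⟩ := h.exists_prime_pow (h.fpf_ne_one hg)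
  have hgn : g ^ n ∈ Subgroup.centralizer {g} :=
    Subgroup.mem_centralizer_singleton_iff.mpr (pow_mul_comm' g n)
  obtain ⟨hfx, hcx⟩ := h.cent_eq hg hgn hx1
  obtain ⟨hdom, hcomm⟩ := h.domain_cent hp hx hfx
  set A := Subalgebra.centralizer F ({((g ^ n : Cfsg.Sz F m) : SpecialLinearGroup (Fin 4) F).1} : Set (Matrix (Fin 4) (Fin 4) F))
  letI : CommRing A := { (inferInstance : Ring A) with mul_comm := hcomm }
  set T := Subgroup.centralizer {g}
  set N := Subgroup.normalizer (T : Set (Cfsg.Sz F m))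
  have hgT : g ∈ T := Subgroup.mem_centralizer_singleton_iff.mpr rfl
  have hcA : ∀ c : N, ((c : Cfsg.Sz F m) * g * (c : Cfsg.Sz F m)⁻¹).1.1 ∈ A := fun c =>
    (Subalgebra.mem_centralizer_iff F).mpr fun z hz => by
      rw [Set.mem_singleton_iff] at hz; subst hz
      have h1 : (c : Cfsg.Sz F m) * g * (c : Cfsg.Sz F m)⁻¹ ∈ T :=
        (Subgroup.mem_normalizer_iff.mp c.2 g).mp hgT
      rw [← hcx, Subgroup.mem_centralizer_singleton_iff] at h1
      exact (congrArg (fun k : Cfsg.Sz F m => k.1.1) h1).symm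
  set pol := (g.1.1.charpoly).map (algebraMap F A)
  have hpol : pol ≠ 0 := ((Matrix.charpoly_monic _).map _).ne_zero
  have hroot : ∀ c : N, (⟨_, hcA c⟩ : A) ∈ pol.roots := by
    intro c
    rw [Polynomial.mem_roots hpol, Polynomial.IsRoot, Polynomial.eval_map, ← Polynomial.aeval_def]
    apply Subtype.ext
    refine Eq.trans (Polynomial.aeval_algHom_apply (Subalgebra.val A) _ _).symm ?_
    rw [ZeroMemClass.coe_zero]
    have e : g.1.1.charpoly = ((c : Cfsg.Sz F m) * g * (c : Cfsg.Sz F m)⁻¹).1.1.charpoly := by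
      have := Matrix.charpoly_mul_comm ((c : Cfsg.Sz F m).1.1) ((g * (c : Cfsg.Sz F m)⁻¹).1.1)
      rw [← coe_mul', ← coe_mul', ← Subgroup.coe_mul, ← Subgroup.coe_mul, inv_mul_cancel_right] at this
      rw [← this, mul_assoc]
    rw [e]
    exact Matrix.aeval_self_charpoly _
  refine (relIndex_centralizer_le g N (fun z => z.1.1) (fun x y e => Subtype.ext (Subtype.ext e))
    (pol.roots.toFinset.image (fun z : A => (z : Matrix (Fin 4) (Fin 4) F))) fun c =>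
      Finset.mem_image.mpr ⟨⟨_, hcA c⟩, Multiset.mem_toFinset.mpr (hroot c), rfl⟩).trans ?_
  calc (pol.roots.toFinset.image (fun z : A => (z : Matrix (Fin 4) (Fin 4) F))).card
      ≤ pol.roots.toFinset.card := Finset.card_image_le
    _ ≤ pol.roots.card := Multiset.toFinset_card_le _
    _ ≤ pol.natDegree := Polynomial.card_roots' _
    _ ≤ g.1.1.charpoly.natDegree := Polynomial.natDegree_map_le
    _ = 4 := by rw [Matrix.charpoly_natDegree_eq_dim]; simp

theorem not_three_dvd : ¬ 3 ∣ Nat.card (Cfsg.Sz F m) := by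
  rw [h.card_G', h.card]
  have hmod : 2 ^ (2 * m + 1) % 3 = 2 := by
    rw [pow_succ, pow_mul, Nat.mul_mod, Nat.pow_mod]; norm_num
  have h1 : 1 ≤ 2 ^ (2 * m + 1) := Nat.one_le_two_pow
  generalize 2 ^ (2 * m + 1) = q at hmod h1 ⊢
  intro hd
  rcases Nat.prime_three.dvd_mul.mp hd with e | e
  · rcases Nat.prime_three.dvd_mul.mp e with e | e
    · have := Nat.prime_three.dvd_of_dvd_pow e; omega
    · rw [Nat.dvd_iff_mod_eq_zero, Nat.add_mod, Nat.pow_mod, hmod] at e; norm_num at e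
  · omega

theorem normalizer_facts {g : Cfsg.Sz F m} (hg : Fpf g) :
    ∃ e, (e = 1 ∨ e = 2 ∨ e = 4) ∧
      Nat.card (Subgroup.normalizer (Subgroup.centralizer {g} : Set (Cfsg.Sz F m))) =
        e * Nat.card (Subgroup.centralizer {g}) := by
  set T := Subgroup.centralizer {g}
  have hTN : T ≤ Subgroup.normalizer (T : Set (Cfsg.Sz F m)) := Subgroup.le_normalizer
  refine ⟨T.relIndex (Subgroup.normalizer (T : Set (Cfsg.Sz F m))), ?_, ?_⟩
  · have h4 : T.relIndex (Subgroup.normalizer (T : Set (Cfsg.Sz F m))) ≤ 4 := h.relIndex_le hg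
    have h3 : ¬ 3 ∣ T.relIndex (Subgroup.normalizer (T : Set (Cfsg.Sz F m))) := fun hd => h.not_three_dvd
      ((hd.trans (Subgroup.index_dvd_card _)).trans (Subgroup.card_subgroup_dvd_card _))
    have h0 : T.relIndex (Subgroup.normalizer (T : Set (Cfsg.Sz F m))) ≠ 0 := Subgroup.index_ne_zero_of_finite
    have : T.relIndex (Subgroup.normalizer (T : Set (Cfsg.Sz F m))) ≠ 3 := fun e => h3 (e ▸ dvd_rfl)
    omega
  · rw [← Nat.card_congr (Subgroup.subgroupOfEquivOfLe hTN).toEquiv, mul_comm]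
    exact (Subgroup.card_mul_index _).symm

/-- fixed-point-free elements, as a finset. -/
theorem fpf_count : 2 * (Nat.card {g : Cfsg.Sz F m // Fpf g} : ℤ) =
    (Fintype.card F : ℤ) ^ 3 * ((Fintype.card F : ℤ) - 1) ^ 2 := by
  haveI : Fintype (Cfsg.Sz F m) := Fintype.ofFinite _
  haveI : Fintype (suzukiOvoid F m) := Fintype.ofFinite _
  have := h.pretrans
  let f : Cfsg.Sz F m → ℕ := fun g => (Finset.univ.filter fun p : suzukiOvoid F m => g • p = p).card
  have hN : Fintype.card (suzukiOvoid F m) = Fintype.card F ^ 2 + 1 := by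
    rw [← Nat.card_eq_fintype_card, card_ovoid]
  have hG : (Fintype.card (Cfsg.Sz F m) : ℕ) = Fintype.card F ^ 2 * (Fintype.card F ^ 2 + 1) * (Fintype.card F - 1) := by
    rw [← Nat.card_eq_fintype_card, h.card_G']
  have hS1 : ∑ g, f g = Fintype.card (Cfsg.Sz F m) := by
    simp only [f, Finset.card_filter]
    rw [Finset.sum_comm]
    have : ∀ p : suzukiOvoid F m, (∑ g : Cfsg.Sz F m, if g • p = p then 1 else 0) * Fintype.card (suzukiOvoid F m)
        = Fintype.card (Cfsg.Sz F m) := fun p => by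
      rw [← Finset.card_filter, ← Nat.card_eq_fintype_card (α := suzukiOvoid F m),
        ← MulAction.index_stabilizer_of_transitive (Cfsg.Sz F m) p, ← Nat.card_eq_fintype_card (α := Cfsg.Sz F m),
        ← Subgroup.card_mul_index (MulAction.stabilizer (Cfsg.Sz F m) p)]
      congr 1
      rw [Nat.card_eq_fintype_card, Fintype.card_of_subtype]
      intro g; simp [MulAction.mem_stabilizer_iff]
    have h0 : 0 < Fintype.card (suzukiOvoid F m) := by omega
    refine Nat.eq_of_mul_eq_mul_right h0 ?_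
    rw [Finset.sum_mul, Finset.sum_congr rfl fun p _ => this p]
    simp [mul_comm]
  have hpair : ∀ p r : suzukiOvoid F m, p ≠ r →
      (∑ g : Cfsg.Sz F m, if g • p = p ∧ g • r = r then 1 else 0) = Fintype.card F - 1 := by
    intro p r hpr
    obtain ⟨k, k1, k2⟩ := MulAction.is_two_pretransitive_iff.mp h.two_trans h.oI_ne_o0 hpr
    rw [← Finset.card_filter, ← Nat.card_eq_finsetCard, ← Nat.card_eq_fintype_card (α := F)]
    rw [Nat.card_eq_fintype_card (α := F), ← Fintype.card_units, ← Nat.card_eq_fintype_card]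
    refine (Nat.card_eq_of_bijective (fun d : Fˣ => (⟨k * h.hG d * k⁻¹, ?_⟩ : {g // g ∈ Finset.univ.filter fun g : Cfsg.Sz F m => g • p = p ∧ g • r = r})) ⟨?_, ?_⟩).symm
    · simp only [Finset.mem_filter, Finset.mem_univ, true_and]
      refine ⟨?_, ?_⟩
      · rw [← k1, mul_smul, mul_smul, inv_smul_smul, h.hG_oI]
      · rw [← k2, mul_smul, mul_smul, inv_smul_smul, h.hG_o0]
    · intro d e de
      exact h.hG_inj (by simpa using congrArg Subtype.val de)
    · rintro ⟨g, hg⟩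
      simp only [Finset.mem_filter, Finset.mem_univ, true_and] at hg
      obtain ⟨d, hd⟩ := h.fix_two (g := ((k⁻¹ * g * k : Cfsg.Sz F m) : SpecialLinearGroup (Fin 4) F)) (k⁻¹ * g * k).2
        (congrArg Subtype.val (show (k⁻¹ * g * k) • oI F m = oI F m by rw [mul_smul, k1, mul_smul, hg.1, inv_smul_eq_iff, k1]))
        (congrArg Subtype.val (show (k⁻¹ * g * k) • o0 F m = o0 F m by rw [mul_smul, k2, mul_smul, hg.2, inv_smul_eq_iff, k2]))
      refine ⟨d, Subtype.ext ?_⟩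
      show k * h.hG d * k⁻¹ = g
      rw [show h.hG d = k⁻¹ * g * k from Subtype.ext hd.symm]; group
  have hS2 : ∑ g, (f g) ^ 2 = 2 * Fintype.card (Cfsg.Sz F m) := by
    have e : ∀ g, (f g) ^ 2 = ∑ p : suzukiOvoid F m, ∑ r : suzukiOvoid F m, if g • p = p ∧ g • r = r then 1 else 0 := by
      intro g
      simp only [f, Finset.card_filter, sq, Finset.sum_mul_sum, ite_zero_mul_ite_zero, mul_one]
    rw [Finset.sum_congr rfl fun g _ => e g, Finset.sum_comm]
    have : ∀ p : suzukiOvoid F m, (∑ g : Cfsg.Sz F m, ∑ r : suzukiOvoid F m, if g • p = p ∧ g • r = r then 1 else 0) =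
        (∑ g : Cfsg.Sz F m, if g • p = p then 1 else 0) + Fintype.card F ^ 2 * (Fintype.card F - 1) := by
      intro p
      rw [Finset.sum_comm, ← Finset.add_sum_erase _ _ (Finset.mem_univ p)]
      congr 1
      · refine Finset.sum_congr rfl fun g _ => ?_; simp
      · rw [Finset.sum_congr rfl fun r hr => hpair p r (Finset.ne_of_mem_erase hr).symm, Finset.sum_const,
          Finset.card_erase_of_mem (Finset.mem_univ p), Finset.card_univ, hN, smul_eq_mul, Nat.add_sub_cancel]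
    rw [Finset.sum_congr rfl fun p _ => this p, Finset.sum_add_distrib, Finset.sum_const, Finset.card_univ,
      show (∑ p : suzukiOvoid F m, ∑ g : Cfsg.Sz F m, if g • p = p then 1 else 0) = Fintype.card (Cfsg.Sz F m) by
        rw [Finset.sum_comm, ← hS1]; simp only [f, Finset.card_filter], smul_eq_mul, hN, hG]
    ring
  have hcase : ∀ g : Cfsg.Sz F m, g ≠ 1 → ((f g : ℤ) ^ 2 - 3 * f g + 2) = 2 * (if Fpf g then 1 else 0) := by
    intro g hg
    have hle : f g ≤ 2 := by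
      by_contra hc; push Not at hc
      obtain ⟨a, b, c, ha, hb, hcc, hab, hac, hbc⟩ := Finset.two_lt_card_iff.mp hc
      simp only [Finset.mem_filter, Finset.mem_univ, true_and] at ha hb hcc
      exact hg (h.eq_one_of_three g hab hbc hac ha hb hcc)
    by_cases hf : Fpf g
    · have : f g = 0 := Finset.card_eq_zero.mpr (Finset.filter_eq_empty_iff.mpr fun p _ => hf p)
      simp [this, hf]
    · have : 0 < f g := by
        unfold Fpf at hf; push Not at hf; obtain ⟨p, hp⟩ := hf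
        exact Finset.card_pos.mpr ⟨p, Finset.mem_filter.mpr ⟨Finset.mem_univ _, hp⟩⟩
      rw [if_neg hf]
      interval_cases hfg : f g <;> norm_num
  have h1 : f 1 = Fintype.card F ^ 2 + 1 := by
    simp only [f, one_smul, Finset.filter_true, Finset.card_univ, hN]
  have hno1 : ¬ Fpf (1 : Cfsg.Sz F m) := fun e => h.fpf_ne_one e rfl
  have hcount : (Nat.card {g : Cfsg.Sz F m // Fpf g} : ℤ) = ∑ g : Cfsg.Sz F m, if Fpf g then (1 : ℤ) else 0 := by
    rw [Nat.card_eq_fintype_card, Fintype.card_subtype, Finset.sum_boole]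
  have htot : ∑ g : Cfsg.Sz F m, (((f g : ℤ) ^ 2 - 3 * f g + 2) - 2 * (if Fpf g then 1 else 0)) =
      ((f 1 : ℤ) ^ 2 - 3 * f 1 + 2) := by
    rw [Finset.sum_eq_single (1 : Cfsg.Sz F m)]
    · rw [if_neg hno1]; ring
    · intro g _ hg; rw [hcase g hg, sub_self]
    · simp
  simp only [Finset.sum_sub_distrib, Finset.sum_add_distrib, ← Finset.mul_sum, Finset.sum_const, Finset.card_univ,
    nsmul_eq_mul, ← hcount] at htot
  have e1 : (∑ g : Cfsg.Sz F m, (f g : ℤ)) = Fintype.card (Cfsg.Sz F m) := by exact_mod_cast hS1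
  have e2 : (∑ g : Cfsg.Sz F m, (f g : ℤ) ^ 2) = 2 * Fintype.card (Cfsg.Sz F m) := by exact_mod_cast hS2
  rw [e1, e2, h1, hG] at htot
  have hq := h.three_le_q
  push_cast [Nat.cast_sub (show 1 ≤ Fintype.card F by omega)] at htot
  linear_combination -htot

/-- the non-identity elements of the conjugates of a torus. -/
def torusUnion (T : Subgroup (Cfsg.Sz F m)) : Set (Cfsg.Sz F m) := {u | u ≠ 1 ∧ ∃ c, u ∈ cj c T}

omit h in
theorem fpf_conj {u c : Cfsg.Sz F m} (hu : Fpf u) : Fpf (c * u * c⁻¹) := fun p e => hu (c⁻¹ • p) (by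
  rw [mul_smul, mul_smul, ← eq_inv_smul_iff] at e
  exact e)

theorem union_facts {g : Cfsg.Sz F m} (hg : Fpf g) {u : Cfsg.Sz F m} {c : Cfsg.Sz F m} (hu1 : u ≠ 1)
    (hu : u ∈ cj c (Subgroup.centralizer {g})) : Fpf u ∧ Subgroup.centralizer {u} = cj c (Subgroup.centralizer {g}) := by
  have e : cj c (Subgroup.centralizer {g}) = Subgroup.centralizer {c * g * c⁻¹} := (centralizer_conj g c).symm
  rw [e] at hu ⊢
  exact h.cent_eq (fpf_conj hg) hu hu1

theorem card_union {g : Cfsg.Sz F m} (hg : Fpf g) :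
    Nat.card (torusUnion (Subgroup.centralizer {g})) =
      (Subgroup.normalizer (Subgroup.centralizer {g} : Set (Cfsg.Sz F m))).index *
        (Nat.card (Subgroup.centralizer {g}) - 1) := by
  set T := Subgroup.centralizer {g}
  set R := Set.range fun x : Cfsg.Sz F m => cj x T
  let e : (Σ D : R, {u : Cfsg.Sz F m // u ∈ (D : Subgroup (Cfsg.Sz F m)) ∧ u ≠ 1}) → torusUnion T := fun z =>
    ⟨(z.2 : Cfsg.Sz F m), z.2.2.2, by
      obtain ⟨x, hx⟩ := z.1.2
      refine ⟨x, ?_⟩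
      rw [show cj x T = (z.1 : Subgroup (Cfsg.Sz F m)) from hx]
      exact z.2.2.1⟩
  have hb : Function.Bijective e := by
    constructor
    · rintro ⟨⟨D, x, rfl⟩, ⟨u, hu, hu1⟩⟩ ⟨⟨D', x', rfl⟩, ⟨u', hu', hu1'⟩⟩ he
      obtain rfl : u = u' := congrArg Subtype.val he
      exact Sigma.subtype_ext (Subtype.ext ((h.union_facts hg hu1 hu).2.symm.trans (h.union_facts hg hu1 hu').2)) rfl
    · rintro ⟨u, hu1, c, hu⟩
      exact ⟨⟨⟨_, c, rfl⟩, ⟨u, hu, hu1⟩⟩, rfl⟩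
  rw [← Nat.card_eq_of_bijective e hb]
  haveI : Fintype R := Fintype.ofFinite _
  rw [Nat.card_sigma]
  have hc : ∀ D : R, Nat.card {u : Cfsg.Sz F m // u ∈ (D : Subgroup (Cfsg.Sz F m)) ∧ u ≠ 1} = Nat.card T - 1 := by
    rintro ⟨D, x, rfl⟩
    rw [← card_cj x T]
    show Nat.card ({u : Cfsg.Sz F m | u ∈ cj x T ∧ u ≠ 1} : Set (Cfsg.Sz F m)) = Nat.card (cj x T : Set (Cfsg.Sz F m)) - 1
    rw [Nat.card_coe_set_eq, Nat.card_coe_set_eq, ← Set.ncard_sdiff_singleton_of_mem (one_mem (cj x T))]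
    rfl
  rw [Finset.sum_congr rfl fun D _ => hc D, Finset.sum_const, Finset.card_univ, smul_eq_mul, ← Nat.card_eq_fintype_card,
    Nat.card_coe_set_eq, ncard_range_cj]

/-- there are exactly two classes of tori. -/
theorem exists_tori : ∃ g₁ g₂ : Cfsg.Sz F m, Fpf g₁ ∧ Fpf g₂ ∧
    Nat.card (Subgroup.centralizer {g₁}) = 2 ^ (2 * m + 1) + 2 ^ (m + 1) + 1 ∧
    Nat.card (Subgroup.centralizer {g₂}) = 2 ^ (2 * m + 1) - 2 ^ (m + 1) + 1 ∧
    Nat.card (Subgroup.normalizer (Subgroup.centralizer {g₁} : Set (Cfsg.Sz F m))) =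
      4 * Nat.card (Subgroup.centralizer {g₁}) ∧
    Nat.card (Subgroup.normalizer (Subgroup.centralizer {g₂} : Set (Cfsg.Sz F m))) =
      4 * Nat.card (Subgroup.centralizer {g₂}) ∧
    ∀ u : Cfsg.Sz F m, Fpf u → ∃ c, Subgroup.centralizer {u} = cj c (Subgroup.centralizer {g₁}) ∨
      Subgroup.centralizer {u} = cj c (Subgroup.centralizer {g₂}) := by
  set q := Fintype.card F with hqdef
  have hq8 : 8 ≤ q := by
    rw [hqdef, h.card]; calc 8 = 2 ^ 3 := rfl
      _ ≤ _ := Nat.pow_le_pow_right (by norm_num) (by have := h.one_le; omega)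
  have hq2 : 2 ∣ q := by rw [hqdef, h.card]; exact dvd_pow_self 2 (by omega)
  set M := q ^ 2 + 1 with hMdef
  have hMdiv : ∀ k, k ∣ M → k ≠ 1 → 5 ≤ k := by
    intro k hk hk1
    have hk0 : 1 ≤ k := Nat.pos_of_ne_zero fun e => by subst e; simp [hMdef] at hk
    by_contra hc; push Not at hc
    have e3 : ¬ 3 ∣ M := fun hd => h.not_three_dvd (by rw [h.card_G']; exact dvd_mul_of_dvd_left (dvd_mul_of_dvd_right hd _) _)
    have e2 : ¬ 2 ∣ M := fun hd => by
      have := (Nat.dvd_add_right (dvd_pow hq2 two_ne_zero)).mp hd; omega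
    interval_cases k
    · exact hk1 rfl
    · exact e2 hk
    · exact e3 hk
    · exact e2 ((show 2 ∣ 4 by norm_num).trans hk)
  -- facts about one torus
  have one : ∀ g : Cfsg.Sz F m, Fpf g → ∃ n e k : ℕ, k = Nat.card (Subgroup.centralizer {g}) ∧ 5 ≤ k ∧ k ∣ M ∧
      (e = 1 ∨ e = 2 ∨ e = 4) ∧
      Nat.card (Subgroup.normalizer (Subgroup.centralizer {g} : Set (Cfsg.Sz F m))) = e * k ∧
      Nat.card (torusUnion (Subgroup.centralizer {g})) = n * (k - 1) ∧ n * e * k = q ^ 2 * (q - 1) * M := by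
    intro g hg
    obtain ⟨e, he, hN⟩ := h.normalizer_facts hg
    refine ⟨_, e, _, rfl, hMdiv _ (h.cent_dvd hg) (fun e1 => h.fpf_ne_one hg ?_), h.cent_dvd hg, he, hN,
      h.card_union hg, ?_⟩
    · have := Subgroup.eq_bot_of_card_eq _ e1
      exact Subgroup.mem_bot.mp (this ▸ (Subgroup.mem_centralizer_singleton_iff.mpr rfl : g ∈ Subgroup.centralizer {g}))
    · rw [mul_assoc, ← hN, mul_comm, Subgroup.card_mul_index, h.card_G']; ring
  have next_ : ∀ k, k ∣ M → k ≠ M → ∃ g : Cfsg.Sz F m, ∃ p, Fpf g ∧ p.Prime ∧ p ∣ M / k ∧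
      p ∣ Nat.card (Subgroup.centralizer {g}) := by
    intro k hk hne
    have hne1 : M / k ≠ 1 := fun e => hne (by rw [← Nat.div_mul_cancel hk, e, one_mul])
    obtain ⟨p, hp, hpd⟩ := Nat.exists_prime_and_dvd hne1
    obtain ⟨x, hx, hfx⟩ := h.exists_fpf_of_dvd hp (hpd.trans (Nat.div_dvd_of_dvd hk))
    refine ⟨x, p, hfx, hp, hpd, ?_⟩
    rw [← hx, ← Subgroup.orderOf_mk x (Subgroup.mem_centralizer_singleton_iff.mpr rfl : x ∈ Subgroup.centralizer {x})]
    exact orderOf_dvd_natCard _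
  have ndvd : ∀ g : Cfsg.Sz F m, Fpf g → ∀ p : ℕ, p.Prime → p ∣ M / Nat.card (Subgroup.centralizer {g}) →
      ¬ p ∣ Nat.card (Subgroup.centralizer {g}) := by
    intro g hg p hp hpd hd
    have : Fact p.Prime := ⟨hp⟩
    obtain ⟨S, -, -, -, hS⟩ := h.sylow_le hg hd
    refine S.not_dvd_index ((?_ : p ∣ (Subgroup.centralizer {g}).index).trans (Subgroup.index_dvd_of_le hS))
    have e : (Subgroup.centralizer {g}).index = q ^ 2 * (q - 1) * (M / Nat.card (Subgroup.centralizer {g})) := by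
      have := (Subgroup.centralizer {g}).card_mul_index
      rw [h.card_G', show Fintype.card F ^ 2 * (Fintype.card F ^ 2 + 1) * (Fintype.card F - 1) = q ^ 2 * M * (q - 1) from rfl, show q ^ 2 * M * (q - 1) = Nat.card (Subgroup.centralizer {g}) *
        (q ^ 2 * (q - 1) * (M / Nat.card (Subgroup.centralizer {g}))) by
          conv_lhs => rw [← Nat.div_mul_cancel (show Nat.card (Subgroup.centralizer {g}) ∣ M from h.cent_dvd hg)]
          ring] at this
      exact Nat.eq_of_mul_eq_mul_left (by have := hMdiv _ (h.cent_dvd hg); exact Nat.card_pos) this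
    rw [e]; exact dvd_mul_of_dvd_right hpd _
  have disj : ∀ g g' : Cfsg.Sz F m, Fpf g → Fpf g' →
      Nat.card (Subgroup.centralizer {g}) ≠ Nat.card (Subgroup.centralizer {g'}) →
      Nat.Coprime (Nat.card (Subgroup.centralizer {g})) (Nat.card (Subgroup.centralizer {g'})) ∧
      Disjoint (torusUnion (Subgroup.centralizer {g})) (torusUnion (Subgroup.centralizer {g'})) := by
    intro g g' hg hg' hne
    refine ⟨(h.coprime_or_conj hg hg').resolve_right fun ⟨c, hc⟩ => hne (by rw [hc, card_cj]), ?_⟩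
    rw [Set.disjoint_left]
    rintro u ⟨hu1, c, hc⟩ ⟨-, c', hc'⟩
    exact hne (by rw [← card_cj c, ← (h.union_facts hg hu1 hc).2, (h.union_facts hg' hu1 hc').2, card_cj])
  have sub : ∀ g : Cfsg.Sz F m, Fpf g → torusUnion (Subgroup.centralizer {g}) ⊆ {u | Fpf u} := by
    rintro g hg u ⟨hu1, c, hc⟩
    exact (h.union_facts hg hu1 hc).1
  set U := Nat.card {g : Cfsg.Sz F m // Fpf g} with hUdef
  have hU : 2 * (U : ℤ) = (q : ℤ) ^ 3 * ((q : ℤ) - 1) ^ 2 := h.fpf_count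
  have hUset : ({u : Cfsg.Sz F m | Fpf u}).ncard = U := (Nat.card_coe_set_eq _).symm
  have hMz : (M : ℤ) = (q : ℤ) ^ 2 + 1 := by rw [hMdef]; push_cast; ring
  have hqz : ((q - 1 : ℕ) : ℤ) = (q : ℤ) - 1 := by omega
  -- first torus
  obtain ⟨p₁, hp₁, hp₁M⟩ := Nat.exists_prime_and_dvd (show M ≠ 1 by rw [hMdef]; nlinarith)
  obtain ⟨g₁, -, hg₁⟩ := h.exists_fpf_of_dvd hp₁ hp₁M
  obtain ⟨n₁, e₁, k₁, hk₁, hk₁5, hk₁M, he₁, hN₁, hU₁, hn₁⟩ := one g₁ hg₁
  have hk₁ne : k₁ ≠ M := by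
    intro e
    have hcov : {u : Cfsg.Sz F m | Fpf u} ⊆ torusUnion (Subgroup.centralizer {g₁}) := by
      intro u hu
      rcases h.coprime_or_conj hg₁ hu with hcop | ⟨c, hc⟩
      · exfalso
        rw [← hk₁, e] at hcop
        have := hcop.symm.eq_one_of_dvd (h.cent_dvd hu)
        exact h.fpf_ne_one hu (Subgroup.mem_bot.mp (Subgroup.eq_bot_of_card_eq _ this ▸
          (Subgroup.mem_centralizer_singleton_iff.mpr rfl : u ∈ Subgroup.centralizer {u})))
      · exact ⟨h.fpf_ne_one hu, c, hc ▸ Subgroup.mem_centralizer_singleton_iff.mpr rfl⟩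
    have heq : U = n₁ * (k₁ - 1) := by
      rw [← hUset, ← hU₁, Nat.card_coe_set_eq]
      exact le_antisymm (Set.ncard_le_ncard hcov (Set.toFinite _)) (Set.ncard_le_ncard (sub g₁ hg₁) (Set.toFinite _))
    rw [e, show M - 1 = q ^ 2 by omega] at heq
    rw [e] at hn₁
    have hn' : n₁ * e₁ = q ^ 2 * (q - 1) := Nat.eq_of_mul_eq_mul_right (by omega : 0 < M) hn₁
    have hn'z : (n₁ : ℤ) * e₁ = (q : ℤ) ^ 2 * ((q : ℤ) - 1) := by
      rw [← hqz]; exact_mod_cast hn'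
    rw [heq] at hU
    push_cast at hU
    have hqpos : (0 : ℤ) < (q : ℤ) ^ 3 * ((q : ℤ) - 1) := by
      have : (8 : ℤ) ≤ q := by exact_mod_cast hq8
      have : (0 : ℤ) < (q : ℤ) - 1 := by omega
      positivity
    have key : 2 * (q : ℤ) = e₁ * ((q : ℤ) - 1) := mul_left_cancel₀ hqpos.ne' (by
      linear_combination (e₁ : ℤ) * hU - 2 * (q : ℤ) ^ 2 * hn'z)
    have : (8 : ℤ) ≤ q := by exact_mod_cast hq8
    rcases he₁ with rfl | rfl | rfl <;> push_cast at key <;> omega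
  obtain ⟨g₂, p, hg₂, hp, hpd, hp₂⟩ := next_ k₁ hk₁M hk₁ne
  have hpk₁ : ¬ p ∣ k₁ := hk₁ ▸ ndvd g₁ hg₁ p hp (hk₁ ▸ hpd)
  obtain ⟨n₂, e₂, k₂, hk₂, hk₂5, hk₂M, he₂, hN₂, hU₂, hn₂⟩ := one g₂ hg₂
  have h12 : k₁ ≠ k₂ := fun e => hpk₁ (by rw [e, hk₂]; exact hp₂)
  obtain ⟨hcop, hdisj⟩ := disj g₁ g₂ hg₁ hg₂ (by rw [← hk₁, ← hk₂]; exact h12)
  have hM12 : k₁ * k₂ = M := by
    by_contra hne
    obtain ⟨g₃, r, hg₃, hr, hrd, hr₃⟩ := next_ (k₁ * k₂)
      ((hk₁ ▸ hk₂ ▸ hcop : Nat.Coprime k₁ k₂).mul_dvd_of_dvd_of_dvd hk₁M hk₂M) hne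
    obtain ⟨n₃, e₃, k₃, hk₃, hk₃5, hk₃M, he₃, -, hU₃, hn₃⟩ := one g₃ hg₃
    have hdd := (hk₁ ▸ hk₂ ▸ hcop : Nat.Coprime k₁ k₂).mul_dvd_of_dvd_of_dvd hk₁M hk₂M
    have hdiv : ∀ a b : ℕ, a * b ∣ M → M / (a * b) ∣ M / a := fun a b hab => by
      obtain ⟨t, ht⟩ := hab
      rcases Nat.eq_zero_or_pos (a * b) with e0 | e0
      · rw [e0, zero_mul] at ht; omega
      have ha : 0 < a := Nat.pos_of_mul_pos_right e0
      rw [ht, Nat.mul_div_cancel_left _ e0, mul_assoc, Nat.mul_div_cancel_left _ ha]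
      exact dvd_mul_left _ _
    have h13 : k₁ ≠ k₃ := fun e => ndvd g₁ hg₁ r hr (hk₁ ▸ hrd.trans (hdiv k₁ k₂ hdd)) (by rw [← hk₁, e, hk₃]; exact hr₃)
    have h23 : k₂ ≠ k₃ := fun e => ndvd g₂ hg₂ r hr (hk₂ ▸ (mul_comm k₁ k₂ ▸ hrd).trans (hdiv k₂ k₁ (mul_comm k₁ k₂ ▸ hdd))) (by rw [← hk₂, e, hk₃]; exact hr₃)
    obtain ⟨-, d13⟩ := disj g₁ g₃ hg₁ hg₃ (by rw [← hk₁, ← hk₃]; exact h13)
    obtain ⟨-, d23⟩ := disj g₂ g₃ hg₂ hg₃ (by rw [← hk₂, ← hk₃]; exact h23)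
    have hle : n₁ * (k₁ - 1) + n₂ * (k₂ - 1) + n₃ * (k₃ - 1) ≤ U := by
      rw [← hU₁, ← hU₂, ← hU₃, ← hUset, Nat.card_coe_set_eq, Nat.card_coe_set_eq, Nat.card_coe_set_eq,
        ← Set.ncard_union_eq hdisj (Set.toFinite _) (Set.toFinite _),
        ← Set.ncard_union_eq (Set.disjoint_union_left.mpr ⟨d13, d23⟩) (Set.toFinite _) (Set.toFinite _)]
      exact Set.ncard_le_ncard (Set.union_subset (Set.union_subset (sub _ hg₁) (sub _ hg₂)) (sub _ hg₃)) (Set.toFinite _)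
    set G0 := q ^ 2 * (q - 1) * M with hG0
    have lb : ∀ n e k : ℕ, 5 ≤ k → (e = 1 ∨ e = 2 ∨ e = 4) → n * e * k = G0 → G0 ≤ 5 * (n * (k - 1)) := by
      intro n e k hk he hn
      obtain ⟨j, rfl⟩ : ∃ j, k = j + 5 := ⟨k - 5, by omega⟩
      rw [show j + 5 - 1 = j + 4 by omega, ← hn]
      rcases he with rfl | rfl | rfl <;> nlinarith only
    have l1 := lb _ _ _ hk₁5 he₁ hn₁
    have l2 := lb _ _ _ hk₂5 he₂ hn₂
    have l3 := lb _ _ _ hk₃5 he₃ hn₃
    have hG0z : (G0 : ℤ) = (q : ℤ) ^ 2 * ((q : ℤ) - 1) * ((q : ℤ) ^ 2 + 1) := by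
      rw [hG0]; push_cast; rw [hqz, hMz]
    have h5 : (3 * G0 : ℤ) ≤ 5 * U := by
      have : 3 * G0 ≤ 5 * U := by omega
      exact_mod_cast this
    have hbound : (q : ℤ) ^ 3 * ((q : ℤ) - 1) ^ 2 < G0 := by
      rw [hG0z]
      have h8 : (8 : ℤ) ≤ q := by exact_mod_cast hq8
      have hp' : (0 : ℤ) < (q : ℤ) ^ 2 * ((q : ℤ) - 1) * ((q : ℤ) + 1) := by
        have : (0 : ℤ) < (q : ℤ) - 1 := by omega
        positivity
      nlinarith
    have hG0pos : (0 : ℤ) ≤ G0 := Nat.cast_nonneg _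
    linarith
  have hcov : ∀ u : Cfsg.Sz F m, Fpf u → ∃ c, Subgroup.centralizer {u} = cj c (Subgroup.centralizer {g₁}) ∨
      Subgroup.centralizer {u} = cj c (Subgroup.centralizer {g₂}) := by
    intro u hu
    rcases h.coprime_or_conj hg₁ hu with c1 | ⟨c, hc⟩
    · rcases h.coprime_or_conj hg₂ hu with c2 | ⟨c, hc⟩
      · exfalso
        have hcm := c1.mul_left c2
        rw [← hk₁, ← hk₂, hM12] at hcm
        have := hcm.symm.eq_one_of_dvd (h.cent_dvd hu)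
        exact h.fpf_ne_one hu (Subgroup.mem_bot.mp (Subgroup.eq_bot_of_card_eq _ this ▸
          (Subgroup.mem_centralizer_singleton_iff.mpr rfl : u ∈ Subgroup.centralizer {u})))
      · exact ⟨c, Or.inr hc⟩
    · exact ⟨c, Or.inl hc⟩
  have heq : U = n₁ * (k₁ - 1) + n₂ * (k₂ - 1) := by
    rw [← hU₁, ← hU₂, ← hUset, Nat.card_coe_set_eq, Nat.card_coe_set_eq,
      ← Set.ncard_union_eq hdisj (Set.toFinite _) (Set.toFinite _)]
    congr 1
    refine Set.Subset.antisymm ?_ (Set.union_subset (sub _ hg₁) (sub _ hg₂))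
    intro u hu
    obtain ⟨c, hc | hc⟩ := hcov u hu
    · exact Or.inl ⟨h.fpf_ne_one hu, c, hc ▸ Subgroup.mem_centralizer_singleton_iff.mpr rfl⟩
    · exact Or.inr ⟨h.fpf_ne_one hu, c, hc ▸ Subgroup.mem_centralizer_singleton_iff.mpr rfl⟩
  -- arithmetic
  have hk1 : (1 : ℕ) ≤ k₁ := by omega
  have hk2 : (1 : ℕ) ≤ k₂ := by omega
  have Hn₁ : (n₁ : ℤ) * e₁ = (q : ℤ) ^ 2 * ((q : ℤ) - 1) * k₂ := by
    have : n₁ * e₁ * k₁ = q ^ 2 * (q - 1) * k₂ * k₁ := by rw [hn₁, ← hM12]; ring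
    have := Nat.eq_of_mul_eq_mul_right (by omega : 0 < k₁) this
    rw [← hqz]; exact_mod_cast this
  have Hn₂ : (n₂ : ℤ) * e₂ = (q : ℤ) ^ 2 * ((q : ℤ) - 1) * k₁ := by
    have : n₂ * e₂ * k₂ = q ^ 2 * (q - 1) * k₁ * k₂ := by rw [hn₂, ← hM12]; ring
    have := Nat.eq_of_mul_eq_mul_right (by omega : 0 < k₂) this
    rw [← hqz]; exact_mod_cast this
  rw [heq] at hU
  push_cast [Nat.cast_sub hk1, Nat.cast_sub hk2] at hU
  have h8 : (8 : ℤ) ≤ q := by exact_mod_cast hq8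
  have hpos : (0 : ℤ) < (q : ℤ) ^ 2 * ((q : ℤ) - 1) := by
    have : (0 : ℤ) < (q : ℤ) - 1 := by omega
    positivity
  have key : 2 * ((e₂ : ℤ) * (((k₁ : ℤ) - 1) * k₂) + (e₁ : ℤ) * (((k₂ : ℤ) - 1) * k₁)) =
      (e₁ : ℤ) * e₂ * ((q : ℤ) * ((q : ℤ) - 1)) := mul_left_cancel₀ hpos.ne' (by
    linear_combination (e₁ : ℤ) * (e₂ : ℤ) * hU - 2 * (e₂ : ℤ) * ((k₁ : ℤ) - 1) * Hn₁ - 2 * (e₁ : ℤ) * ((k₂ : ℤ) - 1) * Hn₂)
  have hk12 : (k₁ : ℤ) * k₂ = (q : ℤ) ^ 2 + 1 := by rw [← hMz, ← hM12]; push_cast; ring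
  have a1 : (4 : ℤ) * ((q : ℤ) ^ 2 + 1) ≤ 5 * (((k₁ : ℤ) - 1) * k₂) := by
    have : (5 : ℤ) ≤ k₁ := by exact_mod_cast hk₁5
    nlinarith
  have a2 : (4 : ℤ) * ((q : ℤ) ^ 2 + 1) ≤ 5 * (((k₂ : ℤ) - 1) * k₁) := by
    have : (5 : ℤ) ≤ k₂ := by exact_mod_cast hk₂5
    nlinarith
  have he44 : e₁ = 4 ∧ e₂ = 4 := by
    rcases he₁ with rfl | rfl | rfl <;> rcases he₂ with rfl | rfl | rfl <;> push_cast at key <;>
      first
        | exact ⟨rfl, rfl⟩
        | (exfalso; nlinarith)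
  obtain ⟨rfl, rfl⟩ := he44
  push_cast at key
  have hsum : (k₁ : ℤ) + k₂ = 2 * q + 2 := by nlinarith
  have hr : ((2 ^ (m + 1) : ℕ) : ℤ) ^ 2 = 2 * q := by
    rw [hqdef, h.card]; push_cast; ring
  have hfac : ((k₁ : ℤ) - q - 1 - (2 ^ (m + 1) : ℕ)) * ((k₁ : ℤ) - q - 1 + (2 ^ (m + 1) : ℕ)) = 0 := by
    linear_combination -(1 : ℤ) * hk12 + (k₁ : ℤ) * hsum - hr
  have hrq : 2 ^ (m + 1) ≤ q := by
    rw [hqdef, h.card]; exact Nat.pow_le_pow_right (by norm_num) (by omega)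
  rw [← h.card, ← hqdef]
  rcases mul_eq_zero.mp hfac with e | e
  · exact ⟨g₁, g₂, hg₁, hg₂, by omega, by omega, hk₁ ▸ hN₁, hk₂ ▸ hN₂, hcov⟩
  · exact ⟨g₂, g₁, hg₂, hg₁, by omega, by omega, hk₂ ▸ hN₂, hk₁ ▸ hN₁,
      fun u hu => (hcov u hu).imp fun c hc => hc.symm⟩

end Hyp

end CfsgLib.Suzuki
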