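import Cfsg.Agent.Lib.Suzuki.Structure

/-! Centralisers in the Suzuki groups. (helper4) -/

set_option autoImplicit false

namespace CfsgLib.Suzuki

open Cfsg Matrix
open scoped Pointwise

variable {F : Type*} [Field F] [Fintype F] {m : ℕ}

/-- no fixed point on the ovoid. -/
def Fpf (g : Cfsg.Sz F m) : Prop := ∀ p : suzukiOvoid F m, g • p ≠ p

/-- the point `(0,0,0,1)` in the ovoid. -/
def o0 (F : Type*) [Field F] (m : ℕ) : suzukiOvoid F m := ⟨P m 0 0, P_mem m 0 0⟩

theorem centralizer_conj {G : Type*} [Group G] (g k : G) :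
    Subgroup.centralizer {k * g * k⁻¹} = (Subgroup.centralizer {g}).map (MulAut.conj k).toMonoidHom := by
  ext x
  simp only [Subgroup.mem_map, Subgroup.mem_centralizer_singleton_iff]
  constructor
  · intro hx
    refine ⟨k⁻¹ * x * k, ?_, by simp [mul_assoc]⟩
    calc k⁻¹ * x * k * g = k⁻¹ * (x * (k * g * k⁻¹)) * k := by group
      _ = k⁻¹ * (k * g * k⁻¹ * x) * k := by rw [hx]
      _ = g * (k⁻¹ * x * k) := by group
  · rintro ⟨y, hy, rfl⟩
    show k * y * k⁻¹ * (k * g * k⁻¹) = k * g * k⁻¹ * (k * y * k⁻¹)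
    calc k * y * k⁻¹ * (k * g * k⁻¹) = k * (y * g) * k⁻¹ := by group
      _ = _ := by rw [hy]; group

namespace Hyp

variable (h : Hyp F m)
include h

theorem oI_ne_o0 : oI F m ≠ o0 F m := fun e => P_ne_I m _ _ (congrArg Subtype.val e).symm

theorem tG_oI (a b : F) : h.tG a b • oI F m = oI F m := Subtype.ext (tS_I a b)

theorem hG_oI (d : Fˣ) : h.hG d • oI F m = oI F m := Subtype.ext (hS_I d)

theorem hG_o0 (d : Fˣ) : h.hG d • o0 F m = o0 F m := Subtype.ext (by
  show hS m d • P m (0 : F) 0 = P m 0 0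
  rw [h.hS_P]; simp)

theorem tG_fix {a b : F} {p : suzukiOvoid F m} (hne : h.tG a b ≠ 1) (e : h.tG a b • p = p) : p = oI F m := by
  rcases mem_ovoid.mp p.2 with hp | ⟨x, y, hp⟩
  · exact Subtype.ext hp
  · exfalso
    have e' : tS m a b • P m x y = P m x y := by rw [← hp]; exact congrArg Subtype.val e
    rw [h.tS_P] at e'
    obtain ⟨ea, eb⟩ := P_inj e'
    obtain rfl : a = 0 := by linear_combination ea
    obtain rfl : b = 0 := by simpa [sg_zero] using eb
    exact hne h.tG_zero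

theorem hG_fix {d : Fˣ} {p : suzukiOvoid F m} (hd : d ≠ 1) (e : h.hG d • p = p) : p = oI F m ∨ p = o0 F m := by
  rcases mem_ovoid.mp p.2 with hp | ⟨x, y, hp⟩
  · exact Or.inl (Subtype.ext hp)
  · by_cases hxy : x = 0 ∧ y = 0
    · exact Or.inr (Subtype.ext (by rw [hp, hxy.1, hxy.2]; rfl))
    · have e' : hS m d • P m x y = P m x y := by rw [← hp]; exact congrArg Subtype.val e
      exact absurd (h.hS_fix (not_and_or.mp hxy) e') hd

theorem exists_th {g : Cfsg.Sz F m} (e : g • oI F m = oI F m) : ∃ a b d, g = h.tG a b * h.hG d := by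
  obtain ⟨a, b, d, hd⟩ := h.fixI g.2 (congrArg Subtype.val e)
  exact ⟨a, b, d, Subtype.ext hd⟩

theorem eq_one_of_comm {d : Fˣ} (hd : d ≠ 1) {a b : F} (e : h.hG d * h.tG a b = h.tG a b * h.hG d) :
    h.tG a b = 1 := by
  rw [h.hG_tG] at e
  obtain ⟨ea, eb⟩ := h.tG_inj (mul_right_cancel e)
  have hd' : (d : F) ≠ 1 := fun e' => hd (Units.ext e')
  obtain rfl : a = 0 := by
    rcases mul_eq_zero.mp (show ((d : F) - 1) * a = 0 by linear_combination ea) with e0 | e0
    · exact absurd (sub_eq_zero.mp e0) hd'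
    · exact e0
  obtain rfl : b = 0 := by
    rcases mul_eq_zero.mp (show ((d : F) * sg m (d : F) - 1) * b = 0 by linear_combination eb) with e0 | e0
    · exact absurd (h.mul_sg_eq_one (sub_eq_zero.mp e0)) hd'
    · exact e0
  exact h.tG_zero

theorem conj_to_H {d : Fˣ} (hd : d ≠ 1) (a b : F) :
    ∃ t : Cfsg.Sz F m, t • oI F m = oI F m ∧ h.tG a b * h.hG d = t * h.hG d * t⁻¹ := by
  let f : F × F → F × F := fun z =>
    (z.1 + (d : F) * z.1,
      z.2 + ((d : F) * sg m (d : F) * (z.2 + sg m z.1 * z.1)) + sg m z.1 * ((d : F) * z.1))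
  have hf : ∀ z : F × F, h.tG z.1 z.2 * h.hG d * (h.tG z.1 z.2)⁻¹ = h.tG (f z).1 (f z).2 * h.hG d := fun z => by
    rw [h.tG_inv, mul_assoc, h.hG_tG, ← mul_assoc, h.tG_mul]
  have hinj : Function.Injective f := by
    intro z z' e
    have e1 : h.tG z.1 z.2 * h.hG d * (h.tG z.1 z.2)⁻¹ = h.tG z'.1 z'.2 * h.hG d * (h.tG z'.1 z'.2)⁻¹ := by
      rw [hf, hf, e]
    obtain ⟨c, c', ec⟩ : ∃ c c', (h.tG z'.1 z'.2)⁻¹ * h.tG z.1 z.2 = h.tG c c' :=
      ⟨_, _, by rw [h.tG_inv, h.tG_mul]⟩
    have e2 : h.hG d * h.tG c c' = h.tG c c' * h.hG d := by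
      rw [← ec]
      calc h.hG d * ((h.tG z'.1 z'.2)⁻¹ * h.tG z.1 z.2)
          = (h.tG z'.1 z'.2)⁻¹ * (h.tG z'.1 z'.2 * h.hG d * (h.tG z'.1 z'.2)⁻¹) * h.tG z.1 z.2 := by group
        _ = _ := by rw [← e1]; group
    have e3 := h.eq_one_of_comm hd e2
    rw [← ec, inv_mul_eq_one] at e3
    obtain ⟨ea, eb⟩ := h.tG_inj e3
    exact Prod.ext ea.symm eb.symm
  obtain ⟨z, hz⟩ := Finite.injective_iff_surjective.mp hinj (a, b)
  exact ⟨h.tG z.1 z.2, h.tG_oI _ _, by rw [hf, hz]⟩

theorem cent_hG {d : Fˣ} (hd : d ≠ 1) : Subgroup.centralizer {h.hG d} = h.hG.range := by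
  ext c
  rw [Subgroup.mem_centralizer_singleton_iff, MonoidHom.mem_range]
  constructor
  · intro hc
    have hfix : ∀ p : suzukiOvoid F m, h.hG d • p = p → h.hG d • (c • p) = c • p := fun p e => by
      rw [← mul_smul, ← hc, mul_smul, e]
    have two : ∀ k : Cfsg.Sz F m, k • oI F m = oI F m → k • o0 F m = o0 F m → ∃ e, h.hG e = k := fun k k1 k2 => by
      obtain ⟨e, he⟩ := h.fix_two k.2 (congrArg Subtype.val k1) (congrArg Subtype.val k2)
      exact ⟨e, Subtype.ext he.symm⟩
    rcases h.hG_fix hd (hfix _ (h.hG_oI d)) with eI | e0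
    · rcases h.hG_fix hd (hfix _ (h.hG_o0 d)) with e' | e'
      · exact absurd (MulAction.injective c (eI.trans e'.symm)) h.oI_ne_o0
      · exact two c eI e'
    · exfalso
      have w0 : h.wG • o0 F m = oI F m := Subtype.ext wS_P0
      have wI : h.wG • oI F m = o0 F m := Subtype.ext (wS_I (m := m))
      rcases h.hG_fix hd (hfix _ (h.hG_o0 d)) with e' | e'
      swap
      · exact absurd (MulAction.injective c (e0.trans e'.symm)) h.oI_ne_o0
      obtain ⟨e, he⟩ := two (h.wG * c) (by rw [mul_smul, e0, w0]) (by rw [mul_smul, e', wI])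
      have hc2 : c = h.wG * h.hG e := by rw [he, ← mul_assoc, h.wG_wG, one_mul]
      have e1 : h.hG d = h.hG d⁻¹ := by
        rw [← h.wG_hG]
        calc h.hG d = (h.hG d * c) * c⁻¹ := by group
          _ = h.wG * (h.hG e * h.hG d * (h.hG e)⁻¹) * h.wG := by
            rw [← hc, hc2, _root_.mul_inv_rev, inv_eq_of_mul_eq_one_right h.wG_wG]; group
          _ = _ := by rw [← map_inv, ← map_mul, ← map_mul, mul_right_comm e d e⁻¹, mul_inv_cancel, one_mul]
      have e3 := congrArg (fun u : Fˣ => u * d) (h.hG_inj e1)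
      simp only [inv_mul_cancel] at e3
      have e2 : (d : F) ^ 2 = 1 ^ 2 := by
        have := congrArg Units.val e3
        rw [Units.val_mul, Units.val_one] at this
        linear_combination this
      exact hd (Units.ext (h.sq_inj e2))
  · rintro ⟨e, rfl⟩
    rw [← map_mul, ← map_mul, mul_comm]

theorem cent_tG {a b : F} (hne : h.tG a b ≠ 1) : Subgroup.centralizer {h.tG a b} ≤ h.Q := by
  intro c hc
  rw [Subgroup.mem_centralizer_singleton_iff] at hc
  have hcI : c • oI F m = oI F m := h.tG_fix hne (by rw [← mul_smul, ← hc, mul_smul, h.tG_oI])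
  obtain ⟨a', b', d, rfl⟩ := h.exists_th hcI
  by_cases hd : d = 1
  · exact ⟨a', b', by rw [hd, map_one, mul_one]⟩
  exfalso
  obtain ⟨t, ht, et⟩ := h.conj_to_H hd a' b'
  have hs : t⁻¹ * h.tG a b * t ∈ Subgroup.centralizer {h.hG d} := by
    rw [Subgroup.mem_centralizer_singleton_iff]
    rw [et] at hc
    calc t⁻¹ * h.tG a b * t * h.hG d = t⁻¹ * (h.tG a b * (t * h.hG d * t⁻¹)) * t := by group
      _ = t⁻¹ * ((t * h.hG d * t⁻¹) * h.tG a b) * t := by rw [hc]
      _ = _ := by group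
  rw [h.cent_hG hd] at hs
  obtain ⟨e, he⟩ := hs
  have e0 : h.hG e • o0 F m = o0 F m := h.hG_o0 e
  rw [he, mul_smul, mul_smul, inv_smul_eq_iff] at e0
  have := h.tG_fix hne e0
  exact h.oI_ne_o0 ((MulAction.injective t (this.trans ht.symm))).symm

/-- every non-identity element with a fixed point has one of two types. -/
theorem classify {g : Cfsg.Sz F m} (hg : g ≠ 1) {p : suzukiOvoid F m} (e : g • p = p) :
    ∃ k : Cfsg.Sz F m, k • oI F m = p ∧
      ((∃ a b, h.tG a b ≠ 1 ∧ g = k * h.tG a b * k⁻¹) ∨ ∃ d : Fˣ, d ≠ 1 ∧ g = k * h.hG d * k⁻¹) := by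
  obtain ⟨k, hk, ek⟩ := h.trans_to p.2
  set k' : Cfsg.Sz F m := ⟨k, hk⟩
  have ekI : k' • oI F m = p := Subtype.ext ek
  obtain ⟨a, b, d, hd⟩ := h.exists_th (g := k'⁻¹ * g * k') (by rw [mul_smul, ekI, mul_smul, e, inv_smul_eq_iff, ekI])
  have hgg : g = k' * (h.tG a b * h.hG d) * k'⁻¹ := by rw [← hd]; group
  by_cases hd1 : d = 1
  · subst hd1
    rw [map_one, mul_one] at hgg
    refine ⟨k', ekI, Or.inl ⟨a, b, fun e1 => hg ?_, hgg⟩⟩
    rw [hgg, e1]; group
  · obtain ⟨t, ht, et⟩ := h.conj_to_H hd1 a b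
    refine ⟨k' * t, by rw [mul_smul, ht, ekI], Or.inr ⟨d, hd1, ?_⟩⟩
    rw [hgg, et]; group

theorem cent_fix {g : Cfsg.Sz F m} (hg : g ≠ 1) {p : suzukiOvoid F m} (e : g • p = p) :
    Group.IsNilpotent (Subgroup.centralizer {g}) ∧ ∀ c ∈ Subgroup.centralizer {g}, c • p = p := by
  obtain ⟨k, hk, ⟨a, b, hne, rfl⟩ | ⟨d, hd, rfl⟩⟩ := h.classify hg e
  · rw [centralizer_conj]
    have hle := h.cent_tG hne
    constructor
    · have : Fact (Nat.Prime 2) := ⟨Nat.prime_two⟩
      have := ((h.isPGroup_Q.to_le hle).map (MulAut.conj k).toMonoidHom).isNilpotent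
      exact this
    · rintro _ ⟨c, hc, rfl⟩
      obtain ⟨a', b', rfl⟩ := hle hc
      show (k * h.tG a' b' * k⁻¹) • p = p
      rw [← hk, mul_smul, mul_smul, inv_smul_smul, h.tG_oI]
  · rw [centralizer_conj, h.cent_hG hd]
    constructor
    · have : Group.IsNilpotent h.hG.range := Group.nilpotent_of_surjective h.hG.rangeRestrict h.hG.rangeRestrict_surjective
      apply Group.nilpotent_of_mulEquiv (Subgroup.equivMapOfInjective _ (MulAut.conj k).toMonoidHom (MulAut.conj k).injective)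
    · rintro _ ⟨c, ⟨d', rfl⟩, rfl⟩
      show (k * h.hG d' * k⁻¹) • p = p
      rw [← hk, mul_smul, mul_smul, inv_smul_smul, h.hG_oI]

theorem fpf_of_pow {g : Cfsg.Sz F m} (hg : Fpf g) {n : ℕ} (hn : g ^ n ≠ 1) : Fpf (g ^ n) := fun p e =>
  hg p ((h.cent_fix hn e).2 g (Subgroup.mem_centralizer_singleton_iff.mpr (pow_mul_comm' g n).symm))

theorem q_eq : Fintype.card F = 2 ^ (2 * m + 1) := h.card

theorem card_G' : Nat.card (Cfsg.Sz F m) =
    Fintype.card F ^ 2 * (Fintype.card F ^ 2 + 1) * (Fintype.card F - 1) := by rw [h.card_Sz, h.card]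

theorem card_range : Nat.card h.hG.range = Fintype.card F - 1 := by
  rw [← Nat.card_congr (MonoidHom.ofInjective (f := h.hG) (fun _ _ e => h.hG_inj e)).toEquiv, Nat.card_units,
    Nat.card_eq_fintype_card]

theorem prime_of_fpf {x : Cfsg.Sz F m} {p : ℕ} (hp : p.Prime) (hx : orderOf x = p) (hf : Fpf x) :
    p ∣ Fintype.card F ^ 2 + 1 ∧ p ≠ 2 ∧ ¬ p ∣ Fintype.card F - 1 := by
  have : Fact p.Prime := ⟨hp⟩
  have hzp : IsPGroup p (Subgroup.zpowers x) := IsPGroup.of_card (n := 1) (by rw [Nat.card_zpowers, hx, pow_one])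
  obtain ⟨S, hS⟩ := hzp.exists_le_sylow
  have hxS : x ∈ (S : Subgroup (Cfsg.Sz F m)) := hS (Subgroup.mem_zpowers x)
  have hp2 : p ≠ 2 := by
    rintro rfl
    obtain ⟨g, hg⟩ := h.sylow_two_conj S
    rw [hg] at hxS
    obtain ⟨_, ⟨a, b, rfl⟩, rfl⟩ := hxS
    exact hf (g • oI F m) (by
      show (g * h.tG a b * g⁻¹) • (g • oI F m) = g • oI F m
      rw [mul_smul, mul_smul, inv_smul_smul, h.tG_oI])
  have hq : ¬ p ∣ Fintype.card F := fun hd => hp2 ((Nat.prime_dvd_prime_iff_eq hp Nat.prime_two).mp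
    (hp.dvd_of_dvd_pow (h.card ▸ hd)))
  have hq1 : ¬ p ∣ Fintype.card F - 1 := by
    intro hd
    obtain ⟨R⟩ : Nonempty (Sylow p h.hG.range) := inferInstance
    have hidx : ¬ p ∣ ((R : Subgroup h.hG.range).map h.hG.range.subtype).index := by
      rw [Subgroup.index_map_subtype]
      refine (Nat.Prime.not_dvd_mul hp) R.not_dvd_index ?_
      have hc := h.hG.range.card_mul_index
      rw [h.card_range, h.card_G', mul_comm] at hc
      rw [Nat.eq_of_mul_eq_mul_right (show 0 < Fintype.card F - 1 by have := h.three_le_q; omega) hc]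
      refine Nat.Prime.not_dvd_mul hp (fun e => hq (hp.dvd_of_dvd_pow e)) fun e => hp2 ?_
      have h1 : Fintype.card F ^ 2 + 1 = (Fintype.card F + 1) * (Fintype.card F - 1) + 2 := by
        obtain ⟨t, ht⟩ : ∃ t, Fintype.card F = t + 1 := ⟨Fintype.card F - 1, by have := h.three_le_q; omega⟩
        rw [ht, Nat.add_sub_cancel]; ring
      rw [h1] at e
      exact (Nat.prime_dvd_prime_iff_eq hp Nat.prime_two).mp ((Nat.dvd_add_right (dvd_mul_of_dvd_right hd _)).mp e)
    have hRp : IsPGroup p ↥((R : Subgroup h.hG.range).map h.hG.range.subtype) := R.2.map _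
    obtain ⟨g, hg⟩ := MulAction.exists_smul_eq (Cfsg.Sz F m) (hRp.toSylow hidx) S
    rw [← hg, Sylow.coe_subgroup_smul, IsPGroup.toSylow_coe] at hxS
    obtain ⟨_, ⟨⟨_, d, rfl⟩, -, rfl⟩, rfl⟩ := hxS
    exact hf (g • oI F m) (by
      show (g * h.hG d * g⁻¹) • (g • oI F m) = g • oI F m
      rw [mul_smul, mul_smul, inv_smul_smul, h.hG_oI])
  refine ⟨?_, hp2, hq1⟩
  have hd : p ∣ Nat.card (Cfsg.Sz F m) := hx ▸ orderOf_dvd_natCard x
  rw [h.card_G'] at hd
  rcases hp.dvd_mul.mp hd with e | e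
  · rcases hp.dvd_mul.mp e with e | e
    · exact absurd (hp.dvd_of_dvd_pow e) hq
    · exact e
  · exact absurd e hq1

theorem small_trivial {U : Type*} [AddCommGroup U] [Module F U] [Finite U] (hU : Module.finrank F U ≤ 3) {p : ℕ}
    (hp : p.Prime) (hp2 : p ≠ 2) (hpq : p ∣ Fintype.card F ^ 2 + 1) (T : Module.End F U) (hT : T ^ p = 1) : T = 1 := by
  classical
  have : Fact p.Prime := ⟨hp⟩
  have : Fintype U := Fintype.ofFinite U
  have : Module.Finite F U := Module.Finite.of_finite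
  have hinv : ∀ v, (T ^ (p - 1)) (T v) = v ∧ T ((T ^ (p - 1)) v) = v := fun v => by
    rw [← Module.End.mul_apply, ← Module.End.mul_apply, ← pow_succ, ← pow_succ', show p - 1 + 1 = p by have := hp.pos; omega, hT]
    exact ⟨rfl, rfl⟩
  let σ : Equiv.Perm U := ⟨T, ⇑(T ^ (p - 1)), fun v => (hinv v).1, fun v => (hinv v).2⟩
  have hσ : ∀ n v, (σ ^ n) v = (T ^ n) v := by
    intro n; induction n with
    | zero => intro v; rfl
    | succ n ih => intro v; rw [pow_succ', pow_succ', Equiv.Perm.mul_apply, ih]; rfl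
  have hmod := Equiv.Perm.card_compl_support_modEq (p := p) (n := 1) (σ := σ) (Equiv.ext fun v => by
    rw [pow_one, hσ, hT]; rfl)
  set W := LinearMap.ker (T - 1) with hW
  have hWc : (σ.supportᶜ).card = Nat.card W := by
    rw [← Nat.card_eq_finsetCard]
    exact Nat.card_congr (Equiv.subtypeEquivRight fun v => by
      simp [hW, LinearMap.mem_ker, sub_eq_zero]; rfl)
  rw [hWc, ← Nat.card_eq_fintype_card, Module.natCard_eq_pow_finrank (K := F) (V := W),
    Module.natCard_eq_pow_finrank (K := F) (V := U), Nat.card_eq_fintype_card] at hmod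
  have hle := W.finrank_le
  rcases eq_or_lt_of_le hle with e | hlt
  · have htop := Submodule.eq_top_of_finrank_eq e
    ext v
    have : v ∈ W := htop ▸ Submodule.mem_top
    simpa [hW, sub_eq_zero] using this
  exfalso
  have hz : ((Fintype.card F : ZMod p)) ^ 2 = -1 := by
    have := (ZMod.natCast_eq_zero_iff _ p).mpr hpq
    push_cast at this
    linear_combination this
  have hmod' : (Fintype.card F : ZMod p) ^ Module.finrank F W = (Fintype.card F : ZMod p) ^ Module.finrank F U := by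
    exact_mod_cast (ZMod.natCast_eq_natCast_iff _ _ _).mpr hmod
  set x : ZMod p := (Fintype.card F : ZMod p)
  have h2 : (2 : ZMod p) ≠ 0 := fun e => hp2 ((Nat.prime_dvd_prime_iff_eq hp Nat.prime_two).mp
    ((ZMod.natCast_eq_zero_iff 2 p).mp (by exact_mod_cast e)))
  have hx0 : x ≠ 0 := fun e => by rw [e] at hz; exact one_ne_zero (by linear_combination hz)
  obtain ⟨i, hi⟩ : ∃ i, Module.finrank F U = Module.finrank F W + i := ⟨_, (Nat.add_sub_cancel' hle).symm⟩
  rw [hi, pow_add] at hmod'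
  have hi1 : x ^ i = 1 := (mul_eq_left₀ (pow_ne_zero _ hx0)).mp hmod'.symm
  have : 1 ≤ i ∧ i ≤ 3 := by omega
  obtain ⟨i1, i3⟩ := this
  interval_cases i
  · rw [pow_one] at hi1; rw [hi1] at hz; exact h2 (by linear_combination hz)
  · rw [hz] at hi1; exact h2 (by linear_combination -hi1)
  · have e1 : x = -1 := by linear_combination (-1 : ZMod p) * hi1 + x * hz
    rw [e1] at hz; exact h2 (by linear_combination hz)

theorem irreducible {g : SpecialLinearGroup (Fin 4) F} (hg1 : g ≠ 1) {p : ℕ} (hp : p.Prime) (hp2 : p ≠ 2)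
    (hpq : p ∣ Fintype.card F ^ 2 + 1) (hgp : g ^ p = 1) (W : Submodule F (Fin 4 → F))
    (hW : ∀ v ∈ W, g.1 *ᵥ v ∈ W) : W = ⊥ ∨ W = ⊤ := by
  by_contra hc
  push Not at hc
  set T : Module.End F (Fin 4 → F) := Matrix.toLinAlgEquiv' g.1 with hT
  have hTv : ∀ v, T v = g.1 *ᵥ v := fun v => by simp [hT]
  have hTp : T ^ p = 1 := by
    have e : g.1 ^ p = 1 := by
      have := congrArg (fun k : SpecialLinearGroup (Fin 4) F => (k : Matrix (Fin 4) (Fin 4) F)) hgp
      simpa using this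
    rw [hT, ← map_pow, e, map_one]
  have hWT : ∀ v ∈ W, T v ∈ W := fun v hv => by rw [hTv]; exact hW v hv
  have h4 : Module.finrank F (Fin 4 → F) = 4 := by simp
  have hlt : Module.finrank F W < 4 := (Submodule.finrank_lt hc.2).trans_eq h4
  have hpos : 0 < Module.finrank F W := by
    rw [Nat.pos_iff_ne_zero]; exact fun e => hc.1 (Submodule.finrank_eq_zero.mp e)
  have hq' := W.finrank_quotient_add_finrank
  set T1 : Module.End F W := T.restrict hWT with hT1
  set T2 : Module.End F ((Fin 4 → F) ⧸ W) := W.mapQ W T hWT with hT2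
  have e1 : T1 = 1 := h.small_trivial (by omega) hp hp2 hpq T1 (by
    have : ∀ (n : ℕ) (w : W), ((T1 ^ n) w : Fin 4 → F) = (T ^ n) w := by
      intro n; induction n with
      | zero => intro w; rfl
      | succ n ih => intro w; rw [pow_succ', pow_succ', Module.End.mul_apply, Module.End.mul_apply, ← ih]; rfl
    ext w : 1
    exact Subtype.ext (by rw [this, hTp]; rfl))
  have e2 : T2 = 1 := h.small_trivial (by omega) hp hp2 hpq T2 (by
    have : ∀ (n : ℕ) (v : Fin 4 → F), (T2 ^ n) (Submodule.Quotient.mk v) = Submodule.Quotient.mk ((T ^ n) v) := by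
      intro n; induction n with
      | zero => intro v; rfl
      | succ n ih => intro v; rw [pow_succ', pow_succ', Module.End.mul_apply, Module.End.mul_apply, ih]; rfl
    refine LinearMap.ext fun z => ?_
    obtain ⟨v, rfl⟩ := Submodule.Quotient.mk_surjective W z
    rw [this, hTp]; rfl)
  have hsq : T ^ 2 = 1 := by
    refine LinearMap.ext fun v => ?_
    have hd : T v - v ∈ W := by
      have := congrArg (fun f : Module.End F _ => f (Submodule.Quotient.mk v)) e2
      exact (Submodule.Quotient.eq W).mp this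
    have := congrArg (fun f : Module.End F W => ((f ⟨_, hd⟩ : W) : Fin 4 → F)) e1
    change T (T v - v) = T v - v at this
    rw [map_sub] at this
    show T (T v) = v
    funext i
    have hi := congrFun this i
    simp only [Pi.sub_apply] at hi
    linear_combination hi + (T v i - v i) * h.two
  have hT1' : T = 1 := by
    have := pow_gcd_eq_one.mpr ⟨hsq, hTp⟩
    rwa [(Nat.coprime_primes Nat.prime_two hp).mpr (Ne.symm hp2), pow_one] at this
  exact hg1 (Subtype.ext ((Matrix.toLinAlgEquiv' (R := F) (n := Fin 4)).injective (by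
    show Matrix.toLinAlgEquiv' g.1 = Matrix.toLinAlgEquiv' (1 : Matrix (Fin 4) (Fin 4) F)
    rw [← hT, hT1', map_one])))

theorem domain_cent {x : Cfsg.Sz F m} {p : ℕ} (hp : p.Prime) (hx : orderOf x = p) (hf : Fpf x) :
    IsDomain (Subalgebra.centralizer F ({(x : SpecialLinearGroup (Fin 4) F).1} : Set (Matrix (Fin 4) (Fin 4) F))) ∧
      ∀ X Y : Subalgebra.centralizer F ({(x : SpecialLinearGroup (Fin 4) F).1} : Set (Matrix (Fin 4) (Fin 4) F)),
        X * Y = Y * X := by
  obtain ⟨hpq, hp2, -⟩ := h.prime_of_fpf hp hx hf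
  have hgp : (x : SpecialLinearGroup (Fin 4) F) ^ p = 1 := by
    rw [← Subgroup.coe_pow, ← hx, pow_orderOf_eq_one]; rfl
  have hg1 : (x : SpecialLinearGroup (Fin 4) F) ≠ 1 := fun e => by
    rw [show x = 1 from Subtype.ext e, orderOf_one] at hx; exact hp.ne_one hx.symm
  set A := Subalgebra.centralizer F ({(x : SpecialLinearGroup (Fin 4) F).1} : Set (Matrix (Fin 4) (Fin 4) F)) with hA
  have hker : ∀ X : A, X ≠ 0 → ∀ v, X.1 *ᵥ v = 0 → v = 0 := by
    intro X hX v hv
    have hcomm := (Subalgebra.mem_centralizer_iff F).mp X.2 _ (Set.mem_singleton _)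
    rcases h.irreducible hg1 hp hp2 hpq hgp (LinearMap.ker (Matrix.mulVecLin X.1)) (fun w hw => by
      simp only [LinearMap.mem_ker, Matrix.mulVecLin_apply] at hw ⊢
      rw [Matrix.mulVec_mulVec, ← hcomm, ← Matrix.mulVec_mulVec, hw, Matrix.mulVec_zero]) with e | e
    · have : v ∈ LinearMap.ker (Matrix.mulVecLin X.1) := by simpa using hv
      rwa [e, Submodule.mem_bot] at this
    · exfalso
      refine hX (Subtype.ext ?_)
      ext i j
      have := e ▸ (Submodule.mem_top : (Pi.single j 1 : Fin 4 → F) ∈ ⊤)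
      have := congrFun (LinearMap.mem_ker.mp this) i
      simpa using this
  have : Finite A := Subtype.finite
  have hnzd : NoZeroDivisors A := ⟨fun {X Y} e => by
    by_contra hc; push Not at hc
    refine hc.2 (Subtype.ext (Matrix.ext_of_mulVec_single fun j => ?_))
    have e' : X.1 * Y.1 = 0 := congrArg Subtype.val e
    have := hker X hc.1 (Y.1 *ᵥ Pi.single j 1) (by rw [Matrix.mulVec_mulVec, e', Matrix.zero_mulVec])
    rw [this]; funext i; simp⟩
  have : IsDomain A := NoZeroDivisors.to_isDomain A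
  exact ⟨inferInstance, (Finite.isDomain_to_isField A).mul_comm⟩

theorem cyclic_cent_prime {x : Cfsg.Sz F m} {p : ℕ} (hp : p.Prime) (hx : orderOf x = p) (hf : Fpf x) :
    IsCyclic (Subgroup.centralizer {x}) := by
  obtain ⟨hdom, hcomm⟩ := h.domain_cent hp hx hf
  set A := Subalgebra.centralizer F ({(x : SpecialLinearGroup (Fin 4) F).1} : Set (Matrix (Fin 4) (Fin 4) F)) with hA
  letI : CommRing A := { (inferInstance : Ring A) with mul_comm := hcomm }
  let f : Subgroup.centralizer {x} →* A :=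
    { toFun := fun c => ⟨(c : Cfsg.Sz F m).1.1, (Subalgebra.mem_centralizer_iff F).mpr fun z hz => by
        rw [Set.mem_singleton_iff] at hz; subst hz
        have := Subgroup.mem_centralizer_singleton_iff.mp c.2
        exact (congrArg (fun k : Cfsg.Sz F m => k.1.1) this).symm⟩
      map_one' := rfl
      map_mul' := fun a b => rfl }
  exact isCyclic_of_injective_ringHom f (fun a b e => by
    apply Subtype.ext; apply Subtype.ext; apply Subtype.ext
    exact congrArg (fun z : A => (z : Matrix (Fin 4) (Fin 4) F)) e)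

theorem exists_prime_pow {g : Cfsg.Sz F m} (hg1 : g ≠ 1) : ∃ n p : ℕ, p.Prime ∧ orderOf (g ^ n) = p ∧ g ^ n ≠ 1 := by
  have ho : orderOf g ≠ 1 := fun e => hg1 (orderOf_eq_one_iff.mp e)
  have hp := Nat.minFac_prime ho
  refine ⟨orderOf g / (orderOf g).minFac, _, hp, ?_, ?_⟩
  · exact orderOf_pow_orderOf_div (orderOf_pos g).ne' (Nat.minFac_dvd _)
  · intro e
    have := orderOf_pow_orderOf_div (orderOf_pos g).ne' (Nat.minFac_dvd (orderOf g))
    rw [e, orderOf_one] at this
    exact hp.ne_one this.symm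

theorem cyclic_cent {g : Cfsg.Sz F m} (hg1 : g ≠ 1) (hf : Fpf g) : IsCyclic (Subgroup.centralizer {g}) := by
  obtain ⟨n, p, hp, hx, hx1⟩ := exists_prime_pow h hg1
  have := h.cyclic_cent_prime hp hx (h.fpf_of_pow hf hx1)
  suffices hle : Subgroup.centralizer {g} ≤ Subgroup.centralizer {g ^ n} from
    isCyclic_of_injective (Subgroup.inclusion hle) (Subgroup.inclusion_injective hle)
  intro c hc
  rw [Subgroup.mem_centralizer_singleton_iff] at hc ⊢
  exact (Commute.pow_right hc n).eq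

theorem cn : Cfsg.IsCNGroup (Cfsg.Sz F m) := by
  intro g hg
  by_cases hf : Fpf g
  · have := h.cyclic_cent hg hf
    have : ∀ a b : Subgroup.centralizer ({g} : Set (Cfsg.Sz F m)), a * b = b * a := fun a b => IsMulCommutative.is_comm.comm a b
    letI : CommGroup (Subgroup.centralizer ({g} : Set (Cfsg.Sz F m))) := { (inferInstance : Group _) with mul_comm := this }
    exact CommGroup.isNilpotent
  · unfold Fpf at hf; push Not at hf
    obtain ⟨p, hp⟩ := hf
    exact (h.cent_fix hg hp).1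

theorem sylow_odd_cyclic {p : ℕ} [hp : Fact p.Prime] (hp2 : p ≠ 2) (S : Sylow p (Cfsg.Sz F m)) : IsCyclic S := by
  rcases Subgroup.bot_or_exists_ne_one (S : Subgroup (Cfsg.Sz F m)) with e | ⟨y, hy, hy1⟩
  · rw [e]; infer_instance
  have : Nontrivial (S : Subgroup (Cfsg.Sz F m)) := ⟨⟨⟨y, hy⟩, 1, fun e => hy1 (congrArg Subtype.val e)⟩⟩
  have := S.2.center_nontrivial
  obtain ⟨⟨z, hz⟩, hz'⟩ := exists_ne (1 : Subgroup.center (S : Subgroup (Cfsg.Sz F m)))
  have hz1 : (z : Cfsg.Sz F m) ≠ 1 := fun e => hz' (Subtype.ext (Subtype.ext e))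
  have hle : (S : Subgroup (Cfsg.Sz F m)) ≤ Subgroup.centralizer {(z : Cfsg.Sz F m)} := fun c hc => by
    rw [Subgroup.mem_centralizer_singleton_iff]
    exact congrArg Subtype.val (Subgroup.mem_center_iff.mp hz ⟨c, hc⟩)
  suffices hc : IsCyclic (Subgroup.centralizer {(z : Cfsg.Sz F m)}) from
    isCyclic_of_injective (Subgroup.inclusion hle) (Subgroup.inclusion_injective hle)
  by_cases hf : Fpf (z : Cfsg.Sz F m)
  · exact h.cyclic_cent hz1 hf
  · unfold Fpf at hf; push Not at hf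
    obtain ⟨r, hr⟩ := hf
    obtain ⟨k, -, ⟨a, b, hne, e⟩ | ⟨d, hd, e⟩⟩ := h.classify hz1 hr
    · exfalso
      obtain ⟨i, hi⟩ := (S.2 z)
      have h1 : orderOf (h.tG a b) ∣ p ^ i := by
        have : (z : Cfsg.Sz F m) ^ p ^ i = 1 := congrArg Subtype.val hi
        rw [e, conj_pow] at this
        exact orderOf_dvd_of_pow_eq_one (conj_eq_one_iff.mp this)
      obtain ⟨j, hj⟩ := h.isPGroup_Q ⟨_, a, b, rfl⟩
      have h2 : orderOf (h.tG a b) ∣ 2 ^ j := orderOf_dvd_of_pow_eq_one (congrArg Subtype.val hj)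
      refine hne (orderOf_eq_one_iff.mp (Nat.eq_one_of_dvd_coprimes ?_ h1 h2))
      exact Nat.Coprime.pow _ _ ((Nat.coprime_primes hp.out Nat.prime_two).mpr hp2)
    · rw [e, centralizer_conj, h.cent_hG hd]
      have : IsCyclic h.hG.range := isCyclic_of_surjective h.hG.rangeRestrict h.hG.rangeRestrict_surjective
      exact isCyclic_of_surjective _ (Subgroup.equivMapOfInjective _ (MulAut.conj k).toMonoidHom (MulAut.conj k).injective).surjective

end Hyp

end CfsgLib.Suzuki
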